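import Mathlib

/-!
# Orbits of Sylow subgroups

-/

set_option autoImplicit false
set_option linter.style.haveILetI false

namespace Cfsg.Agent.OstromWagner

variable {G : Type*} [Group G] [Finite G] {X : Type*} [MulAction G X]

omit [Finite G] in
theorem card_inf_stab_mul (H : Subgroup G) (x : X) :
    Nat.card (H ⊓ MulAction.stabilizer G x : Subgroup G) * (MulAction.orbit H x).ncard = Nat.card H := by
  rw [← Subgroup.card_mul_index (MulAction.stabilizer H x), MulAction.index_stabilizer]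
  congr 1
  exact Nat.card_congr
    { toFun := fun g => (⟨⟨g.1, g.2.1⟩, g.2.2⟩ : MulAction.stabilizer H x)
      invFun := fun g => (⟨g.1.1, g.1.2, g.2⟩ : (H ⊓ MulAction.stabilizer G x : Subgroup G))
      left_inv := fun _ => rfl
      right_inv := fun _ => rfl }

/-- A Sylow subgroup keeps the `p`-part of every orbit. -/
theorem pow_dvd_orbit {p b : ℕ} (hp : p.Prime) {Q H : Subgroup G} (hQH : Q ≤ H)
    (hi : ¬ p ∣ Q.relIndex H) (x : X) (hb : p ^ b ∣ (MulAction.orbit H x).ncard) :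
    p ^ b ∣ (MulAction.orbit Q x).ncard := by
  haveI : Fact p.Prime := ⟨hp⟩
  have hH := card_inf_stab_mul H x
  have hQ := card_inf_stab_mul Q x
  have hidx : Nat.card Q * Q.relIndex H = Nat.card H := by
    rw [Subgroup.relIndex, ← Nat.card_congr (Subgroup.subgroupOfEquivOfLe hQH).toEquiv]
    exact Subgroup.card_mul_index _
  have hd : Nat.card (Q ⊓ MulAction.stabilizer G x : Subgroup G) ∣
      Nat.card (H ⊓ MulAction.stabilizer G x : Subgroup G) :=
    Subgroup.card_dvd_of_le (inf_le_inf_right _ hQH)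
  have h1 : Nat.card (Q ⊓ MulAction.stabilizer G x : Subgroup G) * p ^ b ∣ Nat.card Q * Q.relIndex H := by
    rw [hidx, ← hH]
    exact Nat.mul_dvd_mul hd hb
  rw [← hQ, mul_assoc] at h1
  have h2 := Nat.dvd_of_mul_dvd_mul_left Nat.card_pos h1
  exact (Nat.Coprime.pow_left b ((Nat.Prime.coprime_iff_not_dvd hp).mpr hi)).dvd_of_dvd_mul_right h2

theorem orbit_eq_of_pow {p b : ℕ} (hp : p.Prime) [Finite X] {Q H : Subgroup G} (hQH : Q ≤ H)
    (hi : ¬ p ∣ Q.relIndex H) (x : X) {S : Set X} (hS : MulAction.orbit H x = S)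
    (hb : S.ncard = p ^ b) : MulAction.orbit Q x = S := by
  subst hS
  refine Set.eq_of_subset_of_ncard_le (fun y ⟨g, e⟩ => ⟨⟨g.1, hQH g.2⟩, e⟩) ?_
  rw [hb]
  refine Nat.le_of_dvd ?_ (pow_dvd_orbit hp hQH hi x (dvd_of_eq hb.symm))
  exact (Set.ncard_pos (Set.toFinite _)).mpr ⟨x, MulAction.mem_orbit_self x⟩

/-- Sylow subgroups inside a subgroup of index prime to `p`, containing a given `p`-subgroup. -/
theorem exists_sylow_le {p : ℕ} (hp : p.Prime) {A S : Subgroup G} (hA : IsPGroup p A) (hAS : A ≤ S)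
    (hi : ¬ p ∣ S.index) : ∃ Q : Subgroup G, A ≤ Q ∧ Q ≤ S ∧ IsPGroup p Q ∧ ¬ p ∣ Q.index := by
  haveI : Fact p.Prime := ⟨hp⟩
  obtain ⟨Q, hQ⟩ := (hA.comap_subtype (K := S)).exists_le_sylow
  refine ⟨(Q : Subgroup S).map S.subtype, fun a ha => ⟨⟨a, hAS ha⟩, hQ ha, rfl⟩,
    Subgroup.map_subtype_le _, Q.2.map _, ?_⟩
  rw [Subgroup.index_map_subtype]
  exact hp.not_dvd_mul Q.not_dvd_index hi

theorem card_eq_of_not_dvd_index {p : ℕ} (hp : p.Prime) {Q Q' : Subgroup G} (hQ : IsPGroup p Q)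
    (hQ' : IsPGroup p Q') (hi : ¬ p ∣ Q.index) (hi' : ¬ p ∣ Q'.index) :
    Nat.card Q = Nat.card Q' := by
  haveI : Fact p.Prime := ⟨hp⟩
  have key : ∀ A B : Subgroup G, IsPGroup p A → ¬ p ∣ B.index → Nat.card A ∣ Nat.card B := by
    intro A B hA hB
    obtain ⟨j, hj⟩ := IsPGroup.iff_card.mp hA
    have h := Subgroup.card_subgroup_dvd_card A
    rw [← Subgroup.card_mul_index B, hj] at h
    exact hj ▸ (Nat.Coprime.pow_left j ((Nat.Prime.coprime_iff_not_dvd hp).mpr hB)).dvd_of_dvd_mul_right h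
  exact Nat.dvd_antisymm (key _ _ hQ hi') (key _ _ hQ' hi)

/-- A nontrivial `p`-group has a nontrivial central element, of order `p`. -/
theorem exists_central {p : ℕ} (hp : p.Prime) {Q : Subgroup G} (hQ : IsPGroup p Q) (h1 : Q ≠ ⊥) :
    ∃ z ∈ Q, z ≠ 1 ∧ z ^ p = 1 ∧ ∀ g ∈ Q, Commute z g := by
  haveI : Fact p.Prime := ⟨hp⟩
  haveI : Nontrivial Q := (Subgroup.nontrivial_iff_ne_bot Q).mpr h1
  haveI : Nontrivial (Subgroup.center Q) := hQ.center_nontrivial
  obtain ⟨j, hj⟩ := IsPGroup.iff_card.mp (hQ.to_subgroup (Subgroup.center Q))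
  have hj0 : j ≠ 0 := fun e => by
    have := Finite.one_lt_card (α := Subgroup.center Q)
    rw [hj, e, pow_zero] at this
    omega
  obtain ⟨⟨⟨z, hzQ⟩, hzc⟩, hz⟩ := exists_prime_orderOf_dvd_card' p (hj ▸ dvd_pow_self p hj0 :
    p ∣ Nat.card (Subgroup.center Q))
  rw [Subgroup.orderOf_mk, Subgroup.orderOf_mk] at hz
  refine ⟨z, hzQ, fun e => hp.ne_one (by rw [← hz, e, orderOf_one]), hz ▸ pow_orderOf_eq_one z,
    fun g hg => ?_⟩
  exact (congrArg Subtype.val (Subgroup.mem_center_iff.mp hzc ⟨g, hg⟩)).symm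

end Cfsg.Agent.OstromWagner
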