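import Cfsg.Agent.Lib.OstromWagner.Sub
import Cfsg.Agent.Lib.OstromWagner.SylowTools

/-!
# The chain of Baer subplanes

The order of a plane is a power `k ^ 2 ^ r` of the order of the fixed subplane of a `2`-group.
-/

set_option autoImplicit false
set_option linter.style.haveILetI false
set_option linter.unusedSectionVars false

namespace Cfsg.Agent.OstromWagner

open Configuration

universe u v

theorem order_inj {m m' : ℕ} (h : m ^ 2 + m + 1 = m' ^ 2 + m' + 1) : m = m' := by
  rcases lt_trichotomy m m' with h' | h' | h'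
  · nlinarith
  · exact h'
  · nlinarith

section

variable {P : Type u} {L : Type v} [Membership P L] [ProjectivePlane P L] [Finite P] [Finite L]

theorem SubPlane.order_eq_of_ncard {P' : Type*} {L' : Type*} [Membership P' L'] [ProjectivePlane P' L']
    [Finite P'] [Finite L'] (Q : SubPlane P L) (Q' : SubPlane P' L')
    (h : Q.pts.ncard = Q'.pts.ncard) : ord(Q.pts, Q.lns) = ord(Q'.pts, Q'.lns) :=
  order_inj (Q.ncard_pts.symm.trans (h.trans Q'.ncard_pts))

theorem SubPlane.noThree_up (Q : SubPlane P L) {a b c : Q.pts}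
    (h : NoThree Q.lns a b c) : NoThree L (a : P) (b : P) (c : P) := by
  intro l h1 h2 h3
  have hab : (a : P) ≠ (b : P) := fun e => h.ne.1 (Subtype.ext e)
  exact h ⟨l, Q.join a a.2 b b.2 hab l h1 h2⟩ h1 h2 h3

theorem SubPlane.hasQuad_down (Q : SubPlane P L) {S : Set P} (hS : S ⊆ Q.pts) (h : HasQuad L S) :
    HasQuad Q.lns {p : Q.pts | (p : P) ∈ S} := by
  obtain ⟨a, ha, b, hb, c, hc, d, hd, h1, h2, h3, h4⟩ := h
  exact ⟨⟨a, hS ha⟩, ha, ⟨b, hS hb⟩, hb, ⟨c, hS hc⟩, hc, ⟨d, hS hd⟩, hd, fun l => h1 l.1,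
    fun l => h2 l.1, fun l => h3 l.1, fun l => h4 l.1⟩

theorem SubPlane.hasQuad_up (Q : SubPlane P L) {T : Set Q.pts} {S : Set P}
    (hTS : ∀ p ∈ T, (p : P) ∈ S) (h : HasQuad Q.lns T) : HasQuad L S := by
  obtain ⟨a, ha, b, hb, c, hc, d, hd, h1, h2, h3, h4⟩ := h
  exact ⟨_, hTS a ha, _, hTS b hb, _, hTS c hc, _, hTS d hd, Q.noThree_up h1, Q.noThree_up h2,
    Q.noThree_up h3, Q.noThree_up h4⟩

end

theorem order_chain (N : ℕ) : ∀ (P : Type u) (L : Type v) [Membership P L] [ProjectivePlane P L]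
    [Finite P] [Finite L] (R : Subgroup (Coll P L)), IsPGroup 2 R → ∀ h : HasQuad L (fixP R),
      Nat.card R = N → ∃ r, ord(P, L) = ord((fixedSub R h).pts, (fixedSub R h).lns) ^ (2 ^ r) := by
  induction N using Nat.strong_induction_on with | _ N ih =>
  intro P L _ _ _ _ R hR h hN
  by_cases hb : R = ⊥
  · refine ⟨0, ?_⟩
    rw [pow_zero, pow_one]
    refine order_inj (((card_pt (L := L)).symm.trans ?_).trans (fixedSub R h).ncard_pts)
    rw [show (fixedSub R h).pts = Set.univ from Set.eq_univ_of_forall fun p g hg => by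
      rw [hb, Subgroup.mem_bot] at hg; rw [hg, one_smul], Set.ncard_univ]
  obtain ⟨z, hzR, z1, hz2, hz⟩ := exists_central Nat.prime_two hR hb
  rw [pow_two] at hz2
  have hsub : fixP R ⊆ fixP (Subgroup.zpowers z) := fun p hp g hg =>
    hp g (Subgroup.zpowers_le.mpr hzR hg)
  have hq : HasQuad L (fixP (Subgroup.zpowers z)) := by
    obtain ⟨a, ha, b, hb', c, hc, d, hd, hh⟩ := h
    exact ⟨a, hsub ha, b, hsub hb', c, hsub hc, d, hsub hd, hh⟩
  set S := fixedSub _ hq with hS
  have hle : R ≤ S.stab := by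
    intro g hg
    have hc : ∀ k ∈ Subgroup.zpowers z, Commute k g := fun k hk => by
      obtain ⟨j, rfl⟩ := Subgroup.mem_zpowers_iff.mp hk
      exact (hz g hg).zpow_left j
    refine ⟨fun p => ⟨fun hp k hk => ?_, fun hp k hk => ?_⟩,
      fun p => ⟨fun hp k hk => ?_, fun hp k hk => ?_⟩⟩
    · exact MulAction.injective g (show g • k • p = g • p by
        rw [← mul_smul, ← (hc k hk).eq, mul_smul]; exact hp k hk)
    · rw [← mul_smul, (hc k hk).eq, mul_smul, hp k hk]
    · exact MulAction.injective g (show g • k • p = g • p by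
        rw [← mul_smul, ← (hc k hk).eq, mul_smul]; exact hp k hk)
    · rw [← mul_smul, (hc k hk).eq, mul_smul, hp k hk]
  set φ : R →* Coll S.pts S.lns := S.res.comp (Subgroup.inclusion hle) with hφ
  have hφs : ∀ (g : R) (p : S.pts), ((φ g • p : S.pts) : P) = (g : Coll P L) • (p : P) := fun _ _ => rfl
  set R' := φ.range with hR'
  have hlt : Nat.card R' < N := by
    have e := Subgroup.card_mul_index φ.ker
    rw [Subgroup.index_ker, hN, ← hR'] at e
    have h2 : 1 < Nat.card φ.ker := by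
      refine (Subgroup.one_lt_card_iff_ne_bot _).mpr fun hk => z1 ?_
      have : (⟨z, hzR⟩ : R) ∈ φ.ker := by
        refine (S.res_eq_one_iff _).mpr fun p hp => ?_
        exact hp z (Subgroup.mem_zpowers z)
      rw [hk, Subgroup.mem_bot] at this
      exact congrArg Subtype.val this
    rw [← e]
    exact lt_mul_of_one_lt_left Nat.card_pos h2
  have hR'p : IsPGroup 2 R' := by
    rw [hR', MonoidHom.range_eq_map]
    exact (hR.to_subgroup ⊤).map φ
  have hfix : fixP R' = {p : S.pts | (p : P) ∈ fixP R} := by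
    ext p
    constructor
    · intro hp g hg
      exact (hφs ⟨g, hg⟩ p).symm.trans (congrArg Subtype.val (hp _ ⟨⟨g, hg⟩, rfl⟩))
    · rintro hp _ ⟨g, rfl⟩
      exact Subtype.ext ((hφs g p).trans (hp g g.2))
  have hq' : HasQuad S.lns (fixP R') := hfix ▸ S.hasQuad_down hsub h
  obtain ⟨r, hr⟩ := ih _ hlt S.pts S.lns R' hR'p hq' rfl
  refine ⟨r + 1, ?_⟩
  have heq : ord((fixedSub R' hq').pts, (fixedSub R' hq').lns) =
      ord((fixedSub R h).pts, (fixedSub R h).lns) := by
    refine SubPlane.order_eq_of_ncard _ _ ?_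
    show (fixP R').ncard = (fixP R).ncard
    rw [hfix, ← Set.ncard_image_of_injective _ Subtype.val_injective]
    congr 1
    ext p
    exact ⟨by rintro ⟨q, hq, rfl⟩; exact hq, fun hp => ⟨⟨p, hsub hp⟩, hp, rfl⟩⟩
  rw [order_eq_sq hz2 z1 hq, ← hS, hr, heq, ← pow_mul, pow_succ]

end Cfsg.Agent.OstromWagner
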