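import Mathlib

/-!
# Collineations of projective planes

The group `Coll P L` of collineations of a configuration, its actions on points and lines, and the
elementary facts about fixed elements, centres and axes.
-/

set_option autoImplicit false
set_option linter.style.haveILetI false

namespace Cfsg.Agent.OstromWagner

open Configuration

variable {P L : Type*} [Membership P L]

/-- A collineation: permutations of points and lines preserving incidence. -/
@[ext]
structure Coll (P L : Type*) [Membership P L] where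
  /-- the action on points -/
  pt : Equiv.Perm P
  /-- the action on lines -/
  ln : Equiv.Perm L
  inc : ∀ p l, pt p ∈ ln l ↔ p ∈ l

namespace Coll

instance : One (Coll P L) := ⟨⟨1, 1, fun _ _ => Iff.rfl⟩⟩

instance : Mul (Coll P L) :=
  ⟨fun g h => ⟨g.pt * h.pt, g.ln * h.ln, fun p l => (g.inc _ _).trans (h.inc p l)⟩⟩

instance : Inv (Coll P L) :=
  ⟨fun g => ⟨g.pt⁻¹, g.ln⁻¹, fun p l => by
    have := g.inc (g.pt⁻¹ p) (g.ln⁻¹ l)
    simp only [← Equiv.Perm.mul_apply, mul_inv_cancel, Equiv.Perm.one_apply] at this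
    exact this.symm⟩⟩

instance : Group (Coll P L) :=
  Group.ofLeftAxioms (fun _ _ _ => Coll.ext rfl rfl) (fun _ => Coll.ext rfl rfl)
    (fun g => Coll.ext (inv_mul_cancel g.pt) (inv_mul_cancel g.ln))

instance : MulAction (Coll P L) P where
  smul g p := g.pt p
  one_smul _ := rfl
  mul_smul _ _ _ := rfl

instance instMulActionLine : MulAction (Coll P L) L where
  smul g l := g.ln l
  one_smul _ := rfl
  mul_smul _ _ _ := rfl

theorem pt_smul (g : Coll P L) (p : P) : g • p = g.pt p := rfl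

theorem ln_smul (g : Coll P L) (l : L) : g • l = g.ln l := rfl

theorem smul_mem (g : Coll P L) (p : P) (l : L) : g • p ∈ g • l ↔ p ∈ l := g.inc p l

theorem mem_smul_iff (g : Coll P L) (p : P) (l : L) : p ∈ g • l ↔ g⁻¹ • p ∈ l := by
  conv_lhs => rw [← smul_inv_smul g p]
  exact g.smul_mem _ _

theorem smul_mem_of_fixed {g : Coll P L} {l : L} (h : g • l = l) {p : P} (hp : p ∈ l) :
    g • p ∈ l := h ▸ (g.smul_mem p l).mpr hp

instance [Finite P] [Finite L] : Finite (Coll P L) :=
  Finite.of_injective (fun g => (g.pt, g.ln))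
    (fun _ _ h => Coll.ext (Prod.ext_iff.mp h).1 (Prod.ext_iff.mp h).2)

/-- Collineations of the dual configuration. -/
def toDual : Coll P L ≃* Coll (Dual L) (Dual P) where
  toFun g := ⟨g.ln, g.pt, fun l p => g.inc p l⟩
  invFun g := ⟨g.ln, g.pt, fun p l => g.inc l p⟩
  left_inv _ := rfl
  right_inv _ := rfl
  map_mul' _ _ := rfl

end Coll

section Plane

variable [ProjectivePlane P L]

theorem line_unique {p q : P} {l m : L} (h : p ≠ q) (hpl : p ∈ l) (hql : q ∈ l) (hpm : p ∈ m)
    (hqm : q ∈ m) : l = m :=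
  (Nondegenerate.eq_or_eq hpl hql hpm hqm).resolve_left h

theorem point_unique {p q : P} {l m : L} (h : l ≠ m) (hpl : p ∈ l) (hpm : p ∈ m) (hql : q ∈ l)
    (hqm : q ∈ m) : p = q :=
  (Nondegenerate.eq_or_eq hpl hql hpm hqm).resolve_right h

theorem exists_join {p q : P} (h : p ≠ q) : ∃ l : L, p ∈ l ∧ q ∈ l :=
  ⟨_, HasLines.mkLine_ax h⟩

theorem exists_meet {l m : L} (h : l ≠ m) : ∃ p : P, p ∈ l ∧ p ∈ m :=
  ⟨_, HasPoints.mkPoint_ax h⟩

theorem exists_meet' [Finite P] [Finite L] (l m : L) : ∃ p : P, p ∈ l ∧ p ∈ m := by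
  by_cases h : l = m
  · subst h
    have := ProjectivePlane.two_lt_pointCount P l
    obtain ⟨⟨p, hp⟩⟩ := (Nat.card_pos_iff.mp
      (show 0 < Nat.card { p : P // p ∈ l } from lt_trans two_pos this)).1
    exact ⟨p, hp, hp⟩
  · exact exists_meet h

theorem exists_join' [Finite P] [Finite L] (p q : P) : ∃ l : L, p ∈ l ∧ q ∈ l :=
  exists_meet' (P := Dual L) (L := Dual P) p q

namespace Coll

/-- A collineation is determined by its action on points. -/
theorem ext_pt [Finite P] [Finite L] {g h : Coll P L} (e : ∀ p : P, g • p = h • p) : g = h := by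
  refine Coll.ext (Equiv.ext e) (Equiv.ext fun l => ?_)
  have h2 := ProjectivePlane.two_lt_pointCount P l
  haveI : Nontrivial { p : P // p ∈ l } :=
    Finite.one_lt_card_iff_nontrivial.mp (lt_trans one_lt_two h2)
  obtain ⟨⟨p, hp⟩, ⟨q, hq⟩, hpq⟩ := exists_pair_ne { p : P // p ∈ l }
  have hne : g • p ≠ g • q := fun he => hpq (Subtype.ext (MulAction.injective g he))
  refine line_unique hne ((g.smul_mem p l).mpr hp) ((g.smul_mem q l).mpr hq) ?_ ?_
  · rw [e p]; exact (h.smul_mem p l).mpr hp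
  · rw [e q]; exact (h.smul_mem q l).mpr hq

theorem eq_one_of_forall [Finite P] [Finite L] {g : Coll P L} (e : ∀ p : P, g • p = p) : g = 1 :=
  ext_pt fun p => by rw [e p, one_smul]

theorem fixed_line_of_two {g : Coll P L} {p q : P} {l : L} (h : p ≠ q) (hp : g • p = p)
    (hq : g • q = q) (hpl : p ∈ l) (hql : q ∈ l) : g • l = l :=
  line_unique h (hp ▸ (g.smul_mem p l).mpr hpl) (hq ▸ (g.smul_mem q l).mpr hql) hpl hql

theorem fixed_point_of_two {g : Coll P L} {l m : L} {p : P} (h : l ≠ m) (hl : g • l = l)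
    (hm : g • m = m) (hpl : p ∈ l) (hpm : p ∈ m) : g • p = p :=
  point_unique h (smul_mem_of_fixed hl hpl) (smul_mem_of_fixed hm hpm) hpl hpm

end Coll

variable [Finite P] [Finite L]

/-- The order of the plane. -/
scoped notation "ord(" P ", " L ")" => ProjectivePlane.order P L

theorem ncard_line (l : L) : {p : P | p ∈ l}.ncard = ord(P, L) + 1 :=
  (Nat.card_coe_set_eq _).symm.trans (ProjectivePlane.pointCount_eq P l)

theorem ncard_lines (p : P) : {l : L | p ∈ l}.ncard = ord(P, L) + 1 :=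
  (Nat.card_coe_set_eq _).symm.trans (ProjectivePlane.lineCount_eq L p)

theorem card_pt : Nat.card P = ord(P, L) ^ 2 + ord(P, L) + 1 := by
  haveI := Fintype.ofFinite P
  rw [Nat.card_eq_fintype_card, ProjectivePlane.card_points P L]

theorem card_ln : Nat.card L = ord(P, L) ^ 2 + ord(P, L) + 1 := by
  haveI := Fintype.ofFinite L
  rw [Nat.card_eq_fintype_card, ProjectivePlane.card_lines P L]

theorem ncard_affine (l : L) : {p : P | p ∉ l}.ncard = ord(P, L) ^ 2 := by
  have h := Set.ncard_add_ncard_compl {p : P | p ∈ l}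
  rw [ncard_line, card_pt (L := L)] at h
  change {p : P | p ∈ l}ᶜ.ncard = _
  omega

theorem ncard_line_diff {p : P} {l : L} (h : p ∈ l) :
    {q : P | q ∈ l ∧ q ≠ p}.ncard = ord(P, L) := by
  rw [show {q : P | q ∈ l ∧ q ≠ p} = {q : P | q ∈ l} \ {p} from rfl,
    Set.ncard_sdiff_singleton_of_mem (show p ∈ {q : P | q ∈ l} from h), ncard_line,
    Nat.add_sub_cancel]

theorem ncard_lines_diff {p : P} {l : L} (h : p ∈ l) :
    {m : L | p ∈ m ∧ m ≠ l}.ncard = ord(P, L) := by
  rw [show {m : L | p ∈ m ∧ m ≠ l} = {m : L | p ∈ m} \ {l} from rfl,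
    Set.ncard_sdiff_singleton_of_mem (show l ∈ {m : L | p ∈ m} from h), ncard_lines,
    Nat.add_sub_cancel]

omit [Finite P] [Finite L] in
/-- Projection of the pencil at `p` onto a line off `p`. -/
theorem ncard_pencil {p : P} {l : L} (hp : p ∉ l) (Φ : L → Prop) (Ψ : P → Prop)
    (h : ∀ q m, q ∈ l → q ∈ m → p ∈ m → (Φ m ↔ Ψ q)) :
    {m : L | p ∈ m ∧ Φ m}.ncard = {q : P | q ∈ l ∧ Ψ q}.ncard := by
  have hne : ∀ m, p ∈ m → m ≠ l := fun m hm he => hp (he ▸ hm)
  refine Set.ncard_congr (fun m hm => HasPoints.mkPoint (hne m hm.1)) ?_ ?_ ?_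
  · intro m hm
    obtain ⟨h1, h2⟩ := HasPoints.mkPoint_ax (P := P) (hne m hm.1)
    exact ⟨h2, (h _ m h2 h1 hm.1).mp hm.2⟩
  · intro m m' hm hm' he
    obtain ⟨h1, h2⟩ := HasPoints.mkPoint_ax (P := P) (hne m hm.1)
    obtain ⟨h1', -⟩ := HasPoints.mkPoint_ax (P := P) (hne m' hm'.1)
    refine line_unique ?_ hm.1 h1 hm'.1 (he ▸ h1')
    exact fun e => hp (e ▸ h2)
  · intro q hq
    have hpq : p ≠ q := fun e => hp (e ▸ hq.1)
    obtain ⟨m, hpm, hqm⟩ := exists_join (L := L) hpq
    refine ⟨m, ⟨hpm, (h q m hq.1 hqm hpm).mpr hq.2⟩, ?_⟩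
    obtain ⟨h1, h2⟩ := HasPoints.mkPoint_ax (P := P) (hne m hpm)
    exact point_unique (hne m hpm) h1 h2 hqm hq.1

theorem order_pos : 0 < ord(P, L) := lt_trans one_pos (ProjectivePlane.one_lt_order P L)

theorem exists_not_mem_two (l m : L) : ∃ p : P, p ∉ l ∧ p ∉ m := by
  by_contra hc
  push Not at hc
  have h1 : {p : P | p ∉ l} ⊆ {p : P | p ∈ m} := fun p hp => hc p hp
  have h2 := Set.ncard_le_ncard h1
  rw [ncard_affine, ncard_line] at h2
  nlinarith [ProjectivePlane.one_lt_order P L]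

theorem exists_not_on_two (p q : P) : ∃ l : L, p ∉ l ∧ q ∉ l :=
  exists_not_mem_two (P := Dual L) (L := Dual P) p q

theorem exists_mem_ne_ne (l : L) (p q : P) : ∃ r : P, r ∈ l ∧ r ≠ p ∧ r ≠ q := by
  by_contra hc
  push Not at hc
  have h1 : {r : P | r ∈ l} ⊆ {p, q} := fun r hr => by
    by_cases h : r = p
    · exact Or.inl h
    · exact Or.inr (hc r hr h)
  have h2 := (Set.ncard_le_ncard h1).trans (Set.ncard_insert_le p {q})
  rw [ncard_line, Set.ncard_singleton] at h2
  nlinarith [ProjectivePlane.one_lt_order P L]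

theorem exists_line_ne_ne (p : P) (l m : L) : ∃ r : L, p ∈ r ∧ r ≠ l ∧ r ≠ m :=
  exists_mem_ne_ne (P := Dual L) (L := Dual P) p l m

end Plane

end Cfsg.Agent.OstromWagner
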