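import Cfsg.Agent.Lib.OstromWagner.Slopes

/-!
# Coordinates

A finite plane all whose lines are translation lines is Desarguesian.
-/

set_option autoImplicit false
set_option linter.style.haveILetI false
set_option maxHeartbeats 1000000

namespace Cfsg.Agent.OstromWagner

open Configuration Module

variable {P L : Type*} [Membership P L] [ProjectivePlane P L] [Finite P] [Finite L]

theorem desarguesian_of_fullTrans (hfull : ∀ a : L, FullTrans (P := P) a) :
    ∃ (F : Type) (_ : Field F) (_ : Fintype F) (φ : P ≃ Projectivization F (Fin 3 → F)),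
      (∀ l : L, ∃ W : Submodule F (Fin 3 → F), finrank F W = 2 ∧
          ∀ p : P, p ∈ l ↔ (φ p).submodule ≤ W) ∧
      (∀ W : Submodule F (Fin 3 → F), finrank F W = 2 →
          ∃ l : L, ∀ p : P, p ∈ l ↔ (φ p).submodule ≤ W) := by
  classical
  obtain ⟨O₁, -, -, l, -, -, -, -, -, -, -, -, -, -⟩ :=
    (ProjectivePlane.exists_config : ∃ (p₁ p₂ p₃ : P) (l₁ l₂ l₃ : L), _)
  obtain ⟨O, hO, -⟩ := exists_not_mem_two (P := P) l l
  obtain ⟨X, hX, -⟩ := exists_meet' (P := P) l l
  obtain ⟨Y, hY, hYX, -⟩ := exists_mem_ne_ne l X X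
  obtain ⟨U, hU, hUX, hUY⟩ := exists_mem_ne_ne l X Y
  obtain ⟨F, iF, iFt, hF, c1, c2, sl, hadd, hzero, hYc, hsl, hslinj⟩ :=
    exists_slopes hfull hO hX hY hU hYX.symm hUX.symm hUY.symm
  have hl := hfull l
  choose τ hτ hτO using fun (p : P) (hp : p ∉ l) => hl O p hO hp
  let vec : P → Fin 3 → F := fun p =>
    if hp : p ∉ l then ![1, c1 (τ p hp), c2 (τ p hp)] else
      if p = Y then ![0, 0, 1] else ![0, 1, sl p]
  have vaff : ∀ p (hp : p ∉ l), vec p = ![1, c1 (τ p hp), c2 (τ p hp)] := fun p hp => dif_pos hp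
  have vY : vec Y = ![0, 0, 1] := by simp [vec, hY]
  have vinf : ∀ p, p ∈ l → p ≠ Y → vec p = ![0, 1, sl p] := fun p hp hpY => by
    simp [vec, hp, hpY]
  have vne : ∀ p, vec p ≠ 0 := fun p h => by
    by_cases hp : p ∈ l
    · by_cases hpY : p = Y
      · rw [hpY, vY] at h; simpa using congrFun h 2
      · rw [vinf p hp hpY] at h; simpa using congrFun h 1
    · rw [vaff p hp] at h; simpa using congrFun h 0
  let f : P → Projectivization F (Fin 3 → F) := fun p => Projectivization.mk F (vec p) (vne p)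
  have hdiff : ∀ s ∈ Trans l, ∀ t ∈ Trans l, c1 (s * t⁻¹) = c1 s - c1 t ∧
      c2 (s * t⁻¹) = c2 s - c2 t := fun s hs t ht => by
    have h := hadd (s * t⁻¹) (mul_mem hs (inv_mem ht)) t ht
    rw [inv_mul_cancel_right] at h
    exact ⟨eq_sub_of_add_eq h.1.symm, eq_sub_of_add_eq h.2.symm⟩
  have finj : Function.Injective f := by
    intro p q e
    obtain ⟨a, ha⟩ := (Projectivization.mk_eq_mk_iff' F _ _ (vne p) (vne q)).mp e
    have h0 := congrFun ha 0
    have h1 := congrFun ha 1
    have h2 := congrFun ha 2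
    by_cases hp : p ∈ l <;> by_cases hq : q ∈ l
    · by_cases hpY : p = Y <;> by_cases hqY : q = Y
      · rw [hpY, hqY]
      · rw [hpY, vY, vinf q hq hqY] at ha h1 h2
        simp at h1 h2
        rw [h1, zero_mul] at h2
        exact absurd h2 zero_ne_one
      · rw [hqY, vY, vinf p hp hpY] at h1
        simp at h1
      · rw [vinf q hq hqY, vinf p hp hpY] at h1 h2
        simp at h1 h2
        rw [h1, one_mul] at h2
        exact hslinj p q hp hpY hq hqY h2.symm
    · rw [vaff q hq] at h0 h1 h2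
      by_cases hpY : p = Y
      · rw [hpY, vY] at h0 h1 h2
        simp at h0 h1 h2
        rw [h0, zero_mul] at h2
        exact absurd h2 zero_ne_one
      · rw [vinf p hp hpY] at h0 h1
        simp at h0 h1
        rw [h0, zero_mul] at h1
        exact absurd h1 zero_ne_one
    · rw [vaff p hp] at h0
      by_cases hqY : q = Y
      · rw [hqY, vY] at h0; simp at h0
      · rw [vinf q hq hqY] at h0; simp at h0
    · rw [vaff q hq, vaff p hp] at h0 h1 h2
      simp at h0 h1 h2
      rw [h0, one_mul] at h1 h2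
      have e1 := hdiff _ (hτ p hp) _ (hτ q hq)
      have := hzero _ (mul_mem (hτ p hp) (inv_mem (hτ q hq))) (by rw [e1.1, h1, sub_self])
        (by rw [e1.2, h2, sub_self])
      rw [← hτO p hp, ← hτO q hq, mul_inv_eq_one.mp this]
  have fbij : Function.Bijective f := by
    refine (Nat.bijective_iff_injective_and_card f).mpr ⟨finj, ?_⟩
    rw [card_pt (L := L), Projectivization.card_of_finrank F _ (n := 3) (by simp), hF]
    simp [Finset.sum_range_succ]
    ring
  have hlin : ∀ m : L, ∃ φ : (Fin 3 → F) →ₗ[F] F, φ ≠ 0 ∧ ∀ p, p ∈ m → φ (vec p) = 0 := by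
    intro m
    let pr : Fin 3 → (Fin 3 → F) →ₗ[F] F := fun i => LinearMap.proj i
    by_cases hm : m = l
    · refine ⟨pr 0, fun h => by simpa [pr] using DFunLike.congr_fun h (Pi.single 0 1), fun p hp => ?_⟩
      rw [hm] at hp
      by_cases hpY : p = Y
      · rw [hpY, vY]; simp [pr]
      · rw [vinf p hp hpY]; simp [pr]
    obtain ⟨c, hcm, hcl⟩ := exists_meet (P := P) hm
    obtain ⟨a0, ha0m, ha0c, -⟩ := exists_mem_ne_ne m c c
    have ha0 : a0 ∉ l := fun h => ha0c (point_unique hm ha0m h hcm hcl)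
    have key : ∀ p (hp : p ∉ l), p ∈ m → τ p hp * (τ a0 ha0)⁻¹ ∈ Cn c := fun p hp hpm => by
      refine (Trans.mem_Cn_iff (mul_mem (hτ p hp) (inv_mem (hτ a0 ha0))) ha0 ha0m hcm hcl).mpr ?_
      have : (τ a0 ha0)⁻¹ • a0 = O := inv_smul_eq_iff.mpr (hτO a0 ha0).symm
      rw [mul_smul, this, hτO]
      exact hpm
    have honl : ∀ p, p ∈ m → p ∈ l → p = c := fun p h h' => point_unique hm h h' hcm hcl
    by_cases hcY : c = Y
    · refine ⟨pr 1 - c1 (τ a0 ha0) • pr 0, fun h => ?_, fun p hp => ?_⟩
      · have := DFunLike.congr_fun h (Pi.single 1 1)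
        simp [pr] at this
      by_cases hpl : p ∈ l
      · rw [honl p hp hpl, hcY, vY]; simp [pr]
      · rw [vaff p hpl]
        have hc := key p hpl hp
        rw [hcY, hYc _ (mul_mem (hτ p hpl) (inv_mem (hτ a0 ha0))),
          (hdiff _ (hτ p hpl) _ (hτ a0 ha0)).1, sub_eq_zero] at hc
        simp [pr, hc]
    · refine ⟨pr 2 - sl c • pr 1 - (c2 (τ a0 ha0) - sl c * c1 (τ a0 ha0)) • pr 0, fun h => ?_,
        fun p hp => ?_⟩
      · have := DFunLike.congr_fun h (Pi.single 2 1)
        simp [pr] at this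
      by_cases hpl : p ∈ l
      · rw [honl p hp hpl, vinf c hcl hcY]; simp [pr]
      · rw [vaff p hpl]
        have hc := key p hpl hp
        rw [hsl c hcl hcY _ (mul_mem (hτ p hpl) (inv_mem (hτ a0 ha0))),
          (hdiff _ (hτ p hpl) _ (hτ a0 ha0)).1, (hdiff _ (hτ p hpl) _ (hτ a0 ha0)).2] at hc
        simp [pr]
        linear_combination hc
  let φ := Equiv.ofBijective f fbij
  have h3 : finrank F (Fin 3 → F) = 3 := by simp
  have hW : ∀ m : L, ∃ W : Submodule F (Fin 3 → F), finrank F W = 2 ∧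
      ∀ p, p ∈ m → (φ p).submodule ≤ W := fun m => by
    obtain ⟨ψ, hψ, hψ'⟩ := hlin m
    refine ⟨LinearMap.ker ψ, ?_, fun p hp => ?_⟩
    · have := Module.Dual.finrank_ker_add_one_of_ne_zero hψ
      omega
    · show (Projectivization.mk F (vec p) (vne p)).submodule ≤ _
      rw [Projectivization.submodule_mk, Submodule.span_singleton_le_iff_mem]
      exact hψ' p hp
  have huniq : ∀ (W W' : Submodule F (Fin 3 → F)), finrank F W = 2 → finrank F W' = 2 →
      ∀ p q : P, p ≠ q → (φ p).submodule ≤ W → (φ q).submodule ≤ W → (φ p).submodule ≤ W' →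
        (φ q).submodule ≤ W' → W = W' := by
    intro W W' hW2 hW2' p q hpq hp hq hp' hq'
    have hsup : ∀ V : Submodule F (Fin 3 → F), (φ p).submodule ≤ V → (φ q).submodule ≤ V →
        finrank F V ≤ 2 → (φ p).submodule ⊔ (φ q).submodule = V := by
      intro V h h' h2
      refine Submodule.eq_of_le_of_finrank_le (sup_le h h') (h2.trans ?_)
      have hlt : (φ p).submodule < (φ p).submodule ⊔ (φ q).submodule := lt_of_le_of_ne le_sup_left
        fun e => hpq (φ.injective (Projectivization.submodule_injective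
          (Submodule.eq_of_le_of_finrank_le (sup_eq_left.mp e.symm)
            (by rw [Projectivization.finrank_submodule, Projectivization.finrank_submodule])).symm))
      have := Submodule.finrank_lt_finrank_of_lt hlt
      rw [Projectivization.finrank_submodule] at this
      omega
    exact (hsup W hp hq hW2.le).symm.trans (hsup W' hp' hq' hW2'.le)
  have hiff : ∀ m : L, ∃ W : Submodule F (Fin 3 → F), finrank F W = 2 ∧
      ∀ p, p ∈ m ↔ (φ p).submodule ≤ W := by
    intro m
    obtain ⟨W, hW2, hWm⟩ := hW m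
    refine ⟨W, hW2, fun p => ⟨hWm p, fun hp => ?_⟩⟩
    by_contra hpm
    have hall : ∀ q, (φ q).submodule ≤ W := by
      intro q
      by_cases hqp : q = p
      · exact hqp ▸ hp
      obtain ⟨k, hqk, hpk⟩ := exists_join (L := L) hqp
      obtain ⟨r, hrk, hrm⟩ := exists_meet' (P := P) k m
      obtain ⟨W', hW2', hWk⟩ := hW k
      have hrp : r ≠ p := fun e => hpm (e ▸ hrm)
      rw [huniq W W' hW2 hW2' r p hrp (hWm r hrm) hp (hWk r hrk) (hWk p hpk)]
      exact hWk q hqk
    have : W = ⊤ := by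
      rw [eq_top_iff]
      intro v _
      by_cases hv : v = 0
      · rw [hv]; exact W.zero_mem
      obtain ⟨q, hq⟩ := φ.surjective (Projectivization.mk F v hv)
      have := hall q
      rw [hq, Projectivization.submodule_mk] at this
      exact this (Submodule.mem_span_singleton_self v)
    rw [this, finrank_top] at hW2
    omega
  refine ⟨F, iF, iFt, φ, hiff, fun W hW2 => ?_⟩
  obtain ⟨v, w, hv, hw, hne⟩ : ∃ v w : P, (φ v).submodule ≤ W ∧ (φ w).submodule ≤ W ∧ v ≠ w := by
    let b := Module.finBasisOfFinrankEq F W hW2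
    have hb := b.linearIndependent.map' W.subtype (Submodule.ker_subtype W)
    have n0 := hb.ne_zero 0
    have n1 := hb.ne_zero 1
    obtain ⟨v, hv⟩ := φ.surjective (Projectivization.mk F _ n0)
    obtain ⟨w, hw⟩ := φ.surjective (Projectivization.mk F _ n1)
    refine ⟨v, w, ?_, ?_, fun e => ?_⟩
    · rw [hv, Projectivization.submodule_mk, Submodule.span_singleton_le_iff_mem]
      exact (b 0).2
    · rw [hw, Projectivization.submodule_mk, Submodule.span_singleton_le_iff_mem]
      exact (b 1).2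
    · rw [e, hw] at hv
      obtain ⟨a, ha⟩ := (Projectivization.mk_eq_mk_iff' F _ _ n0 n1).mp hv.symm
      exact ((linearIndependent_fin2.mp hb).2 a) ha
  obtain ⟨m, hvm, hwm⟩ := exists_join (L := L) hne
  obtain ⟨W', hW2', hWm⟩ := hiff m
  exact ⟨m, huniq W W' hW2 hW2' v w hne hv hw ((hWm v).mp hvm) ((hWm w).mp hwm) ▸ hWm⟩

end Cfsg.Agent.OstromWagner
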