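import Cfsg.Agent.Lib.OstromWagner.Trans

/-!
# The directions of a translation line

For a translation line `l` the translations with a given centre on `l` form the congruence
partition of the translation group.
-/

set_option autoImplicit false
set_option linter.style.haveILetI false

namespace Cfsg.Agent.OstromWagner

open Configuration

variable {P L : Type*} [Membership P L] [ProjectivePlane P L] [Finite P] [Finite L] {l : L}

theorem Trans.ext_of_smul {t t' : Coll P L} (ht : t ∈ Trans l) (ht' : t' ∈ Trans l) {p : P}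
    (hp : p ∉ l) (e : t • p = t' • p) : t = t' :=
  (inv_mul_eq_one.mp (Trans.eq_one (mul_mem (inv_mem ht') ht) hp
    (by rw [mul_smul, e, inv_smul_smul]))).symm

theorem Trans.mem_Cn_iff {t : Coll P L} (ht : t ∈ Trans l) {p c : P} {m : L} (hp : p ∉ l)
    (hpm : p ∈ m) (hcm : c ∈ m) (hcl : c ∈ l) : t ∈ Cn c ↔ t • p ∈ m := by
  refine ⟨fun h => Coll.smul_mem_of_fixed (h m hcm) hpm, fun h => ?_⟩
  rcases eq_or_ne t 1 with rfl | t1
  · exact one_mem _
  have hne : t • p ≠ p := fun e => t1 (Trans.eq_one ht hp e)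
  obtain ⟨d, hd⟩ := Ax.exists_centre ht.1
  have hml : m ≠ l := fun e => hp (e ▸ hpm)
  rwa [point_unique hml hcm hcl (centre_mem hd hne hpm h) (Trans.centre_mem_axis ht hd t1)]

theorem Trans.commute_full (hl : FullTrans (P := P) l) {s t : Coll P L} (hs : s ∈ Trans l)
    (ht : t ∈ Trans l) : s * t = t * s :=
  TwoDir.commute le_rfl hl.twoDir hs ht

theorem Trans.eq_one_of_two_centres {t : Coll P L} {c d : P} (hc : t ∈ Cn c) (hd : t ∈ Cn d)
    (hcd : c ≠ d) : t = 1 :=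
  by_contra fun h => hcd (centre_unique hc hd h)

theorem Trans.decomp (hl : FullTrans (P := P) l) {t : Coll P L} (ht : t ∈ Trans l) {c d : P}
    (hc : c ∈ l) (hd : d ∈ l) (hcd : c ≠ d) :
    ∃ x ∈ Trans l ⊓ Cn c, ∃ y ∈ Trans l ⊓ Cn d, t = x * y := by
  obtain ⟨p, hp, -⟩ := exists_not_mem_two (P := P) l l
  have hq := Trans.smul_not_mem ht hp
  obtain ⟨m, hpm, hcm⟩ := exists_join' (L := L) p c
  obtain ⟨m', hqm, hdm⟩ := exists_join' (L := L) (t • p) d
  have hml : m ≠ l := fun e => hp (e ▸ hpm)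
  have hml' : m' ≠ l := fun e => hq (e ▸ hqm)
  have hmm : m ≠ m' := fun e => by
    subst e
    exact hml (line_unique hcd hcm hdm hc hd)
  obtain ⟨r, hrm, hrm'⟩ := exists_meet (P := P) hmm
  have hrl : r ∉ l := fun h => by
    have e1 := point_unique hml hrm h hcm hc
    exact hcd (point_unique hml' (e1 ▸ hrm') hc hdm hd)
  obtain ⟨x, hx, ex⟩ := hl p r hp hrl
  refine ⟨x, ⟨hx, (Trans.mem_Cn_iff hx hp hpm hcm hc).mpr (by rw [ex]; exact hrm)⟩,
    x⁻¹ * t, ⟨(Trans l).mul_mem ((Trans l).inv_mem hx) ht, ?_⟩, (mul_inv_cancel_left x t).symm⟩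
  refine (Trans.mem_Cn_iff ((Trans l).mul_mem ((Trans l).inv_mem hx) ht) hrl hrm' hdm hd).mpr ?_
  rw [← ex, Trans.commute_full hl (inv_mem hx) ht, mul_smul, inv_smul_smul]
  exact hqm

theorem card_direction (hl : FullTrans (P := P) l) {c : P} (hc : c ∈ l) :
    Nat.card (Trans l ⊓ Cn c : Subgroup (Coll P L)) = ord(P, L) := by
  obtain ⟨p, hp, -⟩ := exists_not_mem_two (P := P) l l
  obtain ⟨m, hpm, hcm⟩ := exists_join' (L := L) p c
  have hml : m ≠ l := fun e => hp (e ▸ hpm)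
  rw [← ncard_line_diff (P := P) hcm, ← Nat.card_coe_set_eq]
  refine Nat.card_eq_of_bijective (fun t : (Trans l ⊓ Cn c : Subgroup (Coll P L)) =>
    (⟨t.1 • p, Coll.smul_mem_of_fixed (t.2.2 m hcm) hpm, fun e =>
      Trans.smul_not_mem t.2.1 hp (show t.1 • p ∈ l by rw [e]; exact hc)⟩ : {q : P | q ∈ m ∧ q ≠ c})) ⟨?_, ?_⟩
  · intro t t' e
    exact Subtype.ext (Trans.ext_of_smul t.2.1 t'.2.1 hp (congrArg Subtype.val e))
  · rintro ⟨q, hqm, hqc⟩
    have hq : q ∉ l := fun h => hqc (point_unique hml hqm h hcm hc)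
    obtain ⟨t, ht, e⟩ := hl p q hp hq
    exact ⟨⟨t, ht, (Trans.mem_Cn_iff ht hp hpm hcm hc).mpr (by rw [e]; exact hqm)⟩, Subtype.ext e⟩

end Cfsg.Agent.OstromWagner
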