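import Cfsg.Agent.Lib.OstromWagner.Coll

/-!
# A collineation fixes as many points as lines

The double count of the flags `(p, l)` with `g p ∈ l`, and, by Burnside, the equality of the numbers
of point and line orbits of a group of collineations.
-/

set_option autoImplicit false
set_option linter.style.haveILetI false

namespace Cfsg.Agent.OstromWagner

open Configuration Finset

variable {P L : Type*} [Membership P L] [ProjectivePlane P L] [Finite P] [Finite L]

theorem ncard_fixed_points_eq (g : Coll P L) :
    {p : P | g • p = p}.ncard = {l : L | g • l = l}.ncard := by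
  classical
  haveI := Fintype.ofFinite P
  haveI := Fintype.ofFinite L
  set n := ord(P, L) with hn
  let r : P → L → Prop := fun p l => p ∈ l ∧ g • p ∈ l
  have hP : ∀ p : P, (bipartiteAbove r univ p).card = 1 + (if g • p = p then n else 0) := by
    intro p
    have hset : (bipartiteAbove r univ p).card = {l : L | r p l}.ncard := by
      rw [bipartiteAbove, Set.ncard_eq_toFinset_card']
      congr 1
      ext l
      simp
    rw [hset]
    by_cases h : g • p = p
    · rw [if_pos h, show {l : L | r p l} = {l : L | p ∈ l} by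
        ext l; exact ⟨fun hl => hl.1, fun hl => ⟨hl, by rw [h]; exact hl⟩⟩, ncard_lines]
      omega
    · rw [if_neg h, add_zero]
      obtain ⟨l, h1, h2⟩ := exists_join (L := L) h
      rw [show {l : L | r p l} = {l} by
        ext m
        refine ⟨fun hm => line_unique (Ne.symm h) hm.1 hm.2 h2 h1, ?_⟩
        rintro rfl
        exact ⟨h2, h1⟩, Set.ncard_singleton]
  have hL : ∀ l : L, (bipartiteBelow r univ l).card = 1 + (if g • l = l then n else 0) := by
    intro l
    have hset : (bipartiteBelow r univ l).card = {p : P | r p l}.ncard := by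
      rw [bipartiteBelow, Set.ncard_eq_toFinset_card']
      congr 1
      ext p
      simp
    rw [hset]
    by_cases h : g • l = l
    · rw [if_pos h, show {p : P | r p l} = {p : P | p ∈ l} by
        ext p; exact ⟨fun hp => hp.1, fun hp => ⟨hp, Coll.smul_mem_of_fixed h hp⟩⟩, ncard_line]
      omega
    · rw [if_neg h, add_zero]
      have hne : g⁻¹ • l ≠ l := fun e => h (by conv_lhs => rw [← e, smul_inv_smul])
      obtain ⟨p, h1, h2⟩ := exists_meet (P := P) hne
      rw [show {p : P | r p l} = {p} by
        ext q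
        constructor
        · intro hq
          refine point_unique hne ?_ hq.1 h1 h2
          rw [Coll.mem_smul_iff, inv_inv]
          exact hq.2
        · rintro rfl
          refine ⟨h2, ?_⟩
          have := (g.smul_mem q (g⁻¹ • l)).mpr h1
          rwa [smul_inv_smul] at this, Set.ncard_singleton]
  have key := sum_card_bipartiteAbove_eq_sum_card_bipartiteBelow r (s := (univ : Finset P))
    (t := (univ : Finset L))
  rw [sum_congr rfl fun p _ => hP p, sum_congr rfl fun l _ => hL l, sum_add_distrib,
    sum_add_distrib, ← sum_filter, ← sum_filter] at key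
  simp only [sum_const, smul_eq_mul, mul_one, card_univ] at key
  rw [ProjectivePlane.card_points_eq_card_lines P L] at key
  have : (univ.filter fun p : P => g • p = p).card = (univ.filter fun l : L => g • l = l).card :=
    Nat.eq_of_mul_eq_mul_right order_pos (Nat.add_left_cancel key)
  rw [Set.ncard_eq_toFinset_card', Set.ncard_eq_toFinset_card']
  simpa [Set.toFinset_ofPred] using this

/-- A group of collineations has as many orbits on points as on lines. -/
theorem card_orbits_eq (H : Subgroup (Coll P L)) :
    Nat.card (Quotient (MulAction.orbitRel H P)) = Nat.card (Quotient (MulAction.orbitRel H L)) := by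
  classical
  haveI := Fintype.ofFinite P
  haveI := Fintype.ofFinite L
  haveI := Fintype.ofFinite H
  haveI := Fintype.ofFinite (Quotient (MulAction.orbitRel H P))
  haveI := Fintype.ofFinite (Quotient (MulAction.orbitRel H L))
  have h1 := MulAction.sum_card_fixedBy_eq_card_orbits_mul_card_group H P
  have h2 := MulAction.sum_card_fixedBy_eq_card_orbits_mul_card_group H L
  have h3 : ∀ g : H, Fintype.card (MulAction.fixedBy P g) = Fintype.card (MulAction.fixedBy L g) :=
    fun g => by
      rw [← Nat.card_eq_fintype_card, ← Nat.card_eq_fintype_card, Nat.card_coe_set_eq,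
        Nat.card_coe_set_eq]
      exact ncard_fixed_points_eq (g : Coll P L)
  rw [Finset.sum_congr rfl fun g _ => h3 g, h2] at h1
  rw [Nat.card_eq_fintype_card, Nat.card_eq_fintype_card]
  exact (Nat.eq_of_mul_eq_mul_right Fintype.card_pos h1).symm

/-- A group transitive on points is transitive on lines. -/
theorem line_transitive (H : Subgroup (Coll P L)) (h : ∀ p q : P, ∃ g ∈ H, g • p = q) (l m : L) :
    ∃ g ∈ H, g • l = m := by
  obtain ⟨p₀, -, -⟩ := exists_meet' (P := P) l m
  have h1 : Nat.card (Quotient (MulAction.orbitRel H P)) = 1 := by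
    rw [Nat.card_eq_one_iff_unique]
    refine ⟨⟨fun a b => ?_⟩, ⟨⟦p₀⟧⟩⟩
    induction a using Quotient.inductionOn with | h x =>
    induction b using Quotient.inductionOn with | h y =>
    obtain ⟨g, hg, e⟩ := h y x
    exact Quotient.sound ⟨⟨g, hg⟩, e⟩
  rw [card_orbits_eq, Nat.card_eq_one_iff_unique] at h1
  have := h1.1.elim (⟦m⟧ : Quotient (MulAction.orbitRel H L)) ⟦l⟧
  obtain ⟨g, hg⟩ := Quotient.exact this
  exact ⟨g, g.2, hg⟩

/-- A group transitive on the points of `l` and off `l` is transitive on the lines other than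
`l`. -/
theorem line_transitive_off (H : Subgroup (Coll P L)) (l : L) (hl : ∀ g ∈ H, g • l = l)
    (hin : ∀ p q : P, p ∈ l → q ∈ l → ∃ g ∈ H, g • p = q)
    (hout : ∀ p q : P, p ∉ l → q ∉ l → ∃ g ∈ H, g • p = q)
    {m m' : L} (hm : m ≠ l) (hm' : m' ≠ l) : ∃ g ∈ H, g • m = m' := by
  classical
  by_contra hc
  push Not at hc
  let ΩP := Quotient (MulAction.orbitRel H P)
  let ΩL := Quotient (MulAction.orbitRel H L)
  obtain ⟨p₁, hp₁, -⟩ := exists_meet' (P := P) l l
  obtain ⟨p₀, hp₀, -⟩ := exists_not_mem_two (P := P) l l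
  have h2 : Nat.card ΩP ≤ 2 := by
    have hs : Function.Surjective fun b : Bool => (if b then ⟦p₁⟧ else ⟦p₀⟧ : ΩP) := by
      intro a
      induction a using Quotient.inductionOn with | h x =>
      by_cases hx : x ∈ l
      · obtain ⟨g, hg, e⟩ := hin x p₁ hx hp₁
        exact ⟨true, Quotient.sound ⟨⟨g, hg⟩, e⟩⟩
      · obtain ⟨g, hg, e⟩ := hout x p₀ hx hp₀
        exact ⟨false, Quotient.sound ⟨⟨g, hg⟩, e⟩⟩
    simpa using Nat.card_le_card_of_surjective _ hs
  have key : ∀ a b : L, a ≠ b → (∀ g ∈ H, g • b ≠ a) → (⟦a⟧ : ΩL) ≠ ⟦b⟧ := fun a b _ hn e => by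
    obtain ⟨g, hg⟩ := Quotient.exact e
    exact hn g g.2 hg
  have e1 : (⟦l⟧ : ΩL) ≠ ⟦m⟧ := key l m hm.symm fun g hg e =>
    hm (MulAction.injective g (e.trans (hl g hg).symm))
  have e2 : (⟦l⟧ : ΩL) ≠ ⟦m'⟧ := key l m' hm'.symm fun g hg e =>
    hm' (MulAction.injective g (e.trans (hl g hg).symm))
  have e3 : (⟦m'⟧ : ΩL) ≠ ⟦m⟧ := fun e => by
    obtain ⟨g, hg⟩ := Quotient.exact e
    exact hc g g.2 hg
  have hi : Function.Injective ![(⟦l⟧ : ΩL), ⟦m⟧, ⟦m'⟧] := by
    intro i j hij
    fin_cases i <;> fin_cases j <;> simp_all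
  have h3 : 3 ≤ Nat.card ΩL := by simpa using Nat.card_le_card_of_injective _ hi
  have h4 : Nat.card ΩP = Nat.card ΩL := card_orbits_eq H
  omega

end Cfsg.Agent.OstromWagner
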