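import Cfsg.Agent.Lib.OstromWagner.Persp

/-!
# Involutions and fixed subplanes

An involution is a perspectivity or fixes a subplane of order `√n`.
-/

set_option autoImplicit false
set_option linter.style.haveILetI false

namespace Cfsg.Agent.OstromWagner

open Configuration

variable {P L : Type*} [Membership P L]

/-- Three points on no common line. -/
def NoThree (L : Type*) [Membership P L] (a b c : P) : Prop :=
  ∀ l : L, a ∈ l → b ∈ l → c ∉ l

/-- A set containing four points, no three of them collinear. -/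
def HasQuad (L : Type*) [Membership P L] (S : Set P) : Prop :=
  ∃ a ∈ S, ∃ b ∈ S, ∃ c ∈ S, ∃ d ∈ S,
    NoThree L a b c ∧ NoThree L a b d ∧ NoThree L a c d ∧ NoThree L b c d

theorem involution_modEq {X : Type*} [Finite X] (g : X → X) (hg : ∀ x, g (g x) = x) (S : Set X)
    (hS : ∀ x ∈ S, g x ∈ S) : S.ncard ≡ {x | x ∈ S ∧ g x = x}.ncard [MOD 2] := by
  classical
  haveI := Fintype.ofFinite X
  have h : ∑ _x ∈ S.toFinset.filter (fun x => g x ≠ x), (1 : ZMod 2) = 0 :=
    Finset.sum_involution (fun x _ => g x) (fun _ _ => by decide)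
      (fun x hx _ => (Finset.mem_filter.mp hx).2)
      (fun x hx => by
        simp only [Finset.mem_filter, Set.mem_toFinset] at hx ⊢
        exact ⟨hS x hx.1, fun e => hx.2 (by rwa [hg, eq_comm] at e)⟩)
      (fun x _ => hg x)
  rw [Finset.sum_const, nsmul_one, ZMod.natCast_eq_zero_iff_even] at h
  have hsum := Finset.card_filter_add_card_filter_not (s := S.toFinset) (fun x => g x = x)
  rw [Set.ncard_eq_toFinset_card', Set.ncard_eq_toFinset_card']
  rw [show {x | x ∈ S ∧ g x = x}.toFinset = S.toFinset.filter fun x => g x = x by ext; simp]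
  obtain ⟨j, hj⟩ := h
  unfold Nat.ModEq
  simp only [ne_eq] at hj
  omega

theorem Coll.smul_smul_self {g : Coll P L} (hg : g * g = 1) (p : P) : g • g • p = p := by
  rw [← mul_smul, hg, one_smul]

theorem Coll.smul_smul_self_line {g : Coll P L} (hg : g * g = 1) (l : L) : g • g • l = l := by
  rw [← mul_smul, hg, one_smul]

variable [ProjectivePlane P L] [Finite P] [Finite L]

theorem NoThree.ne {a b c : P} (h : NoThree L a b c) : a ≠ b ∧ a ≠ c ∧ b ≠ c := by
  refine ⟨?_, ?_, ?_⟩ <;> intro e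
  · obtain ⟨l, h1, h2⟩ := exists_join' (L := L) a c
    exact h l h1 (e ▸ h1) h2
  · obtain ⟨l, h1, h2⟩ := exists_join' (L := L) a b
    exact h l h1 h2 (e ▸ h1)
  · obtain ⟨l, h1, h2⟩ := exists_join' (L := L) a b
    exact h l h1 h2 (e ▸ h2)

theorem hasQuad_univ : HasQuad L (Set.univ : Set P) := by
  obtain ⟨a, -⟩ := (ProjectivePlane.exists_config : ∃ (p₁ p₂ p₃ : P) (l₁ l₂ l₃ : L), _)
  obtain ⟨l, hal, -⟩ := exists_not_on_two (L := L) a a
  obtain ⟨b, hb, -⟩ := exists_meet' (P := P) l l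
  obtain ⟨c, hc, hcb, -⟩ := exists_mem_ne_ne l b b
  obtain ⟨m, ham, hbm⟩ := exists_join' (L := L) a b
  obtain ⟨m', ham', hcm'⟩ := exists_join' (L := L) a c
  have hml : m ≠ l := fun e => hal (e ▸ ham)
  have hml' : m' ≠ l := fun e => hal (e ▸ ham')
  obtain ⟨k, hak, hkm, hkm'⟩ := exists_line_ne_ne a m m'
  obtain ⟨x, hxk, hxl⟩ := exists_meet' (P := P) k l
  obtain ⟨d, hdk, hda, hdx⟩ := exists_mem_ne_ne k a x
  have hkl : k ≠ l := fun e => hal (e ▸ hak)
  refine ⟨a, trivial, b, trivial, c, trivial, d, trivial, fun n h1 h2 h3 => ?_, fun n h1 h2 h3 => ?_,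
    fun n h1 h2 h3 => ?_, fun n h1 h2 h3 => ?_⟩
  · exact hal (line_unique hcb hc hb h3 h2 ▸ h1)
  · exact hkm ((line_unique hda hdk hak h3 h1).trans
      (line_unique (fun e : a = b => hal (e ▸ hb)) h1 h2 ham hbm))
  · exact hkm' ((line_unique hda hdk hak h3 h1).trans
      (line_unique (fun e : a = c => hal (e ▸ hc)) h1 h2 ham' hcm'))
  · exact hdx (point_unique hkl hdk (line_unique hcb h2 h1 hc hb ▸ h3) hxk hxl)

/-- A set without a quadrangle lies on a line and one further point. -/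
theorem exists_cover {S : Set P} (hS : ¬ HasQuad L S) :
    ∃ (l : L) (c : P), ∀ x ∈ S, x ∈ l ∨ x = c := by
  by_contra hc
  push Not at hc
  obtain ⟨p₁, -, -, l₀, -⟩ := (ProjectivePlane.exists_config : ∃ (p₁ p₂ p₃ : P) (l₁ l₂ l₃ : L), _)
  obtain ⟨a, haS, -, -⟩ := hc l₀ p₁
  obtain ⟨l1, hal1, -⟩ := exists_join' (L := L) a a
  obtain ⟨b, hbS, -, hba⟩ := hc l1 a
  obtain ⟨ab, haab, hbab⟩ := exists_join' (L := L) a b
  obtain ⟨c, hcS, hcab, -⟩ := hc ab a
  obtain ⟨bc, hbbc, hcbc⟩ := exists_join' (L := L) b c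
  obtain ⟨ac, haac, hcac⟩ := exists_join' (L := L) a c
  have hca : c ≠ a := fun e => hcab (e ▸ haab)
  have hcb : c ≠ b := fun e => hcab (e ▸ hbab)
  have habc : NoThree L a b c := fun n h1 h2 h3 =>
    hcab (line_unique hba.symm h1 h2 haab hbab ▸ h3)
  have habc' : a ∉ bc := fun h => hcab (line_unique hba.symm haab hbab h hbbc ▸ hcbc)
  have hbac : b ∉ ac := fun h => hcab (line_unique hba.symm haab hbab haac h ▸ hcac)
  have side : ∀ x ∈ S, x ∈ ab ∨ x ∈ bc ∨ x ∈ ac := by
    intro x hx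
    by_contra hn
    push Not at hn
    exact hS ⟨a, haS, b, hbS, c, hcS, x, hx, habc,
      fun n h1 h2 h3 => hn.1 (line_unique hba.symm h1 h2 haab hbab ▸ h3),
      fun n h1 h2 h3 => hn.2.2 (line_unique hca.symm h1 h2 haac hcac ▸ h3),
      fun n h1 h2 h3 => hn.2.1 (line_unique hcb.symm h1 h2 hbbc hcbc ▸ h3)⟩
  have two : ∀ (u v w : P) (uv uw vw : L), u ∈ S → v ∈ S → w ∈ S → u ∈ uv → v ∈ uv → u ∈ uw →
      w ∈ uw → v ∈ vw → w ∈ vw → w ∉ uv → u ∉ vw → u ≠ v → u ≠ w → v ≠ w →
      ∀ x ∈ S, ∀ y ∈ S, x ∈ uv → x ≠ u → x ≠ v → y ∈ vw → y ≠ v → y ≠ w → False := by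
    intro u v w uv uw vw hu hv hw huuv hvuv huuw hwuw hvvw hwvw hwuv huvw huv huw hvw x hx y hy
      hxuv hxu hxv hyvw hyv hyw
    have hne : uv ≠ vw := fun e => hwuv (e ▸ hwvw)
    have hyuv : y ∉ uv := fun h => hyv (point_unique hne h hyvw hvuv hvvw)
    have hxvw : x ∉ vw := fun h => hxv (point_unique hne hxuv h hvuv hvvw)
    refine hS ⟨u, hu, x, hx, w, hw, y, hy,
      fun n h1 h2 h3 => hwuv (line_unique hxu.symm h1 h2 huuv hxuv ▸ h3),
      fun n h1 h2 h3 => hyuv (line_unique hxu.symm h1 h2 huuv hxuv ▸ h3),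
      fun n h1 h2 h3 => huvw (line_unique hyw.symm h2 h3 hwvw hyvw ▸ h1),
      fun n h1 h2 h3 => hxvw (line_unique hyw.symm h2 h3 hwvw hyvw ▸ h1)⟩
  obtain ⟨d, hdS, hdab, hdc⟩ := hc ab c
  have hda : d ≠ a := fun e => hdab (e ▸ haab)
  have hdb : d ≠ b := fun e => hdab (e ▸ hbab)
  rcases side d hdS with h | h | h
  · exact hdab h
  · obtain ⟨e, heS, hebc, hea⟩ := hc bc a
    have heb : e ≠ b := fun h' => hebc (h' ▸ hbbc)
    have hec : e ≠ c := fun h' => hebc (h' ▸ hcbc)
    rcases side e heS with h' | h' | h'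
    · exact two a b c ab ac bc haS hbS hcS haab hbab haac hcac hbbc hcbc hcab habc' hba.symm
        hca.symm hcb.symm e heS d hdS h' hea heb h hdb hdc
    · exact hebc h'
    · exact two a c b ac ab bc haS hcS hbS haac hcac haab hbab hcbc hbbc hbac habc' hca.symm
        hba.symm hcb e heS d hdS h' hea hec h hdc hdb
  · obtain ⟨e, heS, heac, heb⟩ := hc ac b
    have hea : e ≠ a := fun h' => heac (h' ▸ haac)
    have hec : e ≠ c := fun h' => heac (h' ▸ hcac)
    rcases side e heS with h' | h' | h'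
    · exact two b a c ab bc ac hbS haS hcS hbab haab hbbc hcbc haac hcac hcab hbac hba hcb.symm
        hca.symm e heS d hdS h' heb hea h hda hdc
    · exact two b c a bc ab ac hbS hcS haS hbbc hcbc hbab haab hcac haac habc' hbac hcb.symm
        hba hca e heS d hdS h' heb hec h hdc hda
    · exact heac h'

omit [Finite P] [Finite L] in
theorem exists_fixed_on_line {g : Coll P L} (hg : g * g = 1) {l : L} (hl : g • l ≠ l) :
    ∃ p : P, p ∈ l ∧ g • p = p := by
  obtain ⟨p, hp1, hp2⟩ := exists_meet (P := P) hl.symm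
  refine ⟨p, hp1, point_unique hl.symm ?_ ((g.smul_mem p l).mpr hp1) hp1 hp2⟩
  have := (g.smul_mem p (g • l)).mpr hp2
  rwa [Coll.smul_smul_self_line hg] at this

omit [Finite P] [Finite L] in
theorem exists_fixed_line_through {g : Coll P L} (hg : g * g = 1) {p : P} (hp : g • p ≠ p) :
    ∃ l : L, p ∈ l ∧ g • l = l :=
  exists_fixed_on_line (P := Dual L) (L := Dual P) (g := Coll.toDual g)
    (by rw [← map_mul, hg, map_one]) hp

/-- An involution without a fixed quadrangle is a perspectivity. -/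
theorem exists_axis_of_no_quad {g : Coll P L} (hg : g * g = 1)
    (hq : ¬ HasQuad L {p : P | g • p = p}) : ∃ a : L, g ∈ Ax a := by
  classical
  rcases eq_or_ne g 1 with rfl | g1
  · obtain ⟨-, -, -, l₀, -⟩ := (ProjectivePlane.exists_config : ∃ (p₁ p₂ p₃ : P) (l₁ l₂ l₃ : L), _)
    exact ⟨l₀, one_mem _⟩
  set n := ord(P, L) with hn
  have hn1 := ProjectivePlane.one_lt_order P L
  obtain ⟨l, c, hlc⟩ := exists_cover hq
  have hl : g • l = l := by
    by_contra hne
    -- all fixed points lie in a set of at most two points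
    have hfix : {p : P | g • p = p} ⊆ {x | x ∈ l ∧ g • x = x} ∪ {c} := fun x hx =>
      (hlc x hx).elim (fun h => Or.inl ⟨h, hx⟩) (fun h => Or.inr h)
    have hone : {x : P | x ∈ l ∧ g • x = x}.ncard ≤ 1 :=
      (Set.ncard_le_one (Set.toFinite _)).mpr fun x hx y hy => by
        by_contra hxy
        exact hne (Coll.fixed_line_of_two hxy hx.2 hy.2 hx.1 hy.1)
    have h2 : {p : P | g • p = p}.ncard ≤ 2 := by
      refine (Set.ncard_le_ncard hfix).trans ((Set.ncard_union_le _ _).trans ?_)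
      rw [Set.ncard_singleton]
      omega
    rw [ncard_fixed_points_eq] at h2
    -- but the fixed lines cover the non fixed points
    haveI := Fintype.ofFinite P
    haveI := Fintype.ofFinite L
    have hcov : (Set.univ : Set P).toFinset ⊆ {p : P | g • p = p}.toFinset ∪
        {l : L | g • l = l}.toFinset.biUnion (fun m => {p : P | p ∈ m}.toFinset) := by
      intro p _
      rw [Finset.mem_union, Set.mem_toFinset, Finset.mem_biUnion]
      by_cases hp : g • p = p
      · exact Or.inl hp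
      · obtain ⟨m, h1, h2⟩ := exists_fixed_line_through hg hp
        exact Or.inr ⟨m, by simpa using h2, by simpa using h1⟩
    have hc := (Finset.card_le_card hcov).trans (Finset.card_union_le _ _)
    have hb : ({l : L | g • l = l}.toFinset.biUnion (fun m => {p : P | p ∈ m}.toFinset)).card ≤
        2 * (n + 1) := by
      refine (Finset.card_biUnion_le).trans ?_
      refine (Finset.sum_le_card_nsmul _ _ (n + 1) fun m _ => ?_).trans ?_
      · rw [← Set.ncard_eq_toFinset_card', ncard_line]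
      · rw [smul_eq_mul, ← Set.ncard_eq_toFinset_card']
        exact Nat.mul_le_mul_right _ h2
    rw [← Set.ncard_eq_toFinset_card', ← Set.ncard_eq_toFinset_card', Set.ncard_univ,
      card_pt (L := L), ncard_fixed_points_eq] at hc
    have hn2 : n ≤ 2 := by nlinarith
    have hn3 : n = 2 := by omega
    -- order two: an involution fixes an odd number of the seven points
    have hpar := involution_modEq (fun p : P => g • p) (Coll.smul_smul_self hg) Set.univ
      (fun _ _ => Set.mem_univ _)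
    simp only [Set.mem_univ, true_and, Set.ncard_univ] at hpar
    rw [card_pt (L := L), ← hn, hn3, ncard_fixed_points_eq] at hpar
    unfold Nat.ModEq at hpar
    rw [← hn, hn3] at hc
    rw [hn3] at hb
    have h01 : {l : L | g • l = l}.ncard ≤ 1 := by omega
    have hb1 : ({l : L | g • l = l}.toFinset.biUnion (fun m => {p : P | p ∈ m}.toFinset)).card ≤
        3 := by
      refine (Finset.card_biUnion_le).trans ?_
      refine (Finset.sum_le_card_nsmul _ _ (n + 1) fun m _ => ?_).trans ?_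
      · rw [← Set.ncard_eq_toFinset_card', ncard_line]
      · rw [smul_eq_mul, ← Set.ncard_eq_toFinset_card', hn3]
        omega
    omega
  refine ⟨l, fun q hq => ?_⟩
  by_contra hgq
  -- the lines through `q` other than `l`
  have hsub : {m : L | q ∈ m ∧ m ≠ l} ⊆ {m : L | q ∈ m ∧ g • m = m ∧ m ≠ l} ∪
      {m : L | q ∈ m ∧ c ∈ m ∧ m ≠ l ∧ c ≠ q} := by
    rintro m ⟨hqm, hml⟩
    by_cases hm : g • m = m
    · exact Or.inl ⟨hqm, hm, hml⟩
    · obtain ⟨x, hxm, hx⟩ := exists_fixed_on_line hg hm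
      have hxq : x ≠ q := fun e => hgq (e ▸ hx)
      rcases hlc x hx with h | h
      · exact absurd (line_unique hxq hxm hqm h hq) hml
      · exact Or.inr ⟨hqm, h ▸ hxm, hml, h ▸ hxq⟩
  have h1 : {m : L | q ∈ m ∧ g • m = m ∧ m ≠ l} = ∅ := by
    rw [Set.eq_empty_iff_forall_notMem]
    rintro m ⟨hqm, hm, hml⟩
    exact hgq (Coll.fixed_point_of_two hml hm hl hqm hq)
  have h2 : {m : L | q ∈ m ∧ c ∈ m ∧ m ≠ l ∧ c ≠ q}.ncard ≤ 1 :=
    (Set.ncard_le_one (Set.toFinite _)).mpr fun x hx y hy =>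
      line_unique hx.2.2.2 hx.2.1 hx.1 hy.2.1 hy.1
  rw [h1, Set.empty_union] at hsub
  have h3 := (Set.ncard_le_ncard hsub).trans h2
  rw [ncard_lines_diff hq, ← hn] at h3
  omega

/-- An involutory perspectivity of a plane of odd order is a homology. -/
theorem isHom_of_odd (hodd : Odd ord(P, L)) {g : Coll P L} (hg : g * g = 1) (g1 : g ≠ 1) {a : L}
    (ha : g ∈ Ax a) : ∃ c, IsHom g c a := by
  obtain ⟨c, hc⟩ := Ax.exists_centre ha
  refine ⟨c, hg, g1, hc, ha, fun hca => ?_⟩
  obtain ⟨m, hcm, hma, -⟩ := exists_line_ne_ne c a a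
  have h := involution_modEq (fun p : P => g • p) (Coll.smul_smul_self hg) {p | p ∈ m ∧ p ≠ c}
    fun p hp => ⟨Coll.smul_mem_of_fixed (hc m hcm) hp.1, fun e =>
      hp.2 (MulAction.injective g (e.trans (Cn.smul_centre hc).symm))⟩
  rw [ncard_line_diff hcm,
    show {x : P | x ∈ {p | p ∈ m ∧ p ≠ c} ∧ g • x = x} = ∅ from
      Set.eq_empty_iff_forall_notMem.mpr fun x hx => by
        rcases (fixed_iff ha hc g1 x).mp hx.2 with h | h
        · exact hx.1.2 (point_unique hma hx.1.1 h hcm hca)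
        · exact hx.1.2 h,
    Set.ncard_empty] at h
  obtain ⟨j, hj⟩ := hodd
  unfold Nat.ModEq at h
  omega

end Cfsg.Agent.OstromWagner
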