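import Cfsg.Agent.Lib.OstromWagner.SylowTools

/-!
# Pairs fixed by a maximal two-group

Two-transitivity makes the normalizer of a `2`-subgroup fix every pair of its fixed points by an
element inducing an involution.
-/

set_option autoImplicit false
set_option linter.style.haveILetI false

namespace Cfsg.Agent.OstromWagner

variable {G : Type*} [Group G] [Finite G] {X : Type*} [MulAction G X]

theorem mem_normalizer_of_conj_le {R : Subgroup G} {n : G} (h : ∀ r ∈ R, n * r * n⁻¹ ∈ R) :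
    n ∈ Subgroup.normalizer (R : Set G) := by
  rw [Subgroup.mem_normalizer_iff_map_conj_eq]
  refine Subgroup.eq_of_le_of_card_ge ?_ (le_of_eq ?_)
  · rintro _ ⟨r, hr, rfl⟩
    exact h r hr
  · exact Nat.card_congr (R.equivMapOfInjective _ (MulAut.conj n).injective).toEquiv

theorem exists_pow_involution {H : Type*} [Group H] (x : H) (j : ℕ) (hj : x ^ 2 ^ j = 1)
    (h1 : x ≠ 1) : ∃ i, x ^ 2 ^ i ≠ 1 ∧ x ^ 2 ^ i * x ^ 2 ^ i = 1 := by
  induction j with
  | zero => exact absurd (by simpa using hj) h1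
  | succ j ih =>
    by_cases h : x ^ 2 ^ j = 1
    · exact ih h
    · exact ⟨j, h, by rw [← pow_add, ← two_mul, ← pow_succ', hj]⟩

/-- The relation between the kernel, fixed pairs and two elements. -/
theorem exists_fixing_pair (h2 : ∀ x₁ x₂ y₁ y₂ : X, x₁ ≠ x₂ → y₁ ≠ y₂ → ∃ g : G, g • x₁ = y₁ ∧ g • x₂ = y₂)
    {R : Subgroup G} (hR : IsPGroup 2 R) {Y : Set X} (hY : ∀ g ∈ R, ∀ y ∈ Y, g • y = y)
    (hNY : ∀ g ∈ Subgroup.normalizer (R : Set G), ∀ y ∈ Y, g • y ∈ Y)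
    {Γ : Type*} [Group Γ] (φ : Subgroup.normalizer (R : Set G) →* Γ)
    (hsep : ∀ g : Subgroup.normalizer (R : Set G), φ g = 1 → ∀ y ∈ Y, (g : G) • y = y)
    (htriv : ∀ t : Subgroup.normalizer (R : Set G), (∃ j : ℕ, (t : G) ^ 2 ^ j = 1) → φ t = 1 → (t : G) ∈ R)
    (hfix : ∀ t : Subgroup.normalizer (R : Set G), (∃ j : ℕ, (t : G) ^ 2 ^ j = 1) → φ t ≠ 1 → φ t * φ t = 1 →
      ∃ a ∈ Y, ∃ b ∈ Y, a ≠ b ∧ (t : G) • a = a ∧ (t : G) • b = b)
    {a b : X} (ha : a ∈ Y) (hb : b ∈ Y) (hab : a ≠ b) :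
    ∃ t : Subgroup.normalizer (R : Set G), (∃ j : ℕ, (t : G) ^ 2 ^ j = 1) ∧ φ t ≠ 1 ∧ φ t * φ t = 1 ∧ (t : G) • a = a ∧ (t : G) • b = b := by
  classical
  haveI : Fact (Nat.Prime 2) := ⟨Nat.prime_two⟩
  -- from one nontrivial two-element to an involution
  have hpow : ∀ t : (Subgroup.normalizer (R : Set G)), (∃ j : ℕ, (t : G) ^ 2 ^ j = 1) → φ t ≠ 1 →
      ∃ i : ℕ, (∃ j : ℕ, ((t ^ 2 ^ i : (Subgroup.normalizer (R : Set G))) : G) ^ 2 ^ j = 1) ∧ φ (t ^ 2 ^ i) ≠ 1 ∧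
        φ (t ^ 2 ^ i) * φ (t ^ 2 ^ i) = 1 := by
    rintro t ⟨j, hj⟩ h1
    obtain ⟨i, h2', h3⟩ := exists_pow_involution (φ t) j
      (by rw [← map_pow, show t ^ 2 ^ j = 1 from Subtype.ext hj, map_one]) h1
    refine ⟨i, ⟨j, ?_⟩, by rwa [map_pow], by rwa [map_pow]⟩
    rw [Subgroup.coe_pow, ← pow_mul, mul_comm, pow_mul, hj, one_pow]
  set H : X → X → Subgroup G := fun x y => MulAction.stabilizer G x ⊓ MulAction.stabilizer G y with hH
  obtain ⟨T, hT⟩ := (hR.comap_subtype (K := H a b)).exists_le_sylow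
  set S := (T : Subgroup (H a b)).map (H a b).subtype with hS
  have hRH : ∀ x ∈ Y, ∀ y ∈ Y, R ≤ H x y := fun x hx y hy g hg => ⟨hY g hg x hx, hY g hg y hy⟩
  have hRS : R ≤ S := fun g hg => ⟨⟨g, hRH a ha b hb hg⟩, hT hg, rfl⟩
  have hSp : IsPGroup 2 S := T.2.map _
  by_cases hex : ∃ g ∈ S, g ∈ (Subgroup.normalizer (R : Set G)) ∧ g ∉ R
  · obtain ⟨g, hgS, hgN, hgR⟩ := hex
    obtain ⟨j, hj⟩ := hSp ⟨g, hgS⟩
    have hj' : g ^ 2 ^ j = 1 := by simpa using congrArg Subtype.val hj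
    obtain ⟨i, hi, h1, h2'⟩ := hpow ⟨g, hgN⟩ ⟨j, hj'⟩ fun e => hgR (htriv ⟨g, hgN⟩ ⟨j, hj'⟩ e)
    have hgab : g ∈ H a b := Subgroup.map_subtype_le _ hgS
    have hpab := pow_mem hgab (2 ^ i)
    exact ⟨_, hi, h1, h2', hpab.1, hpab.2⟩
  push Not at hex
  have hSR : S = R := by
    by_contra hne
    have hlt : R.subgroupOf S < ⊤ := lt_top_iff_ne_top.mpr fun e =>
      hne (le_antisymm (Subgroup.subgroupOf_eq_top.mp e) hRS)
    haveI := hSp.isNilpotent
    obtain ⟨⟨g, hgS⟩, hgN, hg⟩ := SetLike.exists_of_lt (Group.normalizerCondition_of_isNilpotent _ hlt)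
    refine hg (Subgroup.mem_subgroupOf.mpr (hex g hgS (mem_normalizer_of_conj_le fun r hr => ?_)))
    exact Subgroup.mem_subgroupOf.mp ((hgN ⟨r, hRS hr⟩).mp (Subgroup.mem_subgroupOf.mpr hr))
  -- `R` is a Sylow subgroup of the stabiliser of every pair
  have hidx : ¬ 2 ∣ R.relIndex (H a b) := by
    rw [← hSR, hS, Subgroup.relIndex, Subgroup.subgroupOf,
      Subgroup.comap_map_eq_self_of_injective Subtype.val_injective]
    exact T.not_dvd_index
  have htrans : ∀ x ∈ Y, ∀ y ∈ Y, x ≠ y → ∃ n ∈ (Subgroup.normalizer (R : Set G)), n • a = x ∧ n • b = y := by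
    intro x hx y hy hxy
    obtain ⟨g, e1, e2⟩ := h2 a b x y hab hxy
    set R' := R.map (MulAut.conj g).toMonoidHom with hR'
    have hconjH : ∀ k, k ∈ H a b ↔ g * k * g⁻¹ ∈ H x y := fun k => by
      simp only [hH, Subgroup.mem_inf, MulAction.mem_stabilizer_iff, mul_smul, ← e1, ← e2,
        inv_smul_smul, smul_left_cancel_iff]
    have hHeq : (H a b).map (MulAut.conj g).toMonoidHom = H x y := by
      ext k
      constructor
      · rintro ⟨m, hm, rfl⟩
        exact (hconjH m).mp hm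
      · intro hk
        refine ⟨g⁻¹ * k * g, (hconjH _).mpr ?_, ?_⟩
        · simpa [mul_assoc] using hk
        · simp [mul_assoc]
    have hR'H : R' ≤ H x y := hHeq ▸ Subgroup.map_mono (hRH a ha b hb)
    have hrel' : R'.relIndex (H x y) = R.relIndex (H a b) := by
      rw [← hHeq, hR']
      exact Subgroup.relIndex_map_map_of_injective _ _ (MulAut.conj g).injective
    have hcardH : Nat.card (H x y) = Nat.card (H a b) := by
      rw [← hHeq]
      exact (Nat.card_congr ((H a b).equivMapOfInjective _ (MulAut.conj g).injective).toEquiv).symm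
    have hcardR : Nat.card R' = Nat.card R :=
      (Nat.card_congr (R.equivMapOfInjective _ (MulAut.conj g).injective).toEquiv).symm
    have hrel : R.relIndex (H x y) = R.relIndex (H a b) := by
      have f : ∀ (A B : Subgroup G), A ≤ B → Nat.card A * A.relIndex B = Nat.card B := fun A B h => by
        rw [Subgroup.relIndex, ← Nat.card_congr (Subgroup.subgroupOfEquivOfLe h).toEquiv]
        exact Subgroup.card_mul_index _
      have k1 := f R _ (hRH x hx y hy)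
      have k2 := f R' _ hR'H
      rw [← k2, hcardR, hrel'] at k1
      exact Nat.eq_of_mul_eq_mul_left Nat.card_pos k1
    let T1 : Sylow 2 (H x y) := (show IsPGroup 2 (R'.subgroupOf (H x y)) from
      (hR.map _).comap_subtype).toSylow (by
        change ¬ 2 ∣ R'.relIndex (H x y); rw [hrel']; exact hidx)
    let T2 : Sylow 2 (H x y) := (show IsPGroup 2 (R.subgroupOf (H x y)) from
      hR.comap_subtype).toSylow (by
        change ¬ 2 ∣ R.relIndex (H x y); rw [hrel]; exact hidx)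
    obtain ⟨h, hh⟩ := MulAction.exists_smul_eq (H x y) T1 T2
    refine ⟨(h : G) * g, mem_normalizer_of_conj_le fun r hr => ?_, ?_, ?_⟩
    · have hm : (⟨g * r * g⁻¹, hR'H ⟨r, hr, rfl⟩⟩ : H x y) ∈ (T1 : Subgroup (H x y)) :=
        Subgroup.mem_subgroupOf.mpr ⟨r, hr, rfl⟩
      have hm2 : h * (⟨g * r * g⁻¹, hR'H ⟨r, hr, rfl⟩⟩ : H x y) * h⁻¹ ∈ (T2 : Subgroup (H x y)) := by
        rw [← hh, Sylow.coe_subgroup_smul, Subgroup.mem_pointwise_smul_iff_inv_smul_mem]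
        simpa [mul_assoc, MulAut.smul_def] using hm
      have hm3 := Subgroup.mem_subgroupOf.mp (show h * _ * h⁻¹ ∈ R.subgroupOf (H x y) from hm2)
      simpa [mul_assoc] using hm3
    · rw [mul_smul, e1]; exact h.2.1
    · rw [mul_smul, e2]; exact h.2.2
  -- an element swapping the two points
  obtain ⟨n, hn, n1, n2⟩ := htrans b hb a ha hab.symm
  obtain ⟨i, m, hm, hord⟩ := Nat.exists_eq_pow_mul_and_not_dvd (orderOf_pos n).ne' 2 (by norm_num)
  have hodd : ∀ q : ℕ, Odd q → (n ^ q) • a = b := by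
    rintro q ⟨r, rfl⟩
    induction r with
    | zero => simpa using n1
    | succ r ih => rw [show 2 * (r + 1) + 1 = 2 + (2 * r + 1) by ring, pow_add, mul_smul, ih, pow_two,
        mul_smul, n2, n1]
  set t : (Subgroup.normalizer (R : Set G)) := ⟨n, hn⟩ ^ m with ht
  have ht2 : ∃ j : ℕ, (t : G) ^ 2 ^ j = 1 := ⟨i, by
    rw [ht, Subgroup.coe_pow, ← pow_mul, mul_comm, ← hord, pow_orderOf_eq_one]⟩
  have ht1 : φ t ≠ 1 := fun e => hab (by
    have h1 := hsep t e a ha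
    have h2' : (t : G) • a = b := by
      rw [ht, Subgroup.coe_pow]
      exact hodd m (Nat.not_even_iff_odd.mp fun he => hm he.two_dvd)
    exact h1.symm.trans h2')
  obtain ⟨q, hq, hq1, hq2⟩ := hpow t ht2 ht1
  obtain ⟨x, hx, y, hy, hxy, ex, ey⟩ := hfix _ hq hq1 hq2
  obtain ⟨k, hk, k1, k2⟩ := htrans x hx y hy hxy
  set u : (Subgroup.normalizer (R : Set G)) := t ^ 2 ^ q
  refine ⟨(⟨k, hk⟩ : (Subgroup.normalizer (R : Set G)))⁻¹ * u * ⟨k, hk⟩, ?_, ?_, ?_, ?_, ?_⟩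
  · obtain ⟨j, hj⟩ := hq
    refine ⟨j, ?_⟩
    have e := conj_pow (i := 2 ^ j) (a := k⁻¹) (b := (u : G))
    rw [inv_inv] at e
    show (k⁻¹ * (u : G) * k) ^ 2 ^ j = 1
    rw [e, hj, mul_one, inv_mul_cancel]
  · intro e
    refine hq1 ?_
    rw [map_mul, map_mul, map_inv, mul_eq_one_iff_eq_inv, inv_mul_eq_iff_eq_mul, mul_inv_cancel] at e
    exact e
  · rw [← map_mul, show (⟨k, hk⟩ : (Subgroup.normalizer (R : Set G)))⁻¹ * u * ⟨k, hk⟩ * ((⟨k, hk⟩ : (Subgroup.normalizer (R : Set G)))⁻¹ * u * ⟨k, hk⟩) =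
      (⟨k, hk⟩ : (Subgroup.normalizer (R : Set G)))⁻¹ * (u * u) * ⟨k, hk⟩ by group, map_mul, map_mul, map_mul, hq2, mul_one, ← map_mul,
      inv_mul_cancel, map_one]
  · show (k⁻¹ * (u : G) * k) • a = a
    rw [mul_smul, mul_smul, k1, ex, ← k1, inv_smul_smul]
  · show (k⁻¹ * (u : G) * k) • b = b
    rw [mul_smul, mul_smul, k2, ey, ← k2, inv_smul_smul]

end Cfsg.Agent.OstromWagner
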