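import Cfsg.Agent.Lib.OstromWagner.Fixed

/-!
# Perspectivities

Centres and axes, their uniqueness, and the product of two involutory homologies with one centre.
-/

set_option autoImplicit false
set_option linter.style.haveILetI false

namespace Cfsg.Agent.OstromWagner

open Configuration

variable {P L : Type*} [Membership P L]

/-- The collineations fixing every point of `a`. -/
def Ax (a : L) : Subgroup (Coll P L) where
  carrier := {g | ∀ p, p ∈ a → g • p = p}
  one_mem' _ _ := one_smul _ _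
  mul_mem' hg hh p hp := by rw [mul_smul, hh p hp, hg p hp]
  inv_mem' hg p hp := inv_smul_eq_iff.mpr (hg p hp).symm

/-- The collineations fixing every line through `c`. -/
def Cn (c : P) : Subgroup (Coll P L) where
  carrier := {g | ∀ l : L, c ∈ l → g • l = l}
  one_mem' _ _ := one_smul _ _
  mul_mem' hg hh p hp := by rw [mul_smul, hh p hp, hg p hp]
  inv_mem' hg p hp := inv_smul_eq_iff.mpr (hg p hp).symm

theorem mem_Ax {a : L} {g : Coll P L} : g ∈ Ax a ↔ ∀ p, p ∈ a → g • p = p := Iff.rfl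

theorem mem_Cn {c : P} {g : Coll P L} : g ∈ Cn c ↔ ∀ l : L, c ∈ l → g • l = l := Iff.rfl

theorem conj_mem_Ax {a : L} {g : Coll P L} (hg : g ∈ Ax a) (h : Coll P L) :
    h * g * h⁻¹ ∈ Ax (h • a) := fun p hp => by
  rw [Coll.mem_smul_iff] at hp
  rw [mul_smul, mul_smul, hg _ hp, smul_inv_smul]

theorem conj_mem_Cn {c : P} {g : Coll P L} (hg : g ∈ Cn c) (h : Coll P L) :
    h * g * h⁻¹ ∈ Cn (h • c) := fun l hl => by
  have hl' : c ∈ h⁻¹ • l := by rwa [Coll.mem_smul_iff, inv_inv]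
  rw [mul_smul, mul_smul, hg _ hl', smul_inv_smul]

theorem mem_Ax_dual {a : L} {g : Coll P L} :
    Coll.toDual g ∈ Cn (P := Dual L) (L := Dual P) a ↔ g ∈ Ax a := Iff.rfl

theorem mem_Cn_dual {c : P} {g : Coll P L} :
    Coll.toDual g ∈ Ax (P := Dual L) (L := Dual P) c ↔ g ∈ Cn c := Iff.rfl

/-- An involutory homology. -/
structure IsHom (g : Coll P L) (c : P) (a : L) : Prop where
  sq : g * g = 1
  ne : g ≠ 1
  cn : g ∈ Cn c
  ax : g ∈ Ax a
  nmem : c ∉ a

theorem IsHom.conj {g : Coll P L} {c : P} {a : L} (hg : IsHom g c a) (h : Coll P L) :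
    IsHom (h * g * h⁻¹) (h • c) (h • a) where
  sq := by rw [show h * g * h⁻¹ * (h * g * h⁻¹) = h * (g * g) * h⁻¹ by group, hg.sq, mul_one,
    mul_inv_cancel]
  ne := fun e => hg.ne (by
    rwa [mul_inv_eq_one, mul_eq_left] at e)
  cn := conj_mem_Cn hg.cn h
  ax := conj_mem_Ax hg.ax h
  nmem := fun e => hg.nmem ((h.smul_mem c a).mp e)

theorem IsHom.dual {g : Coll P L} {c : P} {a : L} (hg : IsHom g c a) :
    IsHom (P := Dual L) (L := Dual P) (Coll.toDual g) a c where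
  sq := by rw [← map_mul, hg.sq, map_one]
  ne := fun e => hg.ne (Coll.toDual.map_eq_one_iff.mp e)
  cn := hg.ax
  ax := hg.cn
  nmem := hg.nmem

variable [ProjectivePlane P L] [Finite P] [Finite L]

theorem Ax.smul_line {a : L} {g : Coll P L} (hg : g ∈ Ax a) : g • a = a := by
  obtain ⟨p, hp, -⟩ := exists_meet' (P := P) a a
  obtain ⟨q, hq, hqp, -⟩ := exists_mem_ne_ne a p p
  exact Coll.fixed_line_of_two hqp (hg q hq) (hg p hp) hq hp

theorem Cn.smul_centre {c : P} {g : Coll P L} (hg : g ∈ Cn c) : g • c = c :=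
  Ax.smul_line (P := Dual L) (L := Dual P) (g := Coll.toDual g) hg

/-- All lines through a fixed point off the axis are fixed. -/
theorem Ax.mem_Cn {a : L} {g : Coll P L} (hg : g ∈ Ax a) {p : P} (hp : p ∉ a) (hgp : g • p = p) :
    g ∈ Cn p := by
  intro l hl
  obtain ⟨q, hql, hqa⟩ := exists_meet' (P := P) l a
  exact Coll.fixed_line_of_two (fun e : p = q => hp (e ▸ hqa)) hgp (hg q hqa) hl hql

theorem Ax.eq_one_of_two {a : L} {g : Coll P L} (hg : g ∈ Ax a) {p q : P} (hp : p ∉ a)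
    (hq : q ∉ a) (hpq : p ≠ q) (hgp : g • p = p) (hgq : g • q = q) : g = 1 := by
  have aux : ∀ p q r : P, p ∉ a → q ∉ a → g • p = p → g • q = q →
      (∀ l : L, p ∈ l → q ∈ l → r ∉ l) → g • r = r := by
    intro p q r hp hq hgp hgq hr
    obtain ⟨l, hl1, hl2⟩ := exists_join' (L := L) p r
    obtain ⟨m, hm1, hm2⟩ := exists_join' (L := L) q r
    refine Coll.fixed_point_of_two (fun e : l = m => ?_) (Ax.mem_Cn hg hp hgp l hl1)
      (Ax.mem_Cn hg hq hgq m hm1) hl2 hm2
    subst e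
    exact hr l hl1 hm1 hl2
  obtain ⟨l, hpl, hql⟩ := exists_join (L := L) hpq
  have hoff : ∀ r, r ∉ l → g • r = r := fun r hr => aux p q r hp hq hgp hgq fun m h1 h2 =>
    line_unique hpq hpl hql h1 h2 ▸ hr
  refine Coll.eq_one_of_forall (L := L) fun r => ?_
  by_cases hr : r ∈ l
  · by_cases hrp : r = p
    · rw [hrp, hgp]
    obtain ⟨r0, h1, h2⟩ := exists_not_mem_two (P := P) l a
    refine aux p r0 r hp h2 hgp (hoff r0 h1) fun m hm1 hm2 hrm => h1 ?_
    rw [line_unique (Ne.symm hrp) hpl hr hm1 hrm]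
    exact hm2
  · exact hoff r hr

theorem Ax.exists_centre {a : L} {g : Coll P L} (hg : g ∈ Ax a) : ∃ c : P, g ∈ Cn c := by
  classical
  by_cases h : ∃ p, p ∉ a ∧ g • p = p
  · obtain ⟨p, hp, hgp⟩ := h
    exact ⟨p, Ax.mem_Cn hg hp hgp⟩
  push Not at h
  have hline : ∀ p : P, p ∉ a → ∃ m : L, p ∈ m ∧ m ≠ a ∧ g • m = m := by
    intro p hp
    obtain ⟨m, hm1, hm2⟩ := exists_join (L := L) (Ne.symm (h p hp))
    refine ⟨m, hm1, fun e : m = a => hp (e ▸ hm1), ?_⟩
    obtain ⟨q, hqm, hqa⟩ := exists_meet' (P := P) m a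
    have hne : q ≠ g • p := fun e => by
      have : g • p = p := MulAction.injective g (hg (g • p) (e ▸ hqa))
      exact h p hp this
    refine line_unique hne ?_ ((g.smul_mem p m).mpr hm1) hqm hm2
    have := (g.smul_mem q m).mpr hqm
    rwa [hg q hqa] at this
  have hmeet : ∀ m m' : L, m ≠ a → m' ≠ a → g • m = m → g • m' = m' → ∀ x : P, x ∈ m → x ∈ a →
      x ∈ m' := by
    intro m m' hma _ hm hm' x hxm hxa
    by_cases e : m = m'
    · exact e ▸ hxm
    obtain ⟨y, hy1, hy2⟩ := exists_meet (P := P) e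
    have hya : y ∈ a := by
      by_contra hy
      exact h y hy (Coll.fixed_point_of_two e hm hm' hy1 hy2)
    exact point_unique hma hy1 hya hxm hxa ▸ hy2
  obtain ⟨p0, hp0, -⟩ := exists_not_mem_two (P := P) a a
  obtain ⟨m0, -, hm0a, hm0⟩ := hline p0 hp0
  obtain ⟨c, hcm, hca⟩ := exists_meet (P := P) hm0a
  refine ⟨c, fun l hl => ?_⟩
  by_cases hla : l = a
  · rw [hla]; exact Ax.smul_line hg
  obtain ⟨p, hpl, hpc, -⟩ := exists_mem_ne_ne l c c
  have hpa : p ∉ a := fun e => hpc (point_unique hla hpl e hl hca)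
  obtain ⟨m, hpm, hma, hm⟩ := hline p hpa
  have hc : c ∈ m := hmeet m0 m hm0a hma hm0 hm c hcm hca
  rw [line_unique hpc hpl hl hpm hc]
  exact hm

theorem Cn.exists_axis {c : P} {g : Coll P L} (hg : g ∈ Cn c) : ∃ a : L, g ∈ Ax a :=
  Ax.exists_centre (P := Dual L) (L := Dual P) (g := Coll.toDual g) hg

/-- The fixed points of a perspectivity other than `1` are its centre and the points of its axis. -/
theorem fixed_iff {a : L} {c : P} {g : Coll P L} (ha : g ∈ Ax a) (hc : g ∈ Cn c) (hg : g ≠ 1)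
    (p : P) : g • p = p ↔ p ∈ a ∨ p = c := by
  refine ⟨fun hp => ?_, fun h => h.elim (ha p) fun e => e ▸ Cn.smul_centre hc⟩
  by_contra hne
  push Not at hne
  obtain ⟨hpa, hpc⟩ := hne
  obtain ⟨l, hpl, hcl⟩ := exists_join (L := L) hpc
  obtain ⟨q, hql, hqa⟩ := exists_not_mem_two (P := P) l a
  obtain ⟨m, hm1, hm2⟩ := exists_join' (L := L) c q
  obtain ⟨m', hm1', hm2'⟩ := exists_join' (L := L) p q
  have hmm : m' ≠ m := fun e => by
    subst e
    exact hql (line_unique hpc hpl hcl hm1' hm1 ▸ hm2)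
  have hgq : g • q = q :=
    Coll.fixed_point_of_two hmm (Ax.mem_Cn ha hpa hp m' hm1') (hc m hm1) hm2' hm2
  exact hg (Ax.eq_one_of_two ha hpa hqa (fun e : p = q => hql (e ▸ hpl)) hp hgq)

theorem fixed_line_iff {a : L} {c : P} {g : Coll P L} (ha : g ∈ Ax a) (hc : g ∈ Cn c) (hg : g ≠ 1)
    (l : L) : g • l = l ↔ c ∈ l ∨ l = a :=
  fixed_iff (P := Dual L) (L := Dual P) (g := Coll.toDual g) hc ha
    (fun e => hg (Coll.toDual.map_eq_one_iff.mp e)) l

theorem axis_unique {a a' : L} {g : Coll P L} (ha : g ∈ Ax a) (ha' : g ∈ Ax a') (hg : g ≠ 1) :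
    a = a' := by
  by_contra hne
  obtain ⟨c, hc⟩ := Ax.exists_centre ha
  obtain ⟨x, hx, hx'⟩ := exists_meet (P := P) hne
  obtain ⟨r, hr, hrx, hrc⟩ := exists_mem_ne_ne a' x c
  rcases (fixed_iff ha hc hg r).mp (ha' r hr) with h | h
  · exact hrx (point_unique hne h hr hx hx')
  · exact hrc h

theorem centre_unique {c c' : P} {g : Coll P L} (hc : g ∈ Cn c) (hc' : g ∈ Cn c') (hg : g ≠ 1) :
    c = c' :=
  axis_unique (P := Dual L) (L := Dual P) (g := Coll.toDual g) hc hc'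
    (fun e => hg (Coll.toDual.map_eq_one_iff.mp e))

/-- Two involutory homologies with one centre and distinct axes give an elation. -/
theorem IsHom.exists_elation {g h : Coll P L} {c : P} {a a' : L} (hg : IsHom g c a)
    (hh : IsHom h c a') (hne : a ≠ a') :
    ∃ b : L, g * h ≠ 1 ∧ g * h ∈ Cn c ∧ g * h ∈ Ax b ∧ c ∈ b := by
  have hne1 : g * h ≠ 1 := fun e => hne (by
    have : g = h := by rw [mul_eq_one_iff_eq_inv.mp e, inv_eq_of_mul_eq_one_right hh.sq]
    exact axis_unique hg.ax (this ▸ hh.ax) hg.ne)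
  have hcn : g * h ∈ Cn c := mul_mem hg.cn hh.cn
  obtain ⟨b, hb⟩ := Cn.exists_axis hcn
  refine ⟨b, hne1, hcn, hb, ?_⟩
  by_contra hcb
  have hinv : ∀ k : Coll P L, k * (g * h) * k⁻¹ = (g * h)⁻¹ → k • b = b := fun k e =>
    axis_unique (e ▸ conj_mem_Ax hb k) (inv_mem hb) (inv_ne_one.mpr hne1)
  have hgi : g⁻¹ = g := inv_eq_of_mul_eq_one_right hg.sq
  have hhi : h⁻¹ = h := inv_eq_of_mul_eq_one_right hh.sq
  have e1 : b = a := ((fixed_line_iff hg.ax hg.cn hg.ne b).mp (hinv g (by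
    rw [mul_inv_rev, hgi, hhi, ← mul_assoc g, hg.sq, one_mul]))).resolve_left hcb
  have e2 : b = a' := ((fixed_line_iff hh.ax hh.cn hh.ne b).mp (hinv h (by
    rw [mul_inv_rev, hgi, hhi, mul_assoc h, mul_assoc g, hh.sq, mul_one]))).resolve_left hcb
  exact hne (e1 ▸ e2)

end Cfsg.Agent.OstromWagner
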