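import Cfsg.Agent.Lib.OstromWagner.Trans
import Cfsg.Agent.Lib.OstromWagner.Involution

/-!
# Planes of odd order in which every pair is fixed by an involutory homology

The group then contains an elation, and it is transitive on the points of every line which is not an
axis.
-/

set_option autoImplicit false
set_option linter.style.haveILetI false
set_option linter.unusedSectionVars false

namespace Cfsg.Agent.OstromWagner

open Configuration

variable {P L : Type*} [Membership P L]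

/-- `c` is the centre of an involutory homology in `Γ`. -/
def IsC (Γ : Subgroup (Coll P L)) (c : P) : Prop := ∃ g ∈ Γ, ∃ a : L, IsHom g c a

/-- `a` is the axis of an involutory homology in `Γ`. -/
def IsA (Γ : Subgroup (Coll P L)) (a : L) : Prop := ∃ g ∈ Γ, ∃ c : P, IsHom g c a

/-- The dual group. -/
def dualGroup (Γ : Subgroup (Coll P L)) : Subgroup (Coll (Dual L) (Dual P)) :=
  Γ.map (Coll.toDual (P := P) (L := L)).toMonoidHom

theorem mem_dualGroup {Γ : Subgroup (Coll P L)} {g : Coll P L} (hg : g ∈ Γ) :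
    Coll.toDual g ∈ dualGroup Γ := ⟨g, hg, rfl⟩

theorem IsA.dual {Γ : Subgroup (Coll P L)} {a : L} (h : IsA Γ a) :
    IsC (dualGroup Γ) (a : Dual L) := by
  obtain ⟨g, hg, c, hh⟩ := h
  exact ⟨_, mem_dualGroup hg, c, hh.dual⟩

theorem IsC.dual {Γ : Subgroup (Coll P L)} {c : P} (h : IsC Γ c) :
    IsA (dualGroup Γ) (c : Dual P) := by
  obtain ⟨g, hg, a, hh⟩ := h
  exact ⟨_, mem_dualGroup hg, a, hh.dual⟩

theorem IsHom.of_dual {g : Coll P L} {c : P} {a : L}
    (h : IsHom (P := Dual L) (L := Dual P) (Coll.toDual g) a c) : IsHom g c a where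
  sq := Coll.toDual.injective (by rw [map_mul, map_one]; exact h.sq)
  ne := fun e => h.ne (by rw [e, map_one])
  cn := h.ax
  ax := h.cn
  nmem := h.nmem

theorem IsA.of_dual {Γ : Subgroup (Coll P L)} {c : P}
    (h : IsA (dualGroup Γ) (c : Dual P)) : IsC Γ c := by
  obtain ⟨_, ⟨g, hg, rfl⟩, a, hh⟩ := h
  exact ⟨g, hg, a, IsHom.of_dual hh⟩

theorem IsC.of_dual {Γ : Subgroup (Coll P L)} {a : L}
    (h : IsC (dualGroup Γ) (a : Dual L)) : IsA Γ a := by
  obtain ⟨_, ⟨g, hg, rfl⟩, c, hh⟩ := h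
  exact ⟨g, hg, c, IsHom.of_dual hh⟩

theorem IsC.smul {Γ : Subgroup (Coll P L)} {c : P} (h : IsC Γ c) {k : Coll P L} (hk : k ∈ Γ) :
    IsC Γ (k • c) := by
  obtain ⟨g, hg, a, hh⟩ := h
  exact ⟨_, mul_mem (mul_mem hk hg) (inv_mem hk), k • a, hh.conj k⟩

theorem IsA.smul {Γ : Subgroup (Coll P L)} {a : L} (h : IsA Γ a) {k : Coll P L} (hk : k ∈ Γ) :
    IsA Γ (k • a) := by
  obtain ⟨g, hg, c, hh⟩ := h
  exact ⟨_, mul_mem (mul_mem hk hg) (inv_mem hk), k • c, hh.conj k⟩

variable [ProjectivePlane P L] [Finite P] [Finite L]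

/-- Every pair of points and every pair of lines is fixed by an involutory homology of `Γ`. -/
structure PairProp (Γ : Subgroup (Coll P L)) : Prop where
  odd : Odd ord(P, L)
  pairP : ∀ p q : P, p ≠ q → ∃ g ∈ Γ, ∃ c a, IsHom g c a ∧ g • p = p ∧ g • q = q
  pairL : ∀ l m : L, l ≠ m → ∃ g ∈ Γ, ∃ c a, IsHom g c a ∧ g • l = l ∧ g • m = m

variable {Γ : Subgroup (Coll P L)}

theorem PairProp.dual (h : PairProp Γ) : PairProp (dualGroup Γ) where
  odd := by rw [ProjectivePlane.Dual.order]; exact h.odd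
  pairP l m hne := by
    obtain ⟨g, hg, c, a, hh, h1, h2⟩ := h.pairL l m hne
    exact ⟨_, mem_dualGroup hg, a, c, hh.dual, h1, h2⟩
  pairL p q hne := by
    obtain ⟨g, hg, c, a, hh, h1, h2⟩ := h.pairP p q hne
    exact ⟨_, mem_dualGroup hg, a, c, hh.dual, h1, h2⟩

theorem PairProp.three_le (h : PairProp Γ) : 3 ≤ ord(P, L) := by
  obtain ⟨j, hj⟩ := h.odd
  have := ProjectivePlane.one_lt_order P L
  omega

theorem IsHom.fixed_iff {g : Coll P L} {c : P} {a : L} (hg : IsHom g c a) (p : P) :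
    g • p = p ↔ p ∈ a ∨ p = c :=
  OstromWagner.fixed_iff hg.ax hg.cn hg.ne p

theorem IsHom.fixed_line_iff {g : Coll P L} {c : P} {a : L} (hg : IsHom g c a) (l : L) :
    g • l = l ↔ c ∈ l ∨ l = a :=
  OstromWagner.fixed_line_iff hg.ax hg.cn hg.ne l

/-- There is no polarity without absolute points. -/
theorem no_polarity (f : P → L) (hf : Function.Injective f) (hsym : ∀ p q, q ∈ f p → p ∈ f q)
    (habs : ∀ p, p ∉ f p) : False := by
  classical
  haveI := Fintype.ofFinite P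
  obtain ⟨r, hr, hrk⟩ :=
    Nat.exists_prime_and_dvd (show ord(P, L) ≠ 1 from (ProjectivePlane.one_lt_order P L).ne')
  haveI : Fact r.Prime := ⟨hr⟩
  have hk0 : ((ord(P, L) : ℕ) : ZMod r) = 0 := (ZMod.natCast_eq_zero_iff _ _).mpr hrk
  let A : Matrix P P (ZMod r) := Matrix.of fun p q => if q ∈ f p then 1 else 0
  let J : Matrix P P (ZMod r) := Matrix.of fun _ _ => 1
  have hcnt : ∀ p q, (A * A) p q = 1 := by
    intro p q
    have hset : (A * A) p q =
        (({x : P | x ∈ f p ∧ x ∈ f q}.ncard : ℕ) : ZMod r) := by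
      rw [Matrix.mul_apply, Set.ncard_eq_toFinset_card',
        show {x : P | x ∈ f p ∧ x ∈ f q}.toFinset = Finset.univ.filter (fun x => x ∈ f p ∧ x ∈ f q)
          by ext; simp, Finset.natCast_card_filter]
      refine Finset.sum_congr rfl fun x _ => ?_
      have e : q ∈ f x ↔ x ∈ f q := ⟨hsym x q, hsym q x⟩
      simp only [A, Matrix.of_apply, e, ite_and, ite_mul, one_mul, zero_mul]
    rw [hset]
    by_cases hpq : p = q
    · subst hpq
      simp only [and_self, ncard_line, Nat.cast_add, hk0, Nat.cast_one, zero_add]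
    · obtain ⟨x, hx1, hx2⟩ := exists_meet (P := P) fun e => hpq (hf e)
      rw [show {x : P | x ∈ f p ∧ x ∈ f q} = {x} by
        ext y
        exact ⟨fun hy => point_unique (fun e => hpq (hf e)) hy.1 hy.2 hx1 hx2,
          by rintro rfl; exact ⟨hx1, hx2⟩⟩, Set.ncard_singleton, Nat.cast_one]
  have hA2 : A * A = J := by ext p q; exact hcnt p q
  have hAJ : A * J = J := by
    ext p q
    rw [Matrix.mul_apply]
    simp only [A, J, Matrix.of_apply, mul_one]
    rw [← Finset.natCast_card_filter,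
      show Finset.univ.filter (fun x => x ∈ f p) = {x : P | x ∈ f p}.toFinset by ext; simp,
      ← Set.ncard_eq_toFinset_card', ncard_line, Nat.cast_add, hk0, zero_add, Nat.cast_one]
  have hpow : ∀ j, A ^ (j + 2) = J := fun j => by
    induction j with
    | zero => rw [zero_add, pow_two, hA2]
    | succ j ih => rw [show j + 1 + 2 = (j + 2) + 1 from rfl, pow_succ', ih, hAJ]
  have ht := ZMod.trace_pow_card A
  have hAr : A ^ r = J := by
    have h' := hpow (r - 2)
    rwa [Nat.sub_add_cancel hr.two_le] at h'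
  rw [hAr, show Matrix.trace A = 0 from
    Finset.sum_eq_zero fun p _ => by simp [A, habs p], zero_pow hr.ne_zero] at ht
  have hJ : Matrix.trace J = ((Fintype.card P : ℕ) : ZMod r) := by
    simp [Matrix.trace, J]
  rw [hJ, ProjectivePlane.card_points P L] at ht
  simp [hk0] at ht

/-- Centres and axes do not determine one another. -/
theorem not_unique (h : PairProp Γ)
    (h1 : ∀ g ∈ Γ, ∀ g' ∈ Γ, ∀ c a a', IsHom g c a → IsHom g' c a' → a = a')
    (h2 : ∀ g ∈ Γ, ∀ g' ∈ Γ, ∀ c c' a, IsHom g c a → IsHom g' c' a → c = c') : False := by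
  have hstep : ∀ g ∈ Γ, ∀ p a, IsHom g p a → ∀ l : L, p ∈ l →
      ∃ g' ∈ Γ, ∃ d, IsHom g' d l ∧ d ∈ a := by
    intro g hg p a hga l hpl
    have hla : l ≠ a := fun e => hga.nmem (e ▸ hpl)
    obtain ⟨x, hxl, hxa⟩ := exists_meet (P := P) hla
    obtain ⟨q, hql, hqp, hqx⟩ := exists_mem_ne_ne l p x
    have hqa : q ∉ a := fun e => hqx (point_unique hla hql e hxl hxa)
    obtain ⟨g', hg', c, b, hb, hgp, hgq⟩ := h.pairP p q hqp.symm
    have hl : b = l := by
      rcases (hb.fixed_iff p).mp hgp with hp | hp <;> rcases (hb.fixed_iff q).mp hgq with hq | hq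
      · exact line_unique hqp.symm hp hq hpl hql
      · exfalso
        subst hq
        have hconj := hga.conj g'
        rw [hgp] at hconj
        have hfix : g' • a = a :=
          (h1 g hg _ (mul_mem (mul_mem hg' hg) (inv_mem hg')) p a _ hga hconj).symm
        rcases (hb.fixed_line_iff a).mp hfix with h' | h'
        · exact hqa h'
        · exact hga.nmem (h' ▸ hp)
      · exfalso
        subst hp
        exact hqa (h1 g hg g' hg' p a b hga hb ▸ hq)
      · exact absurd (hp.trans hq.symm) hqp.symm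
    subst hl
    refine ⟨g', hg', c, hb, ?_⟩
    have hconj := hb.conj g
    rw [hga.cn b hpl] at hconj
    have hgc : g • c = c :=
      (h2 g' hg' _ (mul_mem (mul_mem hg hg') (inv_mem hg)) c _ b hb hconj).symm
    exact ((hga.fixed_iff c).mp hgc).resolve_right fun e => hb.nmem (e ▸ hpl)
  have hsurj : ∀ g ∈ Γ, ∀ p a, IsHom g p a → ∀ x, x ∈ a →
      ∃ g' ∈ Γ, ∃ l : L, p ∈ l ∧ IsHom g' x l := by
    intro g hg p a hga x hx
    choose g' hg' d hd hda using hstep g hg p a hga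
    let F : {l : L | p ∈ l} → {y : P | y ∈ a} := fun l => ⟨d l.1 l.2, hda l.1 l.2⟩
    have hF : Function.Injective F := fun l m e => Subtype.ext (by
      have e1 : d l.1 l.2 = d m.1 m.2 := congrArg Subtype.val e
      exact h1 _ (hg' l.1 l.2) _ (hg' m.1 m.2) _ _ _ (hd l.1 l.2) (e1 ▸ hd m.1 m.2))
    obtain ⟨l, hl⟩ := (hF.bijective_of_nat_card_le (by
      rw [Nat.card_coe_set_eq, Nat.card_coe_set_eq, ncard_line, ncard_lines])).2 ⟨x, hx⟩
    exact ⟨g' l.1 l.2, hg' l.1 l.2, l.1, l.2, by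
      have e : d l.1 l.2 = x := congrArg Subtype.val hl
      exact e ▸ hd l.1 l.2⟩
  obtain ⟨p₁, -, -, l₀, -⟩ := (ProjectivePlane.exists_config : ∃ (p₁ p₂ p₃ : P) (l₁ l₂ l₃ : L), _)
  obtain ⟨q₁, -, hq₁, -⟩ := exists_mem_ne_ne l₀ p₁ p₁
  obtain ⟨g₀, hg₀, c₀, a₀, h₀, -⟩ := h.pairP p₁ q₁ hq₁.symm
  have hall : ∀ x : P, ∃ a, ∃ g ∈ Γ, IsHom g x a := fun x => by
    by_cases hx : x = c₀
    · exact ⟨a₀, g₀, hg₀, hx ▸ h₀⟩
    obtain ⟨l, hxl, hcl⟩ := exists_join (L := L) hx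
    obtain ⟨g', hg', d, hd, -⟩ := hstep g₀ hg₀ c₀ a₀ h₀ l hcl
    obtain ⟨g'', hg'', m, -, hm⟩ := hsurj g' hg' d l hd x hxl
    exact ⟨m, g'', hg'', hm⟩
  choose f gf hgf hf using hall
  refine no_polarity f (fun p q e => h2 _ (hgf p) _ (hgf q) p q (f p) (hf p) (e ▸ hf q))
    (fun p q hq => ?_) (fun p => (hf p).nmem)
  obtain ⟨g', hg', l, hpl, hl⟩ := hsurj _ (hgf p) p (f p) (hf p) q hq
  rw [h1 _ (hgf q) g' hg' q (f q) l (hf q) hl]
  exact hpl

/-- `Γ` contains an elation. -/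
theorem PairProp.exists_elation (h : PairProp Γ) :
    ∃ e ∈ Γ, ∃ c b, e ≠ 1 ∧ e ∈ Cn c ∧ e ∈ Ax b ∧ c ∈ b := by
  by_contra hno
  push Not at hno
  refine not_unique h (fun g hg g' hg' c a a' ha ha' => ?_) (fun g hg g' hg' c c' a hc hc' => ?_)
  · by_contra hne
    obtain ⟨b, e1, e2, e3, e4⟩ := ha.exists_elation ha' hne
    exact hno _ (mul_mem hg hg') c b e1 e2 e3 e4
  · by_contra hne
    obtain ⟨b, e1, e2, e3, e4⟩ := hc.dual.exists_elation hc'.dual hne
    rw [← map_mul] at e1 e2 e3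
    exact hno _ (mul_mem hg hg') b a (fun e => e1 (by rw [e, map_one])) e3 e2 e4

theorem PairProp.exists_elation_prime (h : PairProp Γ) :
    ∃ p : ℕ, p.Prime ∧ p ∣ ord(P, L) ∧
      ∃ e ∈ Γ, ∃ c b, e ≠ 1 ∧ e ^ p = 1 ∧ e ∈ Cn c ∧ e ∈ Ax b ∧ c ∈ b := by
  obtain ⟨e, he, c, b, e1, ec, eb, hcb⟩ := h.exists_elation
  obtain ⟨p, hp, hpo⟩ := Nat.exists_prime_and_dvd (orderOf_eq_one_iff.not.mpr e1)
  set e0 := e ^ (orderOf e / p) with he0
  have ho : orderOf e0 = p := orderOf_pow_orderOf_div (orderOf_pos e).ne' hpo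
  have hd : Nat.card (Subgroup.zpowers e0) ∣ ord(P, L) :=
    card_dvd_order (Subgroup.zpowers_le.mpr (mem_Trans (pow_mem eb _) (pow_mem ec _) hcb)) hcb
      (Subgroup.zpowers_le.mpr (pow_mem ec _))
  rw [Nat.card_zpowers, ho] at hd
  exact ⟨p, hp, hd, e0, pow_mem he _, c, b, fun e' => hp.ne_one (by rw [← ho, e', orderOf_one]),
    ho ▸ pow_orderOf_eq_one e0, pow_mem ec _, pow_mem eb _, hcb⟩

/-- An elation of prime order `p` moves all but one of the points of a line through its centre. -/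
theorem elation_modEq {e : Coll P L} {p : ℕ} (hp : p.Prime) (e1 : e ≠ 1) (hep : e ^ p = 1)
    {c : P} {b l : L} (ec : e ∈ Cn c) (eb : e ∈ Ax b) (hcb : c ∈ b) (hcl : c ∈ l) (hlb : l ≠ b)
    (S : Set P) (hSl : ∀ x ∈ S, x ∈ l) (hS : ∀ x ∈ S, e • x ∈ S) :
    p ∣ {x | x ∈ S ∧ x ≠ c}.ncard := by
  haveI : Fact p.Prime := ⟨hp⟩
  have ho : orderOf e = p := orderOf_eq_prime hep e1
  rw [← ho, ← Nat.card_zpowers]
  have hT : Subgroup.zpowers e ≤ Trans b := Subgroup.zpowers_le.mpr (mem_Trans eb ec hcb)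
  have hSe : ∀ g ∈ Subgroup.zpowers e, ∀ x ∈ S, g • x ∈ S := by
    intro g hg x hx
    obtain ⟨j, rfl⟩ : ∃ j : ℕ, e ^ j = g :=
      (isOfFinOrder_of_finite e).mem_powers_iff_mem_zpowers.mpr hg
    induction j with
    | zero => rwa [pow_zero, one_smul]
    | succ j ih =>
      rw [pow_succ', mul_smul]
      exact hS _ (ih (Subgroup.npow_mem_zpowers e j))
  refine card_dvd_of_free _ _ (fun g hg x hx => ⟨hSe g hg x hx.1, fun h => hx.2 ?_⟩) fun g hg x hx he =>
    Trans.eq_one (hT hg) (fun hb => hx.2 (point_unique hlb (hSl x hx.1) hb hcl hcb)) he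
  exact MulAction.injective g (h.trans (Cn.smul_centre (Subgroup.zpowers_le.mpr ec hg)).symm)

/-- On a line which is not an axis all points are centres, and one orbit. -/
theorem nonaxis_line (h : PairProp Γ) {l : L} (hl : ¬ IsA Γ l) :
    (∀ p, p ∈ l → IsC Γ p) ∧ ∀ p q, p ∈ l → q ∈ l → ∃ g ∈ Γ, g • l = l ∧ g • p = q := by
  classical
  set H : Subgroup (Coll P L) := Γ ⊓ MulAction.stabilizer (Coll P L) l with hH
  have hpair : ∀ p q, p ∈ l → q ∈ l → p ≠ q → ∃ g ∈ H, g * g = 1 ∧ (IsC Γ p ∨ IsC Γ q) ∧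
      ∀ x, x ∈ l → (g • x = x ↔ x = p ∨ x = q) := by
    intro p q hp hq hne
    obtain ⟨g, hg, c, a, ha, hgp, hgq⟩ := h.pairP p q hne
    have hla : l ≠ a := fun e => hl ⟨g, hg, c, e ▸ ha⟩
    refine ⟨g, ⟨hg, Coll.fixed_line_of_two hne hgp hgq hp hq⟩, ha.sq, ?_, fun x hx => ⟨fun hgx => ?_,
      by rintro (rfl | rfl) <;> assumption⟩⟩
    · rcases (ha.fixed_iff p).mp hgp with h' | h' <;> rcases (ha.fixed_iff q).mp hgq with h'' | h''
      · exact absurd (line_unique hne hp hq h' h'') hla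
      · exact Or.inr ⟨g, hg, a, h''.symm ▸ ha⟩
      · exact Or.inl ⟨g, hg, a, h'.symm ▸ ha⟩
      · exact absurd (h'.trans h''.symm) hne
    · rcases (ha.fixed_iff p).mp hgp with h1 | h1 <;> rcases (ha.fixed_iff q).mp hgq with h2 | h2 <;>
        rcases (ha.fixed_iff x).mp hgx with h3 | h3
      · exact absurd (line_unique hne hp hq h1 h2) hla
      · exact absurd (line_unique hne hp hq h1 h2) hla
      · exact Or.inl (point_unique hla hx h3 hp h1)
      · exact Or.inr (h3.trans h2.symm)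
      · exact Or.inr (point_unique hla hx h3 hq h2)
      · exact Or.inl (h3.trans h1.symm)
      · exact absurd (h1.trans h2.symm) hne
      · exact absurd (h1.trans h2.symm) hne
  have hline : ∀ g ∈ H, ∀ x, x ∈ l → g • x ∈ l := fun g hg x hx => Coll.smul_mem_of_fixed hg.2 hx
  let O : P → Set P := fun x => {y | ∃ g ∈ H, g • x = y}
  have hpar : ∀ x, x ∈ l → ∀ p q, p ∈ l → q ∈ l → p ≠ q →
      (O x).ncard % 2 = ({y | y ∈ O x ∧ (y = p ∨ y = q)}).ncard % 2 := by
    intro x hx p q hp hq hne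
    obtain ⟨g, hg, hgg, -, hfix⟩ := hpair p q hp hq hne
    have := involution_modEq (fun y : P => g • y) (Coll.smul_smul_self hgg) (O x) (by
      rintro y ⟨k, hk, rfl⟩
      exact ⟨g * k, mul_mem hg hk, mul_smul _ _ _⟩)
    rw [this]
    congr 2
    ext y
    constructor
    · rintro ⟨hy, he⟩
      obtain ⟨k, hk, rfl⟩ := hy
      exact ⟨⟨k, hk, rfl⟩, (hfix _ (hline k hk x hx)).mp he⟩
    · rintro ⟨hy, he⟩
      obtain ⟨k, hk, rfl⟩ := hy
      exact ⟨⟨k, hk, rfl⟩, (hfix _ (hline k hk x hx)).mpr he⟩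
  have hself : ∀ x, x ∈ O x := fun x => ⟨1, one_mem _, one_smul _ _⟩
  have hsingle : ∀ x, x ∈ l → ∀ y, y ∈ l → y ∉ O x → ∀ x' ∈ O x, x' = x := by
    intro x hx y hy hyx x' hx'
    by_contra hne
    have h1 := hpar x hx x y hx hy fun e => hyx (e ▸ hself x)
    have hx'l : x' ∈ l := by
      obtain ⟨g, hg, rfl⟩ := hx'
      exact hline g hg x hx
    have h2 := hpar x hx x x' hx hx'l (Ne.symm hne)
    rw [show {z | z ∈ O x ∧ (z = x ∨ z = y)} = {x} by
      ext z
      refine ⟨fun hz => hz.2.resolve_right fun e => hyx (e ▸ hz.1), ?_⟩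
      rintro rfl
      exact ⟨hself _, Or.inl rfl⟩, Set.ncard_singleton] at h1
    rw [show {z | z ∈ O x ∧ (z = x ∨ z = x')} = {x, x'} by
      ext z
      exact ⟨fun hz => hz.2, by rintro (rfl | rfl) <;> simp [hself, hx']⟩,
      Set.ncard_pair (Ne.symm hne)] at h2
    omega
  have horb : ∀ p q, p ∈ l → q ∈ l → q ∈ O p := by
    intro p q hp hq
    by_contra hpq
    have hall : ∀ y, y ∈ l → ∀ g ∈ H, g • y = y := by
      intro y hy g hg
      by_cases hyp : y ∈ O p
      · have e := hsingle p hp q hq hpq y hyp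
        subst e
        exact hsingle y hy q hq hpq _ ⟨g, hg, rfl⟩
      · have : p ∉ O y := fun ⟨k, hk, e⟩ => hyp ⟨k⁻¹, inv_mem hk, inv_smul_eq_iff.mpr e.symm⟩
        exact hsingle y hy p hp this _ ⟨g, hg, rfl⟩
    have hne : p ≠ q := fun e => hpq (e ▸ hself p)
    obtain ⟨g, hg, -, -, hfix⟩ := hpair p q hp hq hne
    obtain ⟨x, hx, hxp, hxq⟩ := exists_mem_ne_ne l p q
    rcases (hfix x hx).mp (hall x hx g hg) with h' | h'
    · exact hxp h'
    · exact hxq h'
  refine ⟨fun p hp => ?_, fun p q hp hq => ?_⟩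
  · obtain ⟨q, hq, hqp, -⟩ := exists_mem_ne_ne l p p
    obtain ⟨-, -, -, hc, -⟩ := hpair p q hp hq hqp.symm
    rcases hc with hc | hc
    · exact hc
    · obtain ⟨g, hg, e⟩ := horb q p hq hp
      exact e ▸ hc.smul hg.1
  · obtain ⟨g, hg, e⟩ := horb p q hp hq
    exact ⟨g, hg.1, hg.2, e⟩

theorem noncentre_point (h : PairProp Γ) {p : P} (hp : ¬ IsC Γ p) :
    (∀ l : L, p ∈ l → IsA Γ l) ∧
      ∀ l m : L, p ∈ l → p ∈ m → ∃ g ∈ Γ, g • p = p ∧ g • l = m := by
  obtain ⟨h1, h2⟩ := nonaxis_line (P := Dual L) (L := Dual P) h.dual (l := p)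
    fun hA => hp (IsA.of_dual hA)
  refine ⟨fun l hl => IsC.of_dual (h1 l hl), fun l m hl hm => ?_⟩
  obtain ⟨_, ⟨g, hg, rfl⟩, e1, e2⟩ := h2 l m hl hm
  exact ⟨g, hg, e1, e2⟩

end Cfsg.Agent.OstromWagner
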