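import Cfsg.Agent.Lib.OstromWagner.PlaneBasic

/-!
# Orbits and parities

How the orbits of the group meet the lines, modulo two.
-/

set_option autoImplicit false
set_option linter.style.haveILetI false
set_option linter.unusedSectionVars false

namespace Cfsg.Agent.OstromWagner

open Configuration

variable {P L : Type*} [Membership P L]

/-- The orbit of a point as a colour. -/
def col (Γ : Subgroup (Coll P L)) (p : P) : Quotient (MulAction.orbitRel Γ P) := ⟦p⟧

/-- A colour class. -/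
def cls (Γ : Subgroup (Coll P L)) (w : Quotient (MulAction.orbitRel Γ P)) : Set P :=
  {x | col Γ x = w}

/-- The number of points of colour `w` on `l`. -/
noncomputable def cnt (Γ : Subgroup (Coll P L)) (l : L) (w : Quotient (MulAction.orbitRel Γ P)) :
    ℕ :=
  {x : P | x ∈ l ∧ col Γ x = w}.ncard

theorem col_smul {Γ : Subgroup (Coll P L)} {g : Coll P L} (hg : g ∈ Γ) (p : P) :
    col Γ (g • p) = col Γ p :=
  Quotient.sound ⟨⟨g, hg⟩, rfl⟩

theorem exists_of_col_eq {Γ : Subgroup (Coll P L)} {p q : P} (h : col Γ p = col Γ q) :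
    ∃ g ∈ Γ, g • q = p := by
  obtain ⟨⟨g, hg⟩, e⟩ := Quotient.exact h
  exact ⟨g, hg, e⟩

theorem col_surjective (Γ : Subgroup (Coll P L)) : Function.Surjective (col Γ) :=
  Quotient.mk_surjective

variable [ProjectivePlane P L] [Finite P] [Finite L] {Γ : Subgroup (Coll P L)}

theorem IsC.of_col {p q : P} (hq : IsC Γ q) (h : col Γ p = col Γ q) : IsC Γ p := by
  obtain ⟨g, hg, e⟩ := exists_of_col_eq h
  exact e ▸ hq.smul hg

theorem double_count (X : Set P) (T : Set L) (f : P → ℕ) (g : L → ℕ)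
    (hf : ∀ p ∈ X, {l : L | l ∈ T ∧ p ∈ l}.ncard = f p)
    (hg : ∀ l ∈ T, {p : P | p ∈ X ∧ p ∈ l}.ncard = g l) :
    ∑ᶠ p ∈ X, f p = ∑ᶠ l ∈ T, g l := by
  classical
  rw [finsum_mem_eq_finite_toFinset_sum _ X.toFinite, finsum_mem_eq_finite_toFinset_sum _ T.toFinite]
  have h1 : ∀ p ∈ X.toFinite.toFinset, ((T.toFinite.toFinset).filter (p ∈ ·)).card = f p :=
    fun p hp => by
      rw [← hf p (X.toFinite.mem_toFinset.mp hp), ← Set.ncard_coe_finset]
      simp
  have h2 : ∀ l ∈ T.toFinite.toFinset, ((X.toFinite.toFinset).filter (· ∈ l)).card = g l :=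
    fun l hl => by
      rw [← hg l (T.toFinite.mem_toFinset.mp hl), ← Set.ncard_coe_finset]
      simp
  rw [← Finset.sum_congr rfl h1, ← Finset.sum_congr rfl h2]
  exact Finset.sum_card_bipartiteAbove_eq_sum_card_bipartiteBelow (fun (p : P) (l : L) => p ∈ l)

theorem double_count_const (X : Set P) (T : Set L) (a b : ℕ)
    (hf : ∀ p ∈ X, {l : L | l ∈ T ∧ p ∈ l}.ncard = a)
    (hg : ∀ l ∈ T, {p : P | p ∈ X ∧ p ∈ l}.ncard = b) : X.ncard * a = T.ncard * b := by
  have h := double_count X T (fun _ => a) (fun _ => b) hf hg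
  rwa [finsum_mem_eq_finite_toFinset_sum _ X.toFinite, finsum_mem_eq_finite_toFinset_sum _ T.toFinite,
    Finset.sum_const, Finset.sum_const, smul_eq_mul, smul_eq_mul, ← Set.ncard_eq_toFinset_card,
    ← Set.ncard_eq_toFinset_card] at h

/-- The lines through a point share out the remaining points of a set. -/
theorem sum_pencil (p : P) (X : Set P) :
    ∑ᶠ l ∈ {l : L | p ∈ l}, {x : P | (x ∈ X ∧ x ≠ p) ∧ x ∈ l}.ncard =
      {x : P | x ∈ X ∧ x ≠ p}.ncard := by
  have h := double_count {x : P | x ∈ X ∧ x ≠ p} {l : L | p ∈ l} (fun _ => 1)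
    (fun l => {x : P | (x ∈ X ∧ x ≠ p) ∧ x ∈ l}.ncard) (fun x hx => ?_) (fun l _ => rfl)
  · rw [← h, finsum_mem_eq_finite_toFinset_sum _ (Set.toFinite _), Finset.sum_const, smul_eq_mul,
      mul_one, ← Set.ncard_eq_toFinset_card]
  · obtain ⟨l, h1, h2⟩ := exists_join (L := L) hx.2
    rw [show {m : L | m ∈ {l : L | p ∈ l} ∧ x ∈ m} = {l} by
      ext m
      exact ⟨fun hm => line_unique hx.2 hm.2 hm.1 h1 h2, by rintro rfl; exact ⟨h2, h1⟩⟩,
      Set.ncard_singleton]

/-- A fixed homology line meets a colour in the colours of centre and axis point, modulo two. -/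
theorem cnt_mod_line {g : Coll P L} (hgΓ : g ∈ Γ) {c x : P} {a l : L} (hg : IsHom g c a)
    (hcl : c ∈ l) (hxl : x ∈ l) (hxa : x ∈ a) (w : Quotient (MulAction.orbitRel Γ P)) :
    cnt Γ l w % 2 = ({c, x} ∩ cls Γ w).ncard % 2 := by
  have hla : l ≠ a := fun e => hg.nmem (e ▸ hcl)
  have h := involution_modEq (fun y : P => g • y) (Coll.smul_smul_self hg.sq)
    {y : P | y ∈ l ∧ col Γ y = w}
    fun y hy => ⟨Coll.smul_mem_of_fixed (hg.cn l hcl) hy.1, by rw [col_smul hgΓ]; exact hy.2⟩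
  rw [cnt, h]
  congr 2
  ext y
  simp only [Set.mem_ofPred_eq, Set.mem_inter_iff, Set.mem_insert_iff, Set.mem_singleton_iff,
    cls, hg.fixed_iff]
  constructor
  · rintro ⟨⟨hyl, hy⟩, hya | rfl⟩
    · exact ⟨Or.inr (point_unique hla hyl hya hxl hxa), hy⟩
    · exact ⟨Or.inl rfl, hy⟩
  · rintro ⟨rfl | rfl, hy⟩
    · exact ⟨⟨hcl, hy⟩, Or.inr rfl⟩
    · exact ⟨⟨hxl, hy⟩, Or.inl hxa⟩

theorem cnt_mod_line' {g : Coll P L} (hgΓ : g ∈ Γ) {c x : P} {a l : L} (hg : IsHom g c a)
    (hcl : c ∈ l) (hxl : x ∈ l) (hxa : x ∈ a) (w : Quotient (MulAction.orbitRel Γ P)) :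
    Odd (cnt Γ l w) ↔ ¬ (col Γ c = w ↔ col Γ x = w) := by
  classical
  have hcx : c ≠ x := fun e => hg.nmem (e ▸ hxa)
  have h := cnt_mod_line hgΓ hg hcl hxl hxa w
  rw [Nat.odd_iff, h]
  by_cases h1 : col Γ c = w <;> by_cases h2 : col Γ x = w
  · rw [show ({c, x} ∩ cls Γ w : Set P) = {c, x} by
      ext y; simp only [Set.mem_inter_iff, cls, Set.mem_ofPred_eq, and_iff_left_iff_imp]
      rintro (rfl | rfl) <;> assumption, Set.ncard_pair hcx]
    simp [h1, h2]
  · rw [show ({c, x} ∩ cls Γ w : Set P) = {c} by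
      ext y; simp only [Set.mem_inter_iff, cls, Set.mem_ofPred_eq, Set.mem_singleton_iff]
      exact ⟨fun hy => hy.1.resolve_right fun e => h2 (e ▸ hy.2), by rintro rfl; exact ⟨Or.inl rfl, h1⟩⟩,
      Set.ncard_singleton]
    simp [h1, h2]
  · rw [show ({c, x} ∩ cls Γ w : Set P) = {x} by
      ext y; simp only [Set.mem_inter_iff, cls, Set.mem_ofPred_eq, Set.mem_singleton_iff]
      exact ⟨fun hy => hy.1.resolve_left fun e => h1 (e ▸ hy.2), by rintro rfl; exact ⟨Or.inr rfl, h2⟩⟩,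
      Set.ncard_singleton]
    simp [h1, h2]
  · rw [show ({c, x} ∩ cls Γ w : Set P) = ∅ by
      ext y; simp only [Set.mem_inter_iff, cls, Set.mem_ofPred_eq, Set.mem_empty_iff_false, iff_false,
        not_and]
      rintro (rfl | rfl) <;> assumption, Set.ncard_empty]
    simp [h1, h2]

/-- An axis meets a colour as the whole colour and the colour of the centre, modulo two. -/
theorem cnt_mod_axis {g : Coll P L} (hgΓ : g ∈ Γ) {c : P} {a : L} (hg : IsHom g c a)
    (w : Quotient (MulAction.orbitRel Γ P)) :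
    Odd (cnt Γ a w) ↔ ¬ (Odd (cls Γ w).ncard ↔ col Γ c = w) := by
  classical
  have h := involution_modEq (fun y : P => g • y) (Coll.smul_smul_self hg.sq) (cls Γ w)
    fun y hy => (col_smul hgΓ y).trans hy
  by_cases hc : col Γ c = w
  · rw [show {y | y ∈ cls Γ w ∧ g • y = y} = insert c {y : P | y ∈ a ∧ col Γ y = w} by
      ext y
      simp only [cls, Set.mem_ofPred_eq, Set.mem_insert_iff, hg.fixed_iff]
      constructor
      · rintro ⟨hy, hya | rfl⟩
        · exact Or.inr ⟨hya, hy⟩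
        · exact Or.inl rfl
      · rintro (rfl | ⟨hya, hy⟩)
        · exact ⟨hc, Or.inr rfl⟩
        · exact ⟨hy, Or.inl hya⟩,
      Set.ncard_insert_of_notMem fun hh => hg.nmem hh.1] at h
    unfold Nat.ModEq at h
    simp only [cnt, Nat.odd_iff, hc, iff_true]
    omega
  · rw [show {y | y ∈ cls Γ w ∧ g • y = y} = {y : P | y ∈ a ∧ col Γ y = w} by
      ext y
      simp only [cls, Set.mem_ofPred_eq, hg.fixed_iff]
      constructor
      · rintro ⟨hy, hya | rfl⟩
        · exact ⟨hya, hy⟩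
        · exact absurd hy hc
      · rintro ⟨hya, hy⟩
        exact ⟨hy, Or.inl hya⟩] at h
    unfold Nat.ModEq at h
    simp only [cnt, Nat.odd_iff, hc, iff_false, not_not]
    omega

theorem cnt_even_nonaxis (h : PairProp Γ) {l : L} (hl : ¬ IsA Γ l)
    (w : Quotient (MulAction.orbitRel Γ P)) : ¬ Odd (cnt Γ l w) := by
  obtain ⟨p, hp, -⟩ := exists_meet' (P := P) l l
  have hall : ∀ q, q ∈ l → col Γ q = col Γ p := fun q hq => by
    obtain ⟨g, hg, -, e⟩ := (nonaxis_line h hl).2 p q hp hq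
    exact e ▸ col_smul hg p
  by_cases hw : col Γ p = w
  · rw [cnt, show {x : P | x ∈ l ∧ col Γ x = w} = {x : P | x ∈ l} from
      Set.ext fun x => and_iff_left_of_imp fun hx => (hall x hx).trans hw, ncard_line,
      Nat.not_odd_iff_even]
    exact h.odd.add_one
  · rw [cnt, show {x : P | x ∈ l ∧ col Γ x = w} = ∅ from
      Set.eq_empty_iff_forall_notMem.mpr fun x hx => hw ((hall x hx.1).symm.trans hx.2),
      Set.ncard_empty]
    simp

theorem sum_cls (Γ : Subgroup (Coll P L)) [Fintype (Quotient (MulAction.orbitRel Γ P))] :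
    ∑ w, (cls Γ w).ncard = Nat.card P := by
  classical
  haveI := Fintype.ofFinite P
  rw [Nat.card_eq_fintype_card, ← Finset.card_univ,
    Finset.card_eq_sum_card_fiberwise (f := col Γ) (t := Finset.univ) fun _ _ => Finset.mem_univ _]
  refine Finset.sum_congr rfl fun w _ => ?_
  rw [← Set.ncard_coe_finset]
  congr 1
  ext
  simp [cls]

theorem exists_odd_colour (h : PairProp Γ) :
    ∃ w : Quotient (MulAction.orbitRel Γ P), Odd (cls Γ w).ncard := by
  classical
  haveI := Fintype.ofFinite (Quotient (MulAction.orbitRel Γ P))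
  by_contra hno
  push Not at hno
  have h1 : Even (Nat.card P) := sum_cls Γ ▸ Finset.even_sum _ fun w _ => Nat.not_odd_iff_even.mp (hno w)
  rw [card_pt (L := L), Nat.even_iff] at h1
  obtain ⟨j, hj⟩ := h.odd
  rw [hj, show (2 * j + 1) ^ 2 + (2 * j + 1) + 1 = 2 * (2 * j * j + 3 * j + 1) + 1 by ring] at h1
  omega

/-- A colour of a point which is not a centre is the only odd one. -/
theorem odd_unique_of_noncentre (h : PairProp Γ) {p : P} (hp : ¬ IsC Γ p)
    (w : Quotient (MulAction.orbitRel Γ P)) : Odd (cls Γ w).ncard ↔ w = col Γ p := by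
  have hev : ∀ w, w ≠ col Γ p → ¬ Odd (cls Γ w).ncard := by
    intro w hw
    obtain ⟨m₀, hm₀, -⟩ := exists_join' (L := L) p p
    have h1 := double_count_const (cls Γ w) {m : L | p ∈ m} 1 (cnt Γ m₀ w)
      (fun x hx => by
        have hxp : x ≠ p := fun e => hw (by rw [← e]; exact hx.symm)
        obtain ⟨l, h1, h2⟩ := exists_join (L := L) hxp
        rw [show {m : L | m ∈ {m : L | p ∈ m} ∧ x ∈ m} = {l} by
          ext m
          exact ⟨fun hm => line_unique hxp hm.2 hm.1 h1 h2, by rintro rfl; exact ⟨h2, h1⟩⟩,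
          Set.ncard_singleton])
      (fun m hm => by
        obtain ⟨g, hg, -, e⟩ := (noncentre_point h hp).2 m₀ m hm₀ hm
        subst e
        rw [cnt]
        conv_rhs => rw [← Set.ncard_image_of_injective _ (MulAction.injective g)]
        congr 1
        ext x
        simp only [cls, Set.mem_ofPred_eq, Set.mem_image]
        constructor
        · rintro ⟨h1, h2⟩
          exact ⟨g⁻¹ • x, ⟨(Coll.mem_smul_iff g x m₀).mp h2, by rw [col_smul (inv_mem hg), h1]⟩,
            smul_inv_smul _ _⟩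
        · rintro ⟨y, ⟨h1, h2⟩, rfl⟩
          exact ⟨by rw [col_smul hg, h2], (g.smul_mem y m₀).mpr h1⟩)
    rw [mul_one, ncard_lines] at h1
    rw [h1, Nat.not_odd_iff_even]
    exact h.odd.add_one.mul_right _
  refine ⟨fun ho => by_contra fun hw => hev w hw ho, ?_⟩
  rintro rfl
  obtain ⟨w₀, hw₀⟩ := exists_odd_colour h
  by_contra hno
  exact hev w₀ (fun e => hno (e ▸ hw₀)) hw₀

/-- When all points are centres and all lines axes there is one odd colour or exactly three. -/
theorem odd_colours (h : PairProp Γ) (hC : ∀ p, IsC Γ p) (hA : ∀ l : L, IsA Γ l) :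
    (∃ o, ∀ w, Odd (cls Γ w).ncard ↔ w = o) ∨
      ∃ o₁ o₂ o₃ : Quotient (MulAction.orbitRel Γ P), o₁ ≠ o₂ ∧ o₁ ≠ o₃ ∧ o₂ ≠ o₃ ∧
        ∀ w, Odd (cls Γ w).ncard ↔ w = o₁ ∨ w = o₂ ∨ w = o₃ := by
  classical
  haveI := Fintype.ofFinite (Quotient (MulAction.orbitRel Γ P))
  set S := Finset.univ.filter fun w : Quotient (MulAction.orbitRel Γ P) => Odd (cls Γ w).ncard with hS
  have hodd : Odd S.card := by
    rw [hS, ← Finset.odd_sum_iff_odd_card_odd, sum_cls, card_pt (L := L)]
    obtain ⟨j, hj⟩ := h.odd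
    exact ⟨2 * j * j + 3 * j + 1, by rw [hj]; ring⟩
  have hle : S.card ≤ 3 := by
    obtain ⟨-, -, -, l, -⟩ := (ProjectivePlane.exists_config : ∃ (p₁ p₂ p₃ : P) (l₁ l₂ l₃ : L), _)
    obtain ⟨g, hg, c, hgc⟩ := hA l
    obtain ⟨d, hd, -⟩ := exists_meet' (P := P) l l
    obtain ⟨g', hg', a, hga⟩ := hC d
    obtain ⟨x, hxl, hxa⟩ := exists_meet' (P := P) l a
    have hsub : S ⊆ {col Γ c, col Γ d, col Γ x} := by
      intro w hw
      rw [hS, Finset.mem_filter] at hw
      simp only [Finset.mem_insert, Finset.mem_singleton]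
      by_contra hno
      push Not at hno
      obtain ⟨n1, n2, n3⟩ := hno
      have h1 := (cnt_mod_axis hg hgc w).mpr fun h => n1.symm (h.mp hw.2)
      exact (cnt_mod_line' hg' hga hd hxl hxa w).mp h1
        ⟨fun h => absurd h.symm n2, fun h => absurd h.symm n3⟩
    exact (Finset.card_le_card hsub).trans Finset.card_le_three
  have hmem : ∀ w, Odd (cls Γ w).ncard ↔ w ∈ S := fun w => by simp [hS]
  obtain ⟨j, hj⟩ := hodd
  rcases (show S.card = 1 ∨ S.card = 3 by omega) with h1 | h3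
  · obtain ⟨o, ho⟩ := Finset.card_eq_one.mp h1
    exact Or.inl ⟨o, fun w => by rw [hmem, ho, Finset.mem_singleton]⟩
  · obtain ⟨a, b, c, hab, hac, hbc, he⟩ := Finset.card_eq_three.mp h3
    exact Or.inr ⟨a, b, c, hab, hac, hbc, fun w => by rw [hmem, he]; simp⟩

end Cfsg.Agent.OstromWagner
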