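import Cfsg.Agent.Lib.OstromWagner.PlaneBasic

/-!
# The cases in which the plane lemma finds a translation line

-/

set_option autoImplicit false
set_option linter.style.haveILetI false
set_option linter.unusedSectionVars false

namespace Cfsg.Agent.OstromWagner

open Configuration

variable {P L : Type*} [Membership P L] [ProjectivePlane P L] [Finite P] [Finite L]
  {Γ : Subgroup (Coll P L)}

/-- Homologies with axis `M` and every possible centre: `M` is a translation line. -/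
theorem isPrimePow_of_axisFull {M : L} (h : ∀ c : P, c ∉ M → ∃ g, IsHom g c M) :
    IsPrimePow ord(P, L) := by
  choose g hg using h
  obtain ⟨c₀, hc₀, -⟩ := exists_not_mem_two (P := P) M M
  have hT : ∀ c (hc : c ∉ M), g c hc * g c₀ hc₀ ∈ Trans M := by
    intro c hc
    by_cases hcc : c = c₀
    · subst hcc
      rw [(hg c hc).sq]
      exact one_mem _
    · obtain ⟨y, -, e2, e3, e4⟩ := (hg c hc).dual.exists_elation (hg c₀ hc₀).dual hcc
      rw [← map_mul] at e2 e3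
      exact mem_Trans e2 e3 e4
  have hinj : Function.Injective fun c : {c : P // c ∉ M} =>
      (⟨_, hT c.1 c.2⟩ : (Trans M : Subgroup (Coll P L))) := fun c d e => Subtype.ext (by
    have e1 : g c.1 c.2 * g c₀ hc₀ = g d.1 d.2 * g c₀ hc₀ := congrArg Subtype.val e
    have e2 := mul_right_cancel e1
    exact centre_unique (hg c.1 c.2).cn (e2 ▸ (hg d.1 d.2).cn) (hg c.1 c.2).ne)
  refine (fullTrans_of_card (a := M) le_rfl ?_).isPrimePow
  rw [← ncard_affine (P := P) M, ← Nat.card_coe_set_eq]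
  exact Nat.card_le_card_of_injective _ hinj

/-- Homologies with centre `z` and every possible axis. -/
theorem isPrimePow_of_centreFull {z : P} (h : ∀ a : L, z ∉ a → ∃ g, IsHom g z a) :
    IsPrimePow ord(P, L) := by
  rw [← ProjectivePlane.Dual.order P L]
  refine isPrimePow_of_axisFull (P := Dual L) (L := Dual P) (M := z) fun a ha => ?_
  obtain ⟨g, hg⟩ := h a ha
  exact ⟨_, hg.dual⟩

theorem conj_card_eq {g : Coll P L} (hg : g ∈ Γ) (c : P) (a : L) :
    Nat.card (Γ ⊓ Trans (g • a) ⊓ Cn (g • c) : Subgroup _) =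
      Nat.card (Γ ⊓ Trans a ⊓ Cn c : Subgroup _) := by
  have hback : ∀ y, y ∈ (Γ ⊓ Trans (g • a) ⊓ Cn (g • c) : Subgroup _) →
      g⁻¹ * y * g ∈ (Γ ⊓ Trans a ⊓ Cn c : Subgroup _) := fun y hy =>
    ⟨⟨Γ.mul_mem (Γ.mul_mem (Γ.inv_mem hg) hy.1.1) hg, by simpa using conj_mem_Trans hy.1.2 g⁻¹⟩,
      by simpa using conj_mem_Cn hy.2 g⁻¹⟩
  exact (Nat.card_congr
    { toFun := fun x => (⟨g * x.1 * g⁻¹, ⟨Γ.mul_mem (Γ.mul_mem hg x.2.1.1) (Γ.inv_mem hg),
        conj_mem_Trans x.2.1.2 g⟩, conj_mem_Cn x.2.2 g⟩ :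
        (Γ ⊓ Trans (g • a) ⊓ Cn (g • c) : Subgroup _))
      invFun := fun x => (⟨g⁻¹ * x.1 * g, hback x.1 x.2⟩ : (Γ ⊓ Trans a ⊓ Cn c : Subgroup _))
      left_inv := fun x => Subtype.ext (by group)
      right_inv := fun x => Subtype.ext (by group) }).symm

theorem conj_card_eq' {g : Coll P L} (hg : g ∈ Γ) {c c' : P} {a a' : L} (hc : g • c = c')
    (ha : g • a = a') :
    Nat.card (Γ ⊓ Trans a' ⊓ Cn c' : Subgroup _) = Nat.card (Γ ⊓ Trans a ⊓ Cn c : Subgroup _) := by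
  subst hc ha
  exact conj_card_eq hg c a

/-- A fixed point which is no centre and lies on every axis. -/
theorem isPrimePow_of_fixed_noncentre (h : PairProp Γ) {z : P} (hfix : ∀ g ∈ Γ, g • z = z)
    (hz : ¬ IsC Γ z) (hax : ∀ a : L, z ∉ a → ¬ IsA Γ a) : IsPrimePow ord(P, L) := by
  have hzt : ∀ l m : L, z ∈ l → z ∈ m → ∃ g ∈ Γ, g • l = m := fun l m hl hm => by
    obtain ⟨g, hg, -, e⟩ := (noncentre_point h hz).2 l m hl hm
    exact ⟨g, hg, e⟩
  have horb : ∀ p q : P, p ≠ z → q ≠ z → ∃ g ∈ Γ, g • p = q := by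
    intro p q hp hq
    obtain ⟨m₁, hp1, hz1⟩ := exists_join (L := L) hp
    obtain ⟨m₂, hq2, hz2⟩ := exists_join (L := L) hq
    obtain ⟨r, hr1, hr2⟩ := exists_not_mem_two (P := P) m₁ m₂
    have key : ∀ u, u ≠ z → ∀ m : L, u ∈ m → z ∈ m → r ∉ m → ∃ g ∈ Γ, g • u = r := by
      intro u hu m hum hzm hrm
      obtain ⟨l, hul, hrl⟩ := exists_join (L := L) (fun e : u = r => hrm (e ▸ hum))
      have hzl : z ∉ l := fun e => hrm (line_unique hu hum hzm hul e ▸ hrl)
      obtain ⟨g, hg, -, e⟩ := (nonaxis_line h (hax l hzl)).2 u r hul hrl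
      exact ⟨g, hg, e⟩
    obtain ⟨g, hg, e⟩ := key p hp m₁ hp1 hz1 hr1
    obtain ⟨g', hg', e'⟩ := key q hq m₂ hq2 hz2 hr2
    exact ⟨g'⁻¹ * g, mul_mem (inv_mem hg') hg,
      by rw [mul_smul, e, ← e', inv_smul_smul]⟩
  obtain ⟨e, he, y, b, e1, ey, eb, hyb⟩ := h.exists_elation
  have hzb : ∀ e ∈ Γ, ∀ c b, e ≠ 1 → e ∈ Cn c → e ∈ Ax b → c ∈ b → z ∈ b :=
    fun e he c b e1 ec eb hcb =>
      ((fixed_iff eb ec e1 z).mp (hfix e he)).elim id fun hh => hh ▸ hcb
  have hzb' : z ∈ b := hzb e he y b e1 ey eb hyb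
  by_cases hcase : ∃ e ∈ Γ, ∃ b, e ≠ 1 ∧ e ∈ Cn z ∧ e ∈ Ax b ∧ z ∈ b
  · obtain ⟨e', he', b', e1', ez, eb', hzb''⟩ := hcase
    rw [← ProjectivePlane.Dual.order P L]
    refine (fullTrans_of_uniform (P := Dual L) (L := Dual P) (a := z)
      (H := dualGroup Γ ⊓ Trans (P := Dual L) (L := Dual P) z) inf_le_right
      (h := Nat.card (dualGroup Γ ⊓ Trans (P := Dual L) (L := Dual P) z ⊓
        Cn (P := Dual L) (L := Dual P) b' : Subgroup _)) ?_ fun m hm => ?_).isPrimePow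
    · refine (Subgroup.one_lt_card_iff_ne_bot _).mpr fun hb => e1' ?_
      have : Coll.toDual e' ∈ dualGroup Γ ⊓ Trans (P := Dual L) (L := Dual P) z ⊓
          Cn (P := Dual L) (L := Dual P) b' :=
        ⟨⟨mem_dualGroup he', mem_Trans ez eb' hzb''⟩, eb'⟩
      rw [hb, Subgroup.mem_bot] at this
      exact Coll.toDual.map_eq_one_iff.mp this
    · obtain ⟨g, hg, eg⟩ := hzt b' m hzb'' hm
      exact conj_card_eq' (P := Dual L) (L := Dual P) (Γ := dualGroup Γ) (mem_dualGroup hg) eg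
        (hfix g hg)
  · exfalso
    have hyz : y ≠ z := fun hh => hcase ⟨e, he, b, e1, hh ▸ ey, eb, hh ▸ hyb⟩
    set H := Γ ⊓ Trans b with hH
    have hh : ∀ x ∈ {x : P | x ∈ b ∧ x ≠ z}, Nat.card (H ⊓ Cn x : Subgroup _) =
        Nat.card (H ⊓ Cn y : Subgroup _) := by
      rintro x ⟨hxb, hxz⟩
      obtain ⟨g, hg, eg⟩ := horb y x hyz hxz
      have hgb : g • b = b := by
        refine line_unique hxz (eg ▸ (g.smul_mem y b).mpr hyb) ?_ hxb hzb'
        have := (g.smul_mem z b).mpr hzb'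
        rwa [hfix g hg] at this
      have h2 := conj_card_eq (Γ := Γ) hg y b
      rw [eg, hgb] at h2
      exact h2
    have hcard := card_of_uniform (inf_le_right : H ≤ Trans b) {x : P | x ∈ b ∧ x ≠ z} _
      (fun g hg g1 c hc =>
        ⟨Trans.centre_mem_axis hg.2 hc g1, fun hcz => hcase ⟨g, hg.1, b, g1, hcz ▸ hc, hg.2.1, hzb'⟩⟩) hh
    rw [ncard_line_diff hzb'] at hcard
    have hdvd := card_dvd_sq (inf_le_right : H ≤ Trans b)
    have hlt : 1 < Nat.card (H ⊓ Cn y : Subgroup _) := by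
      refine (Subgroup.one_lt_card_iff_ne_bot _).mpr fun hb => e1 ?_
      have : e ∈ H ⊓ Cn y := ⟨⟨he, mem_Trans eb ey hyb⟩, ey⟩
      rwa [hb, Subgroup.mem_bot] at this
    have hco : Nat.Coprime (Nat.card H) (ord(P, L) ^ 2) := by
      refine Nat.Coprime.pow_right 2 ?_
      rw [hcard, Nat.coprime_comm, Nat.coprime_add_mul_left_right]
      exact Nat.coprime_one_right _
    have h1 := hco.eq_one_of_dvd hdvd
    rw [hcard] at h1
    nlinarith [h.three_le, Nat.sub_pos_of_lt hlt]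

/-- A group transitive on points with all points centres and all lines axes. -/
theorem isPrimePow_of_transitive (h : PairProp Γ) (ht : ∀ p q : P, ∃ g ∈ Γ, g • p = q) :
    IsPrimePow ord(P, L) := by
  classical
  obtain ⟨e₀, he₀, c₀, b₀, e1₀, ec₀, eb₀, hcb₀⟩ := h.exists_elation
  have hlt : ∀ l m : L, ∃ g ∈ Γ, g • l = m := line_transitive Γ ht
  by_cases hsingle : ∀ (x : P) (e e' : Coll P L) (b b' : L), e ∈ Γ → e' ∈ Γ → e ≠ 1 → e' ≠ 1 →
      e ∈ Cn x → e' ∈ Cn x → e ∈ Ax b → e' ∈ Ax b' → x ∈ b → x ∈ b' → b = b'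
  · exfalso
    have hex : ∀ x : P, ∃ e ∈ Γ, ∃ b, e ≠ 1 ∧ e ∈ Cn x ∧ e ∈ Ax b ∧ x ∈ b := fun x => by
      obtain ⟨g, hg, e⟩ := ht c₀ x
      subst e
      exact ⟨_, mul_mem (mul_mem hg he₀) (inv_mem hg), g • b₀,
        fun hh => e1₀ (by rwa [mul_inv_eq_one, mul_eq_left] at hh),
        conj_mem_Cn ec₀ g, conj_mem_Ax eb₀ g, (g.smul_mem _ _).mpr hcb₀⟩
    choose ε hεΓ α hε1 hεc hεa hmem using hex
    have heq : ∀ g ∈ Γ, ∀ x, g • α x = α (g • x) := fun g hg x =>
      hsingle (g • x) _ _ _ _ (mul_mem (mul_mem hg (hεΓ x)) (inv_mem hg)) (hεΓ _)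
        (fun hh => hε1 x (by rwa [mul_inv_eq_one, mul_eq_left] at hh)) (hε1 _)
        (conj_mem_Cn (hεc x) g) (hεc _) (conj_mem_Ax (hεa x) g) (hεa _) ((g.smul_mem _ _).mpr (hmem x))
        (hmem _)
    have hsurj : Function.Surjective α := fun l => by
      obtain ⟨g, hg, e⟩ := hlt (α c₀) l
      exact ⟨g • c₀, by rw [← heq g hg, e]⟩
    have hbij : Function.Bijective α :=
      (Nat.bijective_iff_surjective_and_card α).mpr ⟨hsurj, by rw [card_pt (L := L), card_ln (P := P)]⟩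
    have hS : ∀ c : P, {x : P | c ∈ α x}.ncard = ord(P, L) + 1 := fun c => by
      rw [← ncard_lines (L := L) c, ← Set.ncard_image_of_injective _ hbij.1]
      congr 1
      ext l
      simp only [Set.mem_image, Set.mem_ofPred_eq]
      constructor
      · rintro ⟨x, hx, rfl⟩
        exact hx
      · intro hl
        obtain ⟨x, rfl⟩ := hbij.2 l
        exact ⟨x, hl, rfl⟩
    have hsub : ∀ g ∈ Γ, ∀ c a, IsHom g c a → ∀ x, x ∈ a → α x ≠ a → c ∈ α x := by
      intro g hg c a hga x hx hne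
      have := heq g hg x
      rw [hga.ax x hx] at this
      exact ((hga.fixed_line_iff _).mp this).resolve_right hne
    have hk := h.three_le
    refine not_unique h (fun g hg g' hg' c a a' ha ha' => ?_) (fun g hg g' hg' c c' a hc hc' => ?_)
    · by_contra hne
      obtain ⟨y, hy⟩ := hbij.2 a
      obtain ⟨y', hy'⟩ := hbij.2 a'
      have hsub' : ((insert c ({x : P | x ∈ a} ∪ {x : P | x ∈ a'})) \ {y, y'}) ⊆ {x : P | c ∈ α x} := by
        rintro x ⟨hx, hxy⟩
        simp only [Set.mem_insert_iff, Set.mem_singleton_iff, not_or] at hxy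
        rcases hx with rfl | hx | hx
        · exact hmem _
        · exact hsub g hg c a ha x hx fun hh => hxy.1 (hbij.1 (hh.trans hy.symm))
        · exact hsub g' hg' c a' ha' x hx fun hh => hxy.2 (hbij.1 (hh.trans hy'.symm))
      have h1 := Set.ncard_le_ncard hsub'
      rw [hS] at h1
      have h2 := Set.le_ncard_sdiff ({y, y'} : Set P)
        (insert c ({x : P | x ∈ a} ∪ {x : P | x ∈ a'}))
      have h3 : (({y, y'} : Set P)).ncard ≤ 2 :=
        (Set.ncard_insert_le _ _).trans (by rw [Set.ncard_singleton])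
      have hc : c ∉ ({x : P | x ∈ a} ∪ {x : P | x ∈ a'}) := fun hh => hh.elim ha.nmem ha'.nmem
      rw [Set.ncard_insert_of_notMem hc] at h2
      have h4 := Set.ncard_union_add_ncard_inter {x : P | x ∈ a} {x : P | x ∈ a'}
      have h5 : ({x : P | x ∈ a} ∩ {x : P | x ∈ a'}).ncard ≤ 1 :=
        (Set.ncard_le_one (Set.toFinite _)).mpr fun u hu v hv =>
          point_unique hne hu.1 hu.2 hv.1 hv.2
      rw [ncard_line, ncard_line] at h4
      omega
    · by_contra hne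
      obtain ⟨y, hy⟩ := hbij.2 a
      obtain ⟨u, hu, huy, -⟩ := exists_mem_ne_ne a y y
      obtain ⟨v, hv, hvy, hvu⟩ := exists_mem_ne_ne a y u
      have n1 : ∀ u, u ≠ y → α u ≠ a := fun u huy hh => huy (hbij.1 (hh.trans hy.symm))
      exact hne (point_unique (fun hh => hvu (hbij.1 hh))
        (hsub g hg c a hc v hv (n1 v hvy)) (hsub g hg c a hc u hu (n1 u huy))
        (hsub g' hg' c' a hc' v hv (n1 v hvy)) (hsub g' hg' c' a hc' u hu (n1 u huy)))
  · push Not at hsingle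
    obtain ⟨x₀, e, e', b, b', he, he', e1, e1', ec, ec', eb, eb', hb, hb', hne⟩ := hsingle
    have hT : ∀ k (m : L), k ∈ Γ → k ∈ Cn x₀ → k ∈ Ax m → x₀ ∈ m →
        Coll.toDual k ∈ Trans (P := Dual L) (L := Dual P) x₀ := fun k m _ kc km hm =>
      mem_Trans kc km hm
    set D := Trans (P := Dual L) (L := Dual P) x₀ with hD
    have h2 : TwoDir D := ⟨_, hT e b he ec eb hb, _, hT e' b' he' ec' eb' hb', b, b',
      fun hh => e1 (Coll.toDual.map_eq_one_iff.mp hh),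
      fun hh => e1' (Coll.toDual.map_eq_one_iff.mp hh), eb, eb', hne⟩
    obtain ⟨p, hp, hexp⟩ := TwoDir.exists_prime le_rfl h2
    have hpow : ∀ k (m : L), k ∈ Γ → k ∈ Cn x₀ → k ∈ Ax m → x₀ ∈ m → k ^ p = 1 :=
      fun k m hk kc km hm => Coll.toDual.injective (by
        rw [map_pow, map_one]; exact hexp _ (hT k m hk kc km hm))
    have hgle : ∀ (l : L) (x : P), x ∈ l → ∃ e ∈ Γ, ∃ b : L, e ≠ 1 ∧ e ^ p = 1 ∧ e ∈ Cn x ∧
        e ∈ Ax b ∧ x ∈ b ∧ l ≠ b := by
      intro l x hxl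
      obtain ⟨g, hg, rfl⟩ := ht x₀ x
      have key : ∀ k (m : L), k ∈ Γ → k ≠ 1 → k ∈ Cn x₀ → k ∈ Ax m → x₀ ∈ m → l ≠ g • m →
          ∃ e ∈ Γ, ∃ b : L, e ≠ 1 ∧ e ^ p = 1 ∧ e ∈ Cn (g • x₀) ∧ e ∈ Ax b ∧ g • x₀ ∈ b ∧ l ≠ b :=
        fun k m hk k1 kc km hm hlm =>
          ⟨g * k * g⁻¹, mul_mem (mul_mem hg hk) (inv_mem hg), g • m,
            fun hh => k1 (by rwa [mul_inv_eq_one, mul_eq_left] at hh),
            by rw [conj_pow, hpow k m hk kc km hm, mul_one, mul_inv_cancel],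
            conj_mem_Cn kc g, conj_mem_Ax km g, (g.smul_mem _ _).mpr hm, hlm⟩
      by_cases hlb : l = g • b
      · exact key e' b' he' e1' ec' eb' hb' fun hh => hne (MulAction.injective g (hlb.symm.trans hh))
      · exact key e b he e1 ec eb hb hlb
    refine (fullTrans_of_flag Γ hlt ?_ e1 eb ec hb b).isPrimePow
    intro l u v hu hv
    by_contra hno
    let O : Set P := {w | ∃ g ∈ Γ, g • l = l ∧ g • u = w}
    have hOl : ∀ w ∈ O, w ∈ l := by
      rintro w ⟨g, -, hgl, rfl⟩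
      exact Coll.smul_mem_of_fixed hgl hu
    have hdiv : ∀ x, x ∈ l → p ∣ {w | w ∈ O ∧ w ≠ x}.ncard := by
      intro x hx
      obtain ⟨k, hk, m, k1, kp, kc, km, hxm, hlm⟩ := hgle l x hx
      refine elation_modEq hp k1 kp kc km hxm hx hlm O hOl ?_
      rintro w ⟨g, hg, hgl, rfl⟩
      exact ⟨k * g, mul_mem hk hg, by rw [mul_smul, hgl, kc l hx], mul_smul _ _ _⟩
    have huO : u ∈ O := ⟨1, one_mem _, one_smul _ _, one_smul _ _⟩
    have hvO : v ∉ O := fun ⟨g, hg, h1, h2⟩ => hno ⟨g, hg, h1, h2⟩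
    have d1 := hdiv v hv
    rw [show {w | w ∈ O ∧ w ≠ v} = O from
      Set.ext fun w => and_iff_left_of_imp fun hw e => hvO (e ▸ hw)] at d1
    have d2 := hdiv u hu
    rw [show {w | w ∈ O ∧ w ≠ u} = O \ {u} from rfl, Set.ncard_sdiff_singleton_of_mem huO] at d2
    have hpos : 0 < O.ncard := (Set.ncard_pos (Set.toFinite _)).mpr ⟨u, huO⟩
    have := Nat.dvd_sub d1 d2
    rw [show O.ncard - (O.ncard - 1) = 1 by omega] at this
    exact hp.ne_one (Nat.dvd_one.mp this)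

end Cfsg.Agent.OstromWagner
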