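import Cfsg.Agent.Lib.OstromWagner.PlaneColour
import Cfsg.Agent.Lib.OstromWagner.PlaneEnd

/-!
# Three odd orbits

Then one orbit is a point, or one line carries the complement of an orbit of size `k²`.
-/

set_option autoImplicit false
set_option linter.style.haveILetI false
set_option linter.unusedSectionVars false
set_option maxHeartbeats 1000000

namespace Cfsg.Agent.OstromWagner

open Configuration

variable {P L : Type*} [Membership P L] [ProjectivePlane P L] [Finite P] [Finite L]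
  {Γ : Subgroup (Coll P L)}

theorem finsum_two {α : Type*} [Finite α] (S : Set α) (Φ : α → Prop) (f : α → ℕ) (u v : ℕ)
    (h1 : ∀ l ∈ S, Φ l → f l = u) (h2 : ∀ l ∈ S, ¬ Φ l → f l = v) :
    ∑ᶠ l ∈ S, f l =
      {l | l ∈ S ∧ Φ l}.ncard * u + (S.ncard - {l | l ∈ S ∧ Φ l}.ncard) * v := by
  classical
  haveI := Fintype.ofFinite α
  rw [finsum_mem_eq_finite_toFinset_sum _ S.toFinite,
    ← Finset.sum_filter_add_sum_filter_not _ Φ]
  have e1 : (S.toFinite.toFinset.filter Φ).card = {l | l ∈ S ∧ Φ l}.ncard := by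
    rw [← Set.ncard_coe_finset]; simp
  have e2 : (S.toFinite.toFinset.filter fun l => ¬ Φ l).card =
      S.ncard - {l | l ∈ S ∧ Φ l}.ncard := by
    rw [← e1, Set.ncard_eq_toFinset_card S, ← Finset.card_filter_add_card_filter_not (s := S.toFinite.toFinset) Φ,
      Nat.add_sub_cancel_left]
  rw [← e2, ← e1]
  congr 1
  · rw [Finset.sum_congr rfl fun l hl => h1 l ((S.toFinite.mem_toFinset).mp (Finset.mem_filter.mp hl).1)
      (Finset.mem_filter.mp hl).2, Finset.sum_const, smul_eq_mul]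
  · rw [Finset.sum_congr rfl fun l hl => h2 l ((S.toFinite.mem_toFinset).mp (Finset.mem_filter.mp hl).1)
      (Finset.mem_filter.mp hl).2, Finset.sum_const, smul_eq_mul]

theorem three_arith {x y z k : ℕ} (hx : 0 < x) (hy : 0 < y) (hz : 0 < z) (hx' : x ≤ k) (hy' : y ≤ k)
    (hz' : z ≤ k)
    (e1 : ((k + 1 : ℤ) - x - y) * ((k + 1) - x - z) = k - x * ((k + 1) - x))
    (e2 : ((k + 1 : ℤ) - y - z) * ((k + 1) - y - x) = k - y * ((k + 1) - y))
    (e3 : ((k + 1 : ℤ) - z - x) * ((k + 1) - z - y) = k - z * ((k + 1) - z)) :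
    (x = 1 ∧ y = k ∨ x = 1 ∧ z = k ∨ x = k ∧ y = 1 ∨ x = k ∧ z = 1) ∨
    (y = 1 ∧ z = k ∨ y = 1 ∧ x = k ∨ y = k ∧ z = 1 ∨ y = k ∧ x = 1) ∨
    (z = 1 ∧ x = k ∨ z = 1 ∧ y = k ∨ z = k ∧ x = 1 ∨ z = k ∧ y = 1) := by
  have key : ∀ w : ℕ, 0 < w → w ≤ k → ((k : ℤ) - w * ((k + 1) - w) < 0) ∨ w = 1 ∨ w = k := by
    intro w hw hw'
    by_cases h1 : w = 1
    · exact Or.inr (Or.inl h1)
    by_cases h2 : w = k
    · exact Or.inr (Or.inr h2)
    left
    have a1 : (2 : ℤ) ≤ w := by omega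
    have a2 : (w : ℤ) + 1 ≤ k := by omega
    nlinarith
  rcases key x hx hx' with hx0 | hx0
  swap
  · left
    have hz0 : (k : ℤ) - x * ((k + 1) - x) = 0 := by
      rcases hx0 with h | h <;> subst h <;> push_cast <;> ring
    rw [hz0, mul_eq_zero] at e1
    rcases hx0 with h | h <;> rcases e1 with e | e <;> omega
  rcases key y hy hy' with hy0 | hy0
  swap
  · right; left
    have hz0 : (k : ℤ) - y * ((k + 1) - y) = 0 := by
      rcases hy0 with h | h <;> subst h <;> push_cast <;> ring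
    rw [hz0, mul_eq_zero] at e2
    rcases hy0 with h | h <;> rcases e2 with e | e <;> omega
  rcases key z hz hz' with hz0 | hz0
  swap
  · right; right
    have h00 : (k : ℤ) - z * ((k + 1) - z) = 0 := by
      rcases hz0 with h | h <;> subst h <;> push_cast <;> ring
    rw [h00, mul_eq_zero] at e3
    rcases hz0 with h | h <;> rcases e3 with e | e <;> omega
  exfalso
  have hneg := mul_neg_of_pos_of_neg (mul_pos_of_neg_of_neg hx0 hy0) hz0
  rw [← e1, ← e2, ← e3] at hneg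
  nlinarith [sq_nonneg (((k + 1 : ℤ) - x - y) * ((k + 1) - x - z) * ((k + 1) - y - z))]

theorem isPrimePow_of_three (h : PairProp Γ) (hC : ∀ p, IsC Γ p) (hA : ∀ l : L, IsA Γ l)
    {o₁ o₂ o₃ : Quotient (MulAction.orbitRel Γ P)} (h12 : o₁ ≠ o₂) (h13 : o₁ ≠ o₃) (h23 : o₂ ≠ o₃)
    (hodd : ∀ w, Odd (cls Γ w).ncard ↔ w = o₁ ∨ w = o₂ ∨ w = o₃) : IsPrimePow ord(P, L) := by
  classical
  set k := ord(P, L) with hk
  -- the colour a line misses
  have hty : ∀ (g : Coll P L), g ∈ Γ → ∀ c (a : L), IsHom g c a →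
      (col Γ c = o₁ ∨ col Γ c = o₂ ∨ col Γ c = o₃) ∧ ∀ p, p ∈ a → col Γ p ≠ col Γ c ∧
        (col Γ p = o₁ ∨ col Γ p = o₂ ∨ col Γ p = o₃) := by
    intro g hg c a hga
    have hax : ∀ w, Odd (cls Γ w).ncard → w ≠ col Γ c → Odd (cnt Γ a w) := fun w hw hne =>
      (cnt_mod_axis hg hga w).mpr fun hh => hne (hh.mp hw).symm
    have hline : ∀ p, p ∈ a → ∃ d, ∀ w, Odd (cnt Γ a w) ↔ ¬ (col Γ p = w ↔ col Γ d = w) := by
      intro p hp
      obtain ⟨g', hg', b, hgb⟩ := hC p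
      obtain ⟨x, hx1, hx2⟩ := exists_meet' (P := P) a b
      exact ⟨x, fun w => cnt_mod_line' hg' hgb hp hx1 hx2 w⟩
    have hwc : col Γ c = o₁ ∨ col Γ c = o₂ ∨ col Γ c = o₃ := by
      by_contra hno
      obtain ⟨p, hp, -⟩ := exists_meet' (P := P) a a
      obtain ⟨d, hd⟩ := hline p hp
      have e1 := (hd o₁).mp (hax _ ((hodd _).mpr (Or.inl rfl)) fun e => hno (Or.inl e.symm))
      have e2 := (hd o₂).mp (hax _ ((hodd _).mpr (Or.inr (Or.inl rfl)))
        fun e => hno (Or.inr (Or.inl e.symm)))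
      have e3 := (hd o₃).mp (hax _ ((hodd _).mpr (Or.inr (Or.inr rfl)))
        fun e => hno (Or.inr (Or.inr e.symm)))
      grind
    refine ⟨hwc, fun p hp => ?_⟩
    obtain ⟨d, hd⟩ := hline p hp
    have f : ∀ w, (w = o₁ ∨ w = o₂ ∨ w = o₃) → w ≠ col Γ c → ¬ (col Γ p = w ↔ col Γ d = w) :=
      fun w hw hne => (hd w).mp (hax w ((hodd w).mpr hw) hne)
    have f1 := f o₁ (Or.inl rfl)
    have f2 := f o₂ (Or.inr (Or.inl rfl))
    have f3 := f o₃ (Or.inr (Or.inr rfl))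
    grind
  have hcols : ∀ p, col Γ p = o₁ ∨ col Γ p = o₂ ∨ col Γ p = o₃ := fun p => by
    obtain ⟨g, hg, a, hga⟩ := hC p
    exact (hty g hg p a hga).1
  have hmiss : ∀ l : L, ∃ w, (w = o₁ ∨ w = o₂ ∨ w = o₃) ∧ (∀ p, p ∈ l → col Γ p ≠ w) ∧
      ∀ u, (u = o₁ ∨ u = o₂ ∨ u = o₃) → u ≠ w → 0 < cnt Γ l u := by
    intro l
    obtain ⟨g, hg, c, hgc⟩ := hA l
    obtain ⟨hw, hp⟩ := hty g hg c l hgc
    refine ⟨col Γ c, hw, fun p hp' => (hp p hp').1, fun u hu hne => ?_⟩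
    exact ((cnt_mod_axis hg hgc u).mpr fun hh => hne (hh.mp ((hodd u).mpr hu)).symm).pos
  choose ty hty1 hty2 hty3 using hmiss
  have htyax : ∀ g ∈ Γ, ∀ c (a : L), IsHom g c a → ty a = col Γ c := by
    intro g hg c a hga
    by_contra hne
    have h1 := hty3 a (col Γ c) (hty g hg c a hga).1 (Ne.symm hne)
    rw [cnt, Set.ncard_pos (Set.toFinite _)] at h1
    obtain ⟨p, hp, hpc⟩ := h1
    exact ((hty g hg c a hga).2 p hp).1 hpc
  have hexty : ∀ w, (w = o₁ ∨ w = o₂ ∨ w = o₃) → ∃ l : L, ty l = w := fun w _ => by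
    obtain ⟨p, rfl⟩ := col_surjective Γ w
    obtain ⟨g, hg, a, hga⟩ := hC p
    exact ⟨a, htyax g hg p a hga⟩
  -- the basic counts
  let rot : ∀ (_ _ _ : Quotient (MulAction.orbitRel Γ P)), Prop := fun i j m =>
    i ≠ j ∧ i ≠ m ∧ j ≠ m ∧ ∀ p, col Γ p = i ∨ col Γ p = j ∨ col Γ p = m
  have r1 : rot o₁ o₂ o₃ := ⟨h12, h13, h23, hcols⟩
  have r2 : rot o₂ o₃ o₁ := ⟨h23, h12.symm, h13.symm, fun p => by have := hcols p; tauto⟩
  have r3 : rot o₃ o₁ o₂ := ⟨h13.symm, h23.symm, h12, fun p => by have := hcols p; tauto⟩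
  have hmem : ∀ i j m, rot i j m → ∀ l, ty l = i ∨ ty l = j ∨ ty l = m := by
    intro i j m hr l
    obtain ⟨p, hp⟩ := col_surjective Γ (ty l)
    have := hr.2.2.2 p
    rwa [hp] at this
  have hoeq : ∀ i j m, rot i j m → ∀ u, (u = o₁ ∨ u = o₂ ∨ u = o₃) := by
    intro i j m hr u
    obtain ⟨p, hp⟩ := col_surjective Γ u
    have := hcols p
    rwa [hp] at this
  have hsum : ∀ i j m, rot i j m → ∀ l, ty l = m → cnt Γ l i + cnt Γ l j = k + 1 := by
    intro i j m hr l hl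
    rw [cnt, cnt, ← Set.ncard_union_eq (Set.disjoint_left.mpr fun x hx hx' => hr.1 (hx.2.symm.trans hx'.2)),
      hk, ← ncard_line (P := P) l]
    congr 1
    ext x
    simp only [Set.mem_union, Set.mem_ofPred_eq]
    refine ⟨fun hx => hx.elim (fun a => a.1) fun a => a.1, fun hx => ?_⟩
    rcases hr.2.2.2 x with e | e | e
    · exact Or.inl ⟨hx, e⟩
    · exact Or.inr ⟨hx, e⟩
    · exact absurd e (hl ▸ hty2 l x hx)
  have hkey : ∀ i j m, rot i j m → ∀ p, col Γ p = i → ∀ l, ty l = i →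
      {n : L | p ∈ n ∧ ty n = m}.ncard = cnt Γ l j := by
    intro i j m hr p hp l hl
    have hpl : p ∉ l := fun hh => hty2 l p hh (hp.trans hl.symm)
    refine ncard_pencil hpl (fun n => ty n = m) (fun q => col Γ q = j) fun q n hq hn hpn => ?_
    have hq' : col Γ q ≠ i := hl ▸ hty2 l q hq
    have hn1 : ty n ≠ i := fun hh => hty2 n p hpn (hp.trans hh.symm)
    have hn2 := hty2 n q hn
    rcases hmem i j m hr n with e | e | e
    · exact absurd e hn1
    · exact ⟨fun hh => absurd (e.symm.trans hh) hr.2.2.1, fun hh => absurd (hh.trans e.symm) hn2⟩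
    · refine ⟨fun _ => ?_, fun _ => e⟩
      rcases hr.2.2.2 q with a | a | a
      · exact absurd a hq'
      · exact a
      · exact absurd (a.trans e.symm) hn2
  obtain ⟨p₁, hp₁⟩ := col_surjective Γ o₁
  obtain ⟨p₂, hp₂⟩ := col_surjective Γ o₂
  obtain ⟨p₃, hp₃⟩ := col_surjective Γ o₃
  obtain ⟨l₁, hl₁⟩ := hexty o₁ (Or.inl rfl)
  obtain ⟨l₂, hl₂⟩ := hexty o₂ (Or.inr (Or.inl rfl))
  obtain ⟨l₃, hl₃⟩ := hexty o₃ (Or.inr (Or.inr rfl))
  set x := cnt Γ l₁ o₂ with hx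
  set y := cnt Γ l₂ o₃ with hy
  set z := cnt Γ l₃ o₁ with hz
  have kx : ∀ l, ty l = o₁ → cnt Γ l o₂ = x := fun l hl =>
    (hkey _ _ _ r1 p₁ hp₁ l hl).symm.trans (hkey _ _ _ r1 p₁ hp₁ l₁ hl₁)
  have ky : ∀ l, ty l = o₂ → cnt Γ l o₃ = y := fun l hl =>
    (hkey _ _ _ r2 p₂ hp₂ l hl).symm.trans (hkey _ _ _ r2 p₂ hp₂ l₂ hl₂)
  have kz : ∀ l, ty l = o₃ → cnt Γ l o₁ = z := fun l hl =>
    (hkey _ _ _ r3 p₃ hp₃ l hl).symm.trans (hkey _ _ _ r3 p₃ hp₃ l₃ hl₃)
  have bound : ∀ i j m (hr : rot i j m) l, ty l = i → 0 < cnt Γ l j ∧ cnt Γ l j ≤ k := by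
    intro i j m hr l hl
    have a1 := hty3 l j (hoeq i j m hr j) (hl ▸ hr.1.symm)
    have a2 := hty3 l m (hoeq i j m hr m) (hl ▸ hr.2.1.symm)
    have a3 := hsum j m i ⟨hr.2.2.1, hr.1.symm, hr.2.1.symm, fun p => by
      have := hr.2.2.2 p; tauto⟩ l hl
    omega
  obtain ⟨hx0, hx1⟩ := bound _ _ _ r1 l₁ hl₁
  obtain ⟨hy0, hy1⟩ := bound _ _ _ r2 l₂ hl₂
  obtain ⟨hz0, hz1⟩ := bound _ _ _ r3 l₃ hl₃
  -- class sizes
  have hsize : ∀ i j m, rot i j m → ∀ a b : ℕ,
      (∀ l, ty l = i → cnt Γ l j = a) → (∀ l, ty l = j → cnt Γ l m = b) →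
      ∀ c : ℕ, (∀ l, ty l = m → cnt Γ l i = c) →
      (cls Γ j).ncard = a * (k + 1 - c) ∧ (cls Γ m).ncard = (k + 1 - a) * b ∧
        (cls Γ j).ncard = 1 + b * (a - 1) + (k + 1 - b) * (k + 1 - c - 1) := by
    intro i j m hr a b ha hb c hc
    obtain ⟨hij, him, hjm, -⟩ := id hr
    have hr' : rot j m i := ⟨hjm, hij.symm, him.symm, fun p => by have := hr.2.2.2 p; tauto⟩
    obtain ⟨p, hp⟩ := col_surjective Γ i
    obtain ⟨q, hq⟩ := col_surjective Γ j
    obtain ⟨li, hli⟩ := hexty i (hoeq i j m hr i)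
    obtain ⟨lj, hlj⟩ := hexty j (hoeq i j m hr j)
    have hset : ∀ (u : Quotient (MulAction.orbitRel Γ P)), u ≠ i →
        {x : P | x ∈ cls Γ u ∧ x ≠ p} = cls Γ u := fun u hu =>
      Set.ext fun x => and_iff_left_of_imp fun hx e => hu (by rw [← hx, e, hp])
    have hset' : ∀ (u : Quotient (MulAction.orbitRel Γ P)) (l : L), u ≠ i →
        {x : P | (x ∈ cls Γ u ∧ x ≠ p) ∧ x ∈ l}.ncard = cnt Γ l u := fun u l hu => by
      rw [cnt]
      congr 1
      ext x
      exact ⟨fun hx => ⟨hx.2, hx.1.1⟩, fun hx => ⟨⟨hx.2, fun e => hu (by rw [← hx.2, e, hp])⟩, hx.1⟩⟩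
    have hzero : ∀ (u : Quotient (MulAction.orbitRel Γ P)) (l : L), ty l = u → cnt Γ l u = 0 := fun u l hl => by
      rw [cnt, Set.ncard_eq_zero]
      exact Set.eq_empty_iff_forall_notMem.mpr fun x hx => hty2 l x hx.1 (hx.2.trans hl.symm)
    have hnot : ∀ l, p ∈ l → ty l ≠ m → ty l = j := fun l hl hne => by
      rcases hmem i j m hr l with e | e | e
      · exact absurd (hp.trans e.symm) (hty2 l p hl)
      · exact e
      · exact absurd e hne
    refine ⟨?_, ?_, ?_⟩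
    · have s := sum_pencil (L := L) p (cls Γ j)
      rw [hset j hij.symm, finsum_two {l : L | p ∈ l} (fun l => ty l = m) _ (k + 1 - c) 0
        (fun l hl e => by
          rw [hset' j l hij.symm]; have := hsum i j m hr l e; rw [hc l e] at this; omega)
        (fun l hl e => by rw [hset' j l hij.symm]; exact hzero j l (hnot l hl e)),
        show {l : L | l ∈ {l : L | p ∈ l} ∧ ty l = m}.ncard = a from
          (hkey i j m hr p hp li hli).trans (ha li hli), mul_zero, add_zero] at s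
      exact s.symm
    · have s := sum_pencil (L := L) p (cls Γ m)
      rw [hset m him.symm, finsum_two {l : L | p ∈ l} (fun l => ty l = m) _ 0 b
        (fun l hl e => by rw [hset' m l him.symm]; exact hzero m l e)
        (fun l hl e => by rw [hset' m l him.symm]; exact hb l (hnot l hl e)),
        show {l : L | l ∈ {l : L | p ∈ l} ∧ ty l = m}.ncard = a from
          (hkey i j m hr p hp li hli).trans (ha li hli), mul_zero, zero_add, ncard_lines, ← hk] at s
      exact s.symm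
    · have s := sum_pencil (L := L) q (cls Γ j)
      have hself : ∀ l, q ∈ l → {x : P | (x ∈ cls Γ j ∧ x ≠ q) ∧ x ∈ l}.ncard = cnt Γ l j - 1 :=
        fun l hl => by
          rw [show {x : P | (x ∈ cls Γ j ∧ x ≠ q) ∧ x ∈ l} = {x : P | x ∈ l ∧ col Γ x = j} \ {q} by
            ext x; simp only [cls, Set.mem_ofPred_eq, Set.mem_sdiff, Set.mem_singleton_iff]; tauto,
            Set.ncard_sdiff_singleton_of_mem (show q ∈ {x : P | x ∈ l ∧ col Γ x = j} from ⟨hl, hq⟩)]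
          rfl
      rw [show {x : P | x ∈ cls Γ j ∧ x ≠ q} = cls Γ j \ {q} from rfl,
        Set.ncard_sdiff_singleton_of_mem (show q ∈ cls Γ j from hq),
        finsum_two {l : L | q ∈ l} (fun l => ty l = i) _ (a - 1) (k + 1 - c - 1)
        (fun l hl e => by rw [hself l hl, ha l e])
        (fun l hl e => by
          have : ty l = m := by
            rcases hmem i j m hr l with e' | e' | e'
            · exact absurd e' e
            · exact absurd (hq.trans e'.symm) (hty2 l q hl)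
            · exact e'
          rw [hself l hl]
          have h' := hsum i j m hr l this
          rw [hc l this] at h'
          omega),
        show {l : L | l ∈ {l : L | q ∈ l} ∧ ty l = i}.ncard = b from
          (hkey j m i hr' q hq lj hlj).trans (hb lj hlj), ncard_lines, ← hk] at s
      have : 0 < (cls Γ j).ncard := (Set.ncard_pos (Set.toFinite _)).mpr ⟨q, hq⟩
      omega
  obtain ⟨n2, n3, q2⟩ := hsize _ _ _ r1 x y kx ky z kz
  obtain ⟨n3', n1, q3⟩ := hsize _ _ _ r2 y z ky kz x kx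
  obtain ⟨n1', n2', q1⟩ := hsize _ _ _ r3 z x kz kx y ky
  -- endgames
  have single : ∀ w, (cls Γ w).ncard = 1 → IsPrimePow ord(P, L) := by
    intro w hw
    obtain ⟨z₀, hz₀⟩ := Set.ncard_eq_one.mp hw
    refine isPrimePow_of_centreFull (z := z₀) fun a ha => ?_
    obtain ⟨g, hg, c, hgc⟩ := hA a
    have : ty a = w := by
      by_contra hne
      have h1 := hty3 a w (hoeq _ _ _ r1 w) (Ne.symm hne)
      rw [cnt, Set.ncard_pos (Set.toFinite _)] at h1
      obtain ⟨x, hxa, hx⟩ := h1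
      have hxz : x ∈ ({z₀} : Set P) := hz₀ ▸ (hx : x ∈ cls Γ w)
      exact ha (hxz ▸ hxa)
    have hcz : c ∈ ({z₀} : Set P) := hz₀ ▸ ((htyax g hg c a hgc).symm.trans this : c ∈ cls Γ w)
    exact ⟨g, hcz ▸ hgc⟩
  have square : ∀ w, (cls Γ w).ncard = k ^ 2 → IsPrimePow ord(P, L) := by
    intro w hw
    obtain ⟨M, hM⟩ := hexty w (hoeq _ _ _ r1 w)
    have hMset : {p : P | p ∉ M} = cls Γ w := (Set.eq_of_subset_of_ncard_le (s := cls Γ w) (t := {p : P | p ∉ M})
      (fun p hp hpM => hty2 M p hpM (hp.trans hM.symm)) (by rw [hw, ncard_affine])).symm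
    refine isPrimePow_of_axisFull (M := M) fun c hc => ?_
    have hcw : c ∈ cls Γ w := hMset ▸ hc
    obtain ⟨g, hg, a, hga⟩ := hC c
    have hta : ty a = w := (htyax g hg c a hga).trans hcw
    have : a = M := by
      by_contra hne
      obtain ⟨u, hu, hu'⟩ := exists_meet (P := P) hne
      obtain ⟨v, hv, hvu, -⟩ := exists_mem_ne_ne a u u
      have hvM : v ∈ {p : P | p ∉ M} := fun hh => hvu (point_unique hne hv hh hu hu')
      rw [hMset] at hvM
      exact hty2 a v hv (hvM.trans hta.symm)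
    exact ⟨g, this ▸ hga⟩
  have xk : (x : ℤ) ≤ k := by exact_mod_cast hx1
  have eqn : ∀ a b c : ℕ, 0 < a → a ≤ k → b ≤ k → 0 < c → c ≤ k →
      a * (k + 1 - c) = 1 + b * (a - 1) + (k + 1 - b) * (k + 1 - c - 1) →
      ((k + 1 : ℤ) - a - b) * ((k + 1) - a - c) = k - a * ((k + 1) - a) := by
    intro a b c ha ha' hb hc hc' e
    zify [show c ≤ k + 1 by omega, show b ≤ k + 1 by omega, show 1 ≤ a by omega,
      show 1 ≤ k + 1 - c by omega] at e
    linear_combination -e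
  have e1 := eqn x y z hx0 hx1 hy1 hz0 hz1 (n2.symm.trans q2)
  have e2 := eqn y z x hy0 hy1 hz1 hx0 hx1 (n3'.symm.trans q3)
  have e3 := eqn z x y hz0 hz1 hx1 hy0 hy1 (n1'.symm.trans q1)
  have fin : ∀ (u v w : Quotient (MulAction.orbitRel Γ P)) (a b c : ℕ),
      (cls Γ v).ncard = a * (k + 1 - c) → (cls Γ w).ncard = (k + 1 - a) * b →
      (a = 1 ∧ b = k ∨ a = 1 ∧ c = k ∨ a = k ∧ b = 1 ∨ a = k ∧ c = 1) → IsPrimePow ord(P, L) := by
    intro u v w a b c hv hw hcase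
    rcases hcase with ⟨rfl, rfl⟩ | ⟨rfl, rfl⟩ | ⟨rfl, rfl⟩ | ⟨rfl, rfl⟩
    · exact square w (by rw [hw, Nat.add_sub_cancel, pow_two])
    · exact single v (by rw [hv]; simp)
    · exact single w (by rw [hw]; simp)
    · exact square v (by rw [hv, Nat.add_sub_cancel, pow_two])
  rcases three_arith hx0 hy0 hz0 hx1 hy1 hz1 e1 e2 e3 with hh | hh | hh
  · exact fin o₁ o₂ o₃ x y z n2 n3 hh
  · exact fin o₂ o₃ o₁ y z x n3' n1 hh
  · exact fin o₃ o₁ o₂ z x y n1' n2' hh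

end Cfsg.Agent.OstromWagner
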