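import Cfsg.Agent.Lib.OstromWagner.PlaneOne
import Cfsg.Agent.Lib.OstromWagner.PlaneThree

/-!
# The plane lemma

A plane of odd order in which every pair is fixed by an involutory homology has prime power order.
-/

set_option autoImplicit false

namespace Cfsg.Agent.OstromWagner

open Configuration

variable {P L : Type*} [Membership P L] [ProjectivePlane P L] [Finite P] [Finite L]

theorem isPrimePow_of_noncentre {Γ : Subgroup (Coll P L)} (h : PairProp Γ) {p : P}
    (hp : ¬ IsC Γ p) : IsPrimePow ord(P, L) :=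
  isPrimePow_of_one h (o := col Γ p) (odd_unique_of_noncentre h hp)
    (fun q hq => by_contra fun hqc => hq
      (((odd_unique_of_noncentre h hp (col Γ q)).mp
        ((odd_unique_of_noncentre h hqc (col Γ q)).mpr rfl))))
    (Or.inr fun _ hq hc => hp (hc.of_col hq.symm))

theorem isPrimePow_of_pairProp {Γ : Subgroup (Coll P L)} (h : PairProp Γ) :
    IsPrimePow ord(P, L) := by
  by_cases hC : ∀ p, IsC Γ p
  swap
  · push Not at hC
    obtain ⟨p, hp⟩ := hC
    exact isPrimePow_of_noncentre h hp
  by_cases hA : ∀ l : L, IsA Γ l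
  swap
  · push Not at hA
    obtain ⟨l, hl⟩ := hA
    rw [← ProjectivePlane.Dual.order P L]
    exact isPrimePow_of_noncentre (P := Dual L) (L := Dual P) h.dual (p := l)
      fun hc => hl (IsC.of_dual hc)
  rcases odd_colours h hC hA with ⟨o, ho⟩ | ⟨o₁, o₂, o₃, h12, h13, h23, ho⟩
  · exact isPrimePow_of_one h ho (fun q _ => hC q) (Or.inl ⟨hC, hA⟩)
  · exact isPrimePow_of_three h hC hA h12 h13 h23 ho

end Cfsg.Agent.OstromWagner
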