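import Cfsg.Agent.Lib.OstromWagner.PlaneColour
import Cfsg.Agent.Lib.OstromWagner.PlaneEnd

/-!
# One odd orbit

The number of odd lines at a point outside the odd orbit is constant; it is `1` or `k` unless the
group is transitive.
-/

set_option autoImplicit false
set_option linter.style.haveILetI false
set_option linter.unusedSectionVars false

namespace Cfsg.Agent.OstromWagner

open Configuration

variable {P L : Type*} [Membership P L] [ProjectivePlane P L] [Finite P] [Finite L]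
  {Γ : Subgroup (Coll P L)} {o : Quotient (MulAction.orbitRel Γ P)}

theorem cnt_smul {g : Coll P L} (hg : g ∈ Γ) (l : L) (w : Quotient (MulAction.orbitRel Γ P)) :
    cnt Γ (g • l) w = cnt Γ l w := by
  rw [cnt, cnt, ← Set.ncard_image_of_injective {x : P | x ∈ l ∧ col Γ x = w} (MulAction.injective g)]
  congr 1
  ext x
  simp only [Set.mem_ofPred_eq, Set.mem_image]
  constructor
  · rintro ⟨h1, h2⟩
    exact ⟨g⁻¹ • x, ⟨(Coll.mem_smul_iff g x l).mp h1, by rw [col_smul (inv_mem hg), h2]⟩,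
      smul_inv_smul _ _⟩
  · rintro ⟨y, ⟨h1, h2⟩, rfl⟩
    exact ⟨(g.smul_mem y l).mpr h1, by rw [col_smul hg, h2]⟩

/-- A line is odd on no colour or on `o` and one other. -/
theorem line_odd (h : PairProp Γ) (hodd : ∀ w, Odd (cls Γ w).ncard ↔ w = o) (l : L) :
    (∀ w, ¬ Odd (cnt Γ l w)) ∨ ∃ e, e ≠ o ∧ ∀ w, Odd (cnt Γ l w) ↔ w = o ∨ w = e := by
  by_cases hl : IsA Γ l
  · obtain ⟨g, hg, c, hgc⟩ := hl
    have key : ∀ w, Odd (cnt Γ l w) ↔ ¬ (w = o ↔ col Γ c = w) := fun w => by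
      rw [cnt_mod_axis hg hgc w, hodd]
    by_cases hc : col Γ c = o
    · exact Or.inl fun w hw => (key w).mp hw ⟨fun e => hc.trans e.symm, fun e => e ▸ hc⟩
    · refine Or.inr ⟨col Γ c, hc, fun w => ?_⟩
      rw [key]
      constructor
      · intro hne
        by_contra hno
        push Not at hno
        exact hne ⟨fun e => absurd e hno.1, fun e => absurd e.symm hno.2⟩
      · rintro (rfl | rfl) hiff
        · exact hc (hiff.mp rfl)
        · exact hc (hiff.mpr rfl)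
  · exact Or.inl fun w => cnt_even_nonaxis h hl w

theorem ty1_axis (hodd : ∀ w, Odd (cls Γ w).ncard ↔ w = o) {g : Coll P L} (hg : g ∈ Γ) {c : P}
    {a : L} (hga : IsHom g c a) : Odd (cnt Γ a o) ↔ col Γ c ≠ o := by
  rw [cnt_mod_axis hg hga o, hodd]
  simp

theorem axis_pts (h : PairProp Γ) (hodd : ∀ w, Odd (cls Γ w).ncard ↔ w = o) {g : Coll P L}
    (hg : g ∈ Γ) {c : P} {a : L} (hga : IsHom g c a) (hc : col Γ c ≠ o) {x : P} (hx : x ∈ a) :
    (col Γ x = col Γ c ∨ col Γ x = o) ∧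
      ∀ l : L, c ∈ l → x ∈ l → (Odd (cnt Γ l o) ↔ col Γ x = o) := by
  refine ⟨?_, fun l hcl hxl => ?_⟩
  · obtain ⟨l, hcl, hxl⟩ := exists_join' (L := L) c x
    have key := fun w => cnt_mod_line' hg hga hcl hxl hx w
    by_contra hno
    push Not at hno
    have h1 : Odd (cnt Γ l (col Γ c)) := (key _).mpr fun hh => hno.1 (hh.mp rfl)
    have h2 : Odd (cnt Γ l (col Γ x)) := (key _).mpr fun hh => hno.1 (hh.mpr rfl).symm
    rcases line_odd h hodd l with hh | ⟨e, -, hh⟩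
    · exact hh _ h1
    · rcases (hh _).mp h1 with a1 | a1
      · exact hc a1
      rcases (hh _).mp h2 with a2 | a2
      · exact hno.2 a2
      · exact hno.1 (a2.trans a1.symm)
  · rw [cnt_mod_line' hg hga hcl hxl hx o]
    simp [hc]

theorem tau_axis (h : PairProp Γ) (hodd : ∀ w, Odd (cls Γ w).ncard ↔ w = o) {g : Coll P L}
    (hg : g ∈ Γ) {c : P} {a : L} (hga : IsHom g c a) (hc : col Γ c ≠ o) :
    {l : L | c ∈ l ∧ Odd (cnt Γ l o)}.ncard = cnt Γ a o :=
  ncard_pencil hga.nmem (fun l => Odd (cnt Γ l o)) (fun x => col Γ x = o) fun _ l hx hxl hcl =>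
    (axis_pts h hodd hg hga hc hx).2 l hcl hxl

theorem tau_const (h : PairProp Γ) (hodd : ∀ w, Odd (cls Γ w).ncard ↔ w = o)
    (hEC : ∀ q, col Γ q ≠ o → IsC Γ q) {q q' : P} (hq : col Γ q ≠ o) (hq' : col Γ q' ≠ o) :
    {l : L | q ∈ l ∧ Odd (cnt Γ l o)}.ncard = {l : L | q' ∈ l ∧ Odd (cnt Γ l o)}.ncard := by
  have same : ∀ q q', col Γ q' = col Γ q →
      {l : L | q ∈ l ∧ Odd (cnt Γ l o)}.ncard = {l : L | q' ∈ l ∧ Odd (cnt Γ l o)}.ncard := by
    intro q q' hc
    obtain ⟨g, hg, rfl⟩ := exists_of_col_eq hc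
    rw [← Set.ncard_image_of_injective {l : L | q ∈ l ∧ Odd (cnt Γ l o)} (MulAction.injective g)]
    congr 1
    ext l
    simp only [Set.mem_ofPred_eq, Set.mem_image]
    constructor
    · rintro ⟨m, ⟨h1, h2⟩, rfl⟩
      exact ⟨(g.smul_mem q m).mpr h1, by rwa [cnt_smul hg]⟩
    · rintro ⟨h1, h2⟩
      exact ⟨g⁻¹ • l, ⟨by rw [Coll.mem_smul_iff, inv_inv]; exact h1, by rwa [cnt_smul (inv_mem hg)]⟩,
        smul_inv_smul _ _⟩
  by_cases hcc : col Γ q' = col Γ q
  · exact same q q' hcc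
  have hle : ∀ q q', col Γ q ≠ o → col Γ q' ≠ o → col Γ q' ≠ col Γ q →
      {l : L | q ∈ l ∧ Odd (cnt Γ l o)}.ncard ≤ {l : L | q' ∈ l ∧ Odd (cnt Γ l o)}.ncard := by
    intro q q' hq hq' hne
    obtain ⟨g', hg', a', hga'⟩ := hEC q' hq'
    rw [tau_axis h hodd hg' hga' hq', cnt]
    have hqa : q ∉ a' := fun hh => by
      rcases (axis_pts h hodd hg' hga' hq' hh).1 with e | e
      · exact hne e.symm
      · exact hq e
    -- the lines to the other points of `a'` are even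
    rw [← ncard_pencil hqa (fun m => ∃ x, x ∈ m ∧ x ∈ a' ∧ col Γ x = o) (fun x => col Γ x = o)
      fun x m hx hxm hqm => ⟨fun ⟨y, hym, hya, hy⟩ =>
        point_unique (fun e : m = a' => hqa (e ▸ hqm)) hym hya hxm hx ▸ hy, fun e => ⟨x, hxm, hx, e⟩⟩]
    refine Set.ncard_le_ncard fun m hm => ⟨hm.1, ?_⟩
    obtain ⟨hqm, hm2⟩ := hm
    by_contra hno
    push Not at hno
    obtain ⟨x, hxm, hxa⟩ := exists_meet' (P := P) m a'
    have hxo : col Γ x ≠ o := hno x hxm hxa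
    have hxc : col Γ x = col Γ q' := ((axis_pts h hodd hg' hga' hq' hxa).1).resolve_right hxo
    obtain ⟨gq, hgq, aq, hgaq⟩ := hEC q hq
    obtain ⟨gx, hgx, ax, hgax⟩ := hEC x hxo
    obtain ⟨u, hum, hua⟩ := exists_meet' (P := P) m aq
    obtain ⟨w, hwm, hwa⟩ := exists_meet' (P := P) m ax
    have k1 := fun t => cnt_mod_line' hgq hgaq hqm hum hua t
    have k2 := fun t => cnt_mod_line' hgx hgax hxm hwm hwa t
    have e1 : col Γ u = o := ((axis_pts h hodd hgq hgaq hq hua).2 m hqm hum).mp hm2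
    have e2 : col Γ w = o := ((axis_pts h hodd hgx hgax hxo hwa).2 m hxm hwm).mp hm2
    have o1 : Odd (cnt Γ m (col Γ q)) := (k1 _).mpr fun hh => hq ((hh.mp rfl).symm.trans e1)
    have o2 : Odd (cnt Γ m (col Γ x)) := (k2 _).mpr fun hh => hxo ((hh.mp rfl).symm.trans e2)
    rcases line_odd h hodd m with hh | ⟨e, -, hh⟩
    · exact hh _ o1
    · rcases (hh _).mp o1 with a1 | a1
      · exact hq a1
      rcases (hh _).mp o2 with a2 | a2
      · exact hxo a2
      · exact hne (hxc.symm.trans (a2.trans a1.symm))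
  exact le_antisymm (hle q q' hq hq' hcc) (hle q' q hq' hq (Ne.symm hcc))

theorem odd_line_centre (h : PairProp Γ) (hodd : ∀ w, Odd (cls Γ w).ncard ↔ w = o) {l : L}
    (hl : Odd (cnt Γ l o)) : ∃ g ∈ Γ, ∃ c, IsHom g c l ∧ col Γ c ≠ o := by
  by_cases hA : IsA Γ l
  · obtain ⟨g, hg, c, hgc⟩ := hA
    exact ⟨g, hg, c, hgc, (ty1_axis hodd hg hgc).mp hl⟩
  · exact absurd hl (cnt_even_nonaxis h hA o)

/-- All lines at the odd orbit odd: it is a point or the complement of a line. -/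
theorem odd_orbit_shape (h : PairProp Γ) (hodd : ∀ w, Odd (cls Γ w).ncard ↔ w = o)
    (hEC : ∀ q, col Γ q ≠ o → IsC Γ q) (hE : ∃ q, col Γ q ≠ o)
    (hall : ∀ (l : L) (p : P), p ∈ l → col Γ p = o → Odd (cnt Γ l o)) :
    (∃ z : P, cls Γ o = {z} ∧ ∀ l : L, Odd (cnt Γ l o) ↔ z ∈ l) ∨
      ∃ M : L, (∀ p, p ∈ M ↔ col Γ p ≠ o) ∧ ∀ l : L, Odd (cnt Γ l o) ↔ l ≠ M := by
  classical
  set k := ord(P, L) with hk
  obtain ⟨q, hq⟩ := hE
  set t := {l : L | q ∈ l ∧ Odd (cnt Γ l o)}.ncard with ht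
  have hcnt : ∀ l, Odd (cnt Γ l o) → cnt Γ l o = t := fun l hl => by
    obtain ⟨g, hg, c, hgc, hc⟩ := odd_line_centre h hodd hl
    rw [← tau_axis h hodd hg hgc hc]
    exact tau_const h hodd hEC hc hq
  obtain ⟨z, hz⟩ := col_surjective Γ o
  have ht0 : 0 < t := by
    obtain ⟨l, hl, -⟩ := exists_join' (L := L) z z
    exact hcnt l (hall l z hl hz) ▸ (hall l z hl hz).pos
  -- from the point of `O`
  have h1 : (cls Γ o).ncard = (k + 1) * (t - 1) + 1 := by
    have s := double_count_const (cls Γ o \ {z}) {l : L | z ∈ l} 1 (t - 1) (fun x hx => by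
        obtain ⟨l, a1, a2⟩ := exists_join (L := L) (show x ≠ z from hx.2)
        rw [show {m : L | m ∈ {l : L | z ∈ l} ∧ x ∈ m} = {l} by
          ext m
          exact ⟨fun hm => line_unique hx.2 hm.2 hm.1 a1 a2, by rintro rfl; exact ⟨a2, a1⟩⟩,
          Set.ncard_singleton])
      (fun l hl => by
        rw [show {p : P | p ∈ cls Γ o \ {z} ∧ p ∈ l} = {x : P | x ∈ l ∧ col Γ x = o} \ {z} by
          ext x; simp only [cls, Set.mem_ofPred_eq, Set.mem_sdiff, Set.mem_singleton_iff]; tauto,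
          Set.ncard_sdiff_singleton_of_mem (show z ∈ {x : P | x ∈ l ∧ col Γ x = o} from ⟨hl, hz⟩)]
        exact congrArg (· - 1) (hcnt l (hall l z hl hz)))
    rw [mul_one, ncard_lines, Set.ncard_sdiff_singleton_of_mem (show z ∈ cls Γ o from hz)] at s
    have : 0 < (cls Γ o).ncard := (Set.ncard_pos (Set.toFinite _)).mpr ⟨z, hz⟩
    rw [← hk] at s
    omega
  -- from the point outside
  have h2 : (cls Γ o).ncard = t * t := by
    have s := double_count_const (cls Γ o) {l : L | q ∈ l ∧ Odd (cnt Γ l o)} 1 t (fun x hx => by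
        have hxq : x ≠ q := fun e => hq (e ▸ hx)
        obtain ⟨l, a1, a2⟩ := exists_join (L := L) hxq
        rw [show {m : L | m ∈ {l : L | q ∈ l ∧ Odd (cnt Γ l o)} ∧ x ∈ m} = {l} by
          ext m
          exact ⟨fun hm => line_unique hxq hm.2 hm.1.1 a1 a2,
            by rintro rfl; exact ⟨⟨a2, hall m x a1 hx⟩, a1⟩⟩, Set.ncard_singleton])
      (fun l hl => by
        rw [show {p : P | p ∈ cls Γ o ∧ p ∈ l} = {x : P | x ∈ l ∧ col Γ x = o} from
          Set.ext fun x => and_comm]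
        exact hcnt l hl.2)
    rwa [mul_one, ← ht] at s
  have hcase : t = 1 ∨ t = k := by
    obtain ⟨j, hj⟩ : ∃ j, t = j + 1 := ⟨t - 1, by omega⟩
    rw [h1, hj, Nat.add_sub_cancel] at h2
    rcases Nat.eq_zero_or_pos j with h0 | h0
    · exact Or.inl (by omega)
    · refine Or.inr ?_
      have : (k + 1) * j = (j + 2) * j := by linarith
      have := Nat.eq_of_mul_eq_mul_right h0 this
      omega
  rcases hcase with t1 | tk
  · left
    rw [t1, one_mul] at h2
    obtain ⟨z', hz'⟩ := Set.ncard_eq_one.mp h2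
    refine ⟨z', hz', fun l => ⟨fun hl => ?_, fun hl => hall l z' hl ?_⟩⟩
    · have h3 := hcnt l hl
      have h4 : 0 < {x : P | x ∈ l ∧ col Γ x = o}.ncard := by rw [← cnt, h3]; exact ht0
      obtain ⟨x, hxl, hx⟩ := (Set.ncard_pos (Set.toFinite _)).mp h4
      have hxz : x ∈ ({z'} : Set P) := hz' ▸ (hx : x ∈ cls Γ o)
      exact hxz ▸ hxl
    · exact (hz'.symm ▸ Set.mem_singleton z' : z' ∈ cls Γ o)
  · right
    obtain ⟨M, hqM, hM⟩ : ∃ M : L, q ∈ M ∧ ¬ Odd (cnt Γ M o) := by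
      by_contra hno
      push Not at hno
      have : {l : L | q ∈ l ∧ Odd (cnt Γ l o)} = {l : L | q ∈ l} :=
        Set.ext fun l => and_iff_left_of_imp (hno l)
      rw [this, ncard_lines, ← hk] at ht
      omega
    have hMo : ∀ p, p ∈ M → col Γ p ≠ o := fun p hp e => hM (hall M p hp e)
    have hset : {p : P | p ∈ M} = (cls Γ o)ᶜ := by
      refine Set.eq_of_subset_of_ncard_le (fun p hp => hMo p hp) ?_
      rw [Set.ncard_compl, h2, tk, card_pt (L := L), ncard_line, ← hk, pow_two]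
      omega
    have hiff : ∀ p, p ∈ M ↔ col Γ p ≠ o := fun p => Set.ext_iff.mp hset p
    refine ⟨M, hiff, fun l => ⟨fun hl e => hM (e ▸ hl), fun hl => ?_⟩⟩
    obtain ⟨u, hu, hu'⟩ := exists_meet (P := P) hl
    obtain ⟨v, hv, hvu, -⟩ := exists_mem_ne_ne l u u
    exact hall l v hv (by_contra fun hvo => hvu (point_unique hl hv ((hiff v).mpr hvo) hu hu'))

theorem isPrimePow_of_one (h : PairProp Γ) (hodd : ∀ w, Odd (cls Γ w).ncard ↔ w = o)
    (hEC : ∀ q, col Γ q ≠ o → IsC Γ q)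
    (hcase : ((∀ p, IsC Γ p) ∧ ∀ l : L, IsA Γ l) ∨ ∀ p, col Γ p = o → ¬ IsC Γ p) :
    IsPrimePow ord(P, L) := by
  classical
  have hfinish : (∀ (l : L) (p : P), p ∈ l → col Γ p = o → Odd (cnt Γ l o)) → (∃ q, col Γ q ≠ o) →
      IsPrimePow ord(P, L) := by
    intro hall hE
    rcases odd_orbit_shape h hodd hEC hE hall with ⟨z, hz, hty⟩ | ⟨M, hM, hty⟩
    · have hzo : col Γ z = o := (hz.symm ▸ Set.mem_singleton z : z ∈ cls Γ o)
      rcases hcase with ⟨-, hA⟩ | hN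
      · refine isPrimePow_of_centreFull (z := z) fun a ha => ?_
        obtain ⟨g, hg, c, hgc⟩ := hA a
        have hc : col Γ c = o := by_contra fun hc => ha ((hty a).mp ((ty1_axis hodd hg hgc).mpr hc))
        have hcz : c ∈ ({z} : Set P) := hz ▸ (hc : c ∈ cls Γ o)
        exact ⟨g, hcz ▸ hgc⟩
      · refine isPrimePow_of_fixed_noncentre h (fun g hg => ?_) (hN z hzo) fun a ha hA => ?_
        · have : g • z ∈ ({z} : Set P) := hz ▸ ((col_smul hg z).trans hzo : g • z ∈ cls Γ o)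
          exact this
        · obtain ⟨g, hg, c, hgc⟩ := hA
          exact ha ((hty a).mp ((ty1_axis hodd hg hgc).mpr fun hc => hN c hc ⟨g, hg, a, hgc⟩))
    · rcases hcase with ⟨hC, -⟩ | hN
      · refine isPrimePow_of_axisFull (M := M) fun c hc => ?_
        have hco : col Γ c = o := by_contra fun e => hc ((hM c).mpr e)
        obtain ⟨g, hg, a, hga⟩ := hC c
        have : a = M := by_contra fun hne => (ty1_axis hodd hg hga).mp ((hty a).mpr hne) hco
        exact ⟨g, this ▸ hga⟩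
      · rw [← ProjectivePlane.Dual.order P L]
        refine isPrimePow_of_fixed_noncentre (P := Dual L) (L := Dual P) h.dual (z := M) ?_ ?_ ?_
        · rintro _ ⟨g, hg, rfl⟩
          show g • M = M
          obtain ⟨u, hu, -⟩ := exists_meet' (P := P) M M
          obtain ⟨v, hv, hvu, -⟩ := exists_mem_ne_ne M u u
          refine line_unique (fun e => hvu (MulAction.injective g e)) ((g.smul_mem v M).mpr hv)
            ((g.smul_mem u M).mpr hu) ((hM _).mpr ?_) ((hM _).mpr ?_)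
          · rw [col_smul hg]; exact (hM v).mp hv
          · rw [col_smul hg]; exact (hM u).mp hu
        · intro hC
          obtain ⟨g, hg, c, hgc⟩ := IsC.of_dual hC
          have hc : col Γ c ≠ o := fun hc => hN c hc ⟨g, hg, M, hgc⟩
          exact (hty M).mp ((ty1_axis hodd hg hgc).mpr hc) rfl
        · intro p hp hA
          exact hN p (by_contra fun e => hp ((hM p).mpr e)) (IsA.of_dual hA)
  rcases hcase with ⟨hC, hA⟩ | hN
  swap
  · refine hfinish (fun l p hl hp => ?_) ?_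
    · obtain ⟨g, hg, c, hgc⟩ := (noncentre_point h (hN p hp)).1 l hl
      exact (ty1_axis hodd hg hgc).mpr fun hc => hN c hc ⟨g, hg, l, hgc⟩
    · obtain ⟨p, hp⟩ := col_surjective Γ o
      obtain ⟨l, hl, -⟩ := exists_join' (L := L) p p
      obtain ⟨g, hg, c, hgc⟩ := (noncentre_point h (hN p hp)).1 l hl
      exact ⟨c, fun hc => hN c hc ⟨g, hg, l, hgc⟩⟩
  by_cases hE : ∃ q, col Γ q ≠ o
  swap
  · push Not at hE
    exact isPrimePow_of_transitive h fun p q => exists_of_col_eq ((hE q).trans (hE p).symm)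
  by_cases hall : ∀ (l : L) (p : P), p ∈ l → col Γ p = o → Odd (cnt Γ l o)
  · exact hfinish hall hE
  exfalso
  push Not at hall
  obtain ⟨l₀, p₀, hl₀, hp₀, hnot₀⟩ := hall
  obtain ⟨q, hq⟩ := hE
  set k := ord(P, L) with hk
  set t := {l : L | q ∈ l ∧ Odd (cnt Γ l o)}.ncard with ht
  set ε := {l : L | p₀ ∈ l ∧ Odd (cnt Γ l o)}.ncard with hε
  have hcnt : ∀ l, Odd (cnt Γ l o) → cnt Γ l o = t := fun l hl => by
    obtain ⟨g, hg, c, hgc, hc⟩ := odd_line_centre h hodd hl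
    rw [← tau_axis h hodd hg hgc hc]
    exact tau_const h hodd hEC hc hq
  have heps : ∀ p, col Γ p = o → {l : L | p ∈ l ∧ Odd (cnt Γ l o)}.ncard = ε := by
    intro p hp
    obtain ⟨g, hg, rfl⟩ := exists_of_col_eq (hp.trans hp₀.symm)
    rw [hε, ← Set.ncard_image_of_injective {l : L | p₀ ∈ l ∧ Odd (cnt Γ l o)} (MulAction.injective g)]
    congr 1
    ext l
    simp only [Set.mem_ofPred_eq, Set.mem_image]
    constructor
    · rintro ⟨h1, h2⟩
      exact ⟨g⁻¹ • l, ⟨by rw [Coll.mem_smul_iff, inv_inv]; exact h1,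
        by rwa [cnt_smul (inv_mem hg)]⟩, smul_inv_smul _ _⟩
    · rintro ⟨m, ⟨h1, h2⟩, rfl⟩
      exact ⟨(g.smul_mem p₀ m).mpr h1, by rwa [cnt_smul hg]⟩
  have htau : ∀ p, col Γ p ≠ o → {l : L | p ∈ l ∧ Odd (cnt Γ l o)}.ncard = t := fun p hp =>
    tau_const h hodd hEC hp hq
  have hsplit : ∀ p : P, {l : L | p ∈ l ∧ Odd (cnt Γ l o)}.ncard +
      {l : L | p ∈ l ∧ ¬ Odd (cnt Γ l o)}.ncard = k + 1 := fun p => by
    rw [hk, ← ncard_lines (L := L) p]
    exact Set.ncard_inter_add_ncard_sdiff_eq_ncard {l : L | p ∈ l} {l : L | Odd (cnt Γ l o)}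
  have hεlt : ε < k + 1 := by
    have := hsplit p₀
    have h0 : 0 < {l : L | p₀ ∈ l ∧ ¬ Odd (cnt Γ l o)}.ncard :=
      (Set.ncard_pos (Set.toFinite _)).mpr ⟨l₀, hl₀, hnot₀⟩
    omega
  have hsum : ∀ l : L, cnt Γ l o + {x : P | x ∈ l ∧ col Γ x ≠ o}.ncard = k + 1 := fun l => by
    rw [hk, ← ncard_line (P := P) l]
    exact Set.ncard_inter_add_ncard_sdiff_eq_ncard {x : P | x ∈ l} {x : P | col Γ x = o}
  have heven : ∀ l, ¬ Odd (cnt Γ l o) → cnt Γ l o = k + 1 - ε := by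
    intro l hl
    obtain ⟨g, hg, c, hgc⟩ := hA l
    have hc : col Γ c = o := by_contra fun hc => hl ((ty1_axis hodd hg hgc).mpr hc)
    have h1 : {m : L | c ∈ m ∧ Odd (cnt Γ m o)}.ncard = {x : P | x ∈ l ∧ col Γ x ≠ o}.ncard :=
      ncard_pencil hgc.nmem (fun m => Odd (cnt Γ m o)) (fun x => col Γ x ≠ o)
        fun x m hx hxm hcm => by rw [cnt_mod_line' hg hgc hcm hxm hx o]; simp [hc]
    have := hsum l
    rw [heps c hc] at h1
    omega
  set T1 := {l : L | Odd (cnt Γ l o)} with hT1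
  have c1 : (cls Γ o).ncard * ε = T1.ncard * t := by
    refine double_count_const _ _ _ _ (fun p hp => ?_) (fun l hl => ?_)
    · rw [← heps p hp]; congr 1; ext l; exact and_comm
    · rw [← hcnt l hl, cnt]; congr 1; ext x; exact and_comm
  have c0 : (cls Γ o).ncard * (k + 1 - ε) = T1ᶜ.ncard * (k + 1 - ε) := by
    refine double_count_const _ _ _ _ (fun p hp => ?_) (fun l hl => ?_)
    · have := hsplit p
      rw [heps p hp] at this
      rw [show {l : L | l ∈ T1ᶜ ∧ p ∈ l} = {l : L | p ∈ l ∧ ¬ Odd (cnt Γ l o)} from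
        Set.ext fun l => and_comm]
      omega
    · rw [← heven l hl, cnt]; congr 1; ext x; exact and_comm
  have hT0 : (cls Γ o).ncard = T1ᶜ.ncard := Nat.eq_of_mul_eq_mul_right (by omega) c0
  have hT1c : T1.ncard = (cls Γ o)ᶜ.ncard := by
    have e1 := Set.ncard_add_ncard_compl T1
    have e2 := Set.ncard_add_ncard_compl (cls Γ o)
    rw [card_ln (P := P)] at e1
    rw [card_pt (L := L)] at e2
    omega
  have hEpos : 0 < (cls Γ o)ᶜ.ncard := (Set.ncard_pos (Set.toFinite _)).mpr ⟨q, hq⟩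
  have c2 : (cls Γ o)ᶜ.ncard * t = T1.ncard * (k + 1 - t) := by
    refine double_count_const _ _ _ _ (fun p hp => ?_) (fun l hl => ?_)
    · rw [← htau p hp]; congr 1; ext l; exact and_comm
    · have := hsum l
      rw [hcnt l hl] at this
      rw [show {p : P | p ∈ (cls Γ o)ᶜ ∧ p ∈ l} = {x : P | x ∈ l ∧ col Γ x ≠ o} from
        Set.ext fun x => and_comm]
      omega
  rw [hT1c] at c2 c1
  have ht2 : t = k + 1 - t := Nat.eq_of_mul_eq_mul_left hEpos c2
  have hk3 : 3 ≤ k := h.three_le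
  have hεpos : 2 ≤ ε := by
    obtain ⟨g, hg, a, hga⟩ := hC p₀
    have ha : ¬ Odd (cnt Γ a o) := fun hh => (ty1_axis hodd hg hga).mp hh hp₀
    have e1 := heven a ha
    rw [Nat.not_odd_iff_even, e1, Nat.even_iff] at ha
    obtain ⟨j, hj⟩ := h.odd
    have : ε ≠ 0 := fun e0 => by
      rw [e0, mul_zero] at c1
      rcases Nat.mul_eq_zero.mp c1.symm with e | e <;> omega
    omega
  obtain ⟨p, hp, hpk, e, he, y, b, e1, hep, ey, eb, hyb⟩ := h.exists_elation_prime
  obtain ⟨l, hyl, hl, hlb⟩ : ∃ l : L, y ∈ l ∧ Odd (cnt Γ l o) ∧ l ≠ b := by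
    have h2 : 1 < {l : L | y ∈ l ∧ Odd (cnt Γ l o)}.ncard := by
      by_cases hy : col Γ y = o
      · rw [heps y hy]; omega
      · rw [htau y hy]; omega
    obtain ⟨l, hl, hne⟩ := Set.exists_ne_of_one_lt_ncard h2 b
    exact ⟨l, hl.1, hl.2, hne⟩
  have hd := elation_modEq hp e1 hep ey eb hyb hyl hlb {x : P | x ∈ l ∧ col Γ x = o} (fun x hx => hx.1)
    fun x hx => ⟨Coll.smul_mem_of_fixed (ey l hyl) hx.1, by rw [col_smul he]; exact hx.2⟩
  have hp1 := hp.one_lt
  by_cases hy : col Γ y = o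
  · rw [show {x | x ∈ {x : P | x ∈ l ∧ col Γ x = o} ∧ x ≠ y} = {x : P | x ∈ l ∧ col Γ x = o} \ {y}
      from rfl, Set.ncard_sdiff_singleton_of_mem (show y ∈ {x : P | x ∈ l ∧ col Γ x = o} from ⟨hyl, hy⟩),
      ← cnt, hcnt l hl] at hd
    have := Nat.dvd_sub hpk (hd.mul_left 2)
    rw [show k - 2 * (t - 1) = 1 by omega, Nat.dvd_one] at this
    omega
  · rw [show {x | x ∈ {x : P | x ∈ l ∧ col Γ x = o} ∧ x ≠ y} = {x : P | x ∈ l ∧ col Γ x = o} from
      Set.ext fun x => and_iff_left_of_imp fun hx e => hy (e ▸ hx.2), ← cnt, hcnt l hl] at hd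
    have := Nat.dvd_sub (hd.mul_left 2) hpk
    rw [show 2 * t - k = 1 by omega, Nat.dvd_one] at this
    omega

end Cfsg.Agent.OstromWagner
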