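import Cfsg.Agent.Lib.OstromWagner.TwoTrans
import Cfsg.Agent.Lib.OstromWagner.SylowTools

/-!
# Prime power order

A two-transitive group on a plane of prime power order contains a perspectivity.
-/

set_option autoImplicit false
set_option linter.style.haveILetI false
set_option linter.unusedSectionVars false

namespace Cfsg.Agent.OstromWagner

open Configuration

variable {P L : Type*} [Membership P L] [ProjectivePlane P L] [Finite P] [Finite L]

/-- A Sylow subgroup in the stabiliser of a flag moves everything it may. -/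
theorem flag_sylow_orbits (h : TwoTrans P L) {p b : ℕ} (hp : p.Prime) (hn : ord(P, L) = p ^ b)
    {Q : Subgroup (Coll P L)} (hi : ¬ p ∣ Q.index) {x : P} {l : L} (hxl : x ∈ l)
    (hQ : Q ≤ MulAction.stabilizer (Coll P L) x ⊓ MulAction.stabilizer (Coll P L) l) :
    (∀ y y', y ∈ l → y ≠ x → y' ∈ l → y' ≠ x → ∃ g ∈ Q, g • y = y') ∧
    (∀ y y', y ∉ l → y' ∉ l → ∃ g ∈ Q, g • y = y') ∧
    (∀ m m' : L, x ∉ m → x ∉ m' → ∃ g ∈ Q, g • m = m') := by
  have hrel : ∀ H, Q ≤ H → ¬ p ∣ Q.relIndex H := fun H hH hd =>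
    hi (hd.trans (Subgroup.relIndex_dvd_index_of_le hH))
  refine ⟨fun y y' hy hyx hy' hyx' => ?_, fun y y' hy hy' => ?_, fun m m' hm hm' => ?_⟩
  · have horb := orbit_eq_of_pow hp hQ (hrel _ hQ) y (S := {z : P | z ∈ l ∧ z ≠ x}) (b := b) ?_
      (by rw [ncard_line_diff hxl, hn])
    · obtain ⟨g, e⟩ := (horb.symm ▸ ⟨hy', hyx'⟩ : y' ∈ MulAction.orbit Q y)
      exact ⟨g, g.2, e⟩
    · ext z
      constructor
      · rintro ⟨g, rfl⟩
        exact ⟨Coll.smul_mem_of_fixed g.2.2 hy, fun e => hyx (MulAction.injective g.1 (e.trans g.2.1.symm))⟩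
      · rintro ⟨hz, hzx⟩
        obtain ⟨g, e1, e2⟩ := h x y x z hyx.symm hzx.symm
        have hgl : g • l = l := line_unique hzx.symm (e1 ▸ (g.smul_mem x l).mpr hxl)
          (e2 ▸ (g.smul_mem y l).mpr hy) hxl hz
        exact ⟨⟨g, e1, hgl⟩, e2⟩
  · have hQl : Q ≤ MulAction.stabilizer (Coll P L) l := hQ.trans inf_le_right
    have horb := orbit_eq_of_pow hp hQl (hrel _ hQl) y (S := {z : P | z ∉ l}) (b := b * 2) ?_
      (by rw [ncard_affine, hn, pow_mul])
    · obtain ⟨g, e⟩ := (horb.symm ▸ hy' : y' ∈ MulAction.orbit Q y)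
      exact ⟨g, g.2, e⟩
    · ext z
      constructor
      · rintro ⟨⟨g, hg⟩, rfl⟩ hz
        refine hy ?_
        change g • y ∈ l at hz
        rwa [← show g • l = l from hg, Coll.smul_mem] at hz
      · intro hz
        obtain ⟨g, hgl, e⟩ := h.off_line hy hz
        exact ⟨⟨g, hgl⟩, e⟩
  · have hQx : Q ≤ MulAction.stabilizer (Coll P L) x := hQ.trans inf_le_left
    have horb := orbit_eq_of_pow hp hQx (hrel _ hQx) m (S := {k : L | x ∉ k}) (b := b * 2) ?_ ?_
    · obtain ⟨g, e⟩ := (horb.symm ▸ hm' : m' ∈ MulAction.orbit Q m)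
      exact ⟨g, g.2, e⟩
    · ext z
      constructor
      · rintro ⟨⟨g, hg⟩, rfl⟩ hz
        refine hm ?_
        change x ∈ g • m at hz
        rwa [← show g • x = x from hg, Coll.smul_mem] at hz
      · intro hz
        obtain ⟨g, hgx, e⟩ := h.line_off_point hm hz
        exact ⟨⟨g, hgx⟩, e⟩
    · have := ncard_affine (P := Dual L) (L := Dual P) x
      rw [ProjectivePlane.Dual.order, hn, ← pow_mul] at this
      exact this

theorem exists_perspectivity (h : TwoTrans P L) (hpp : IsPrimePow ord(P, L)) :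
    ∃ (g : Coll P L) (a : L), g ≠ 1 ∧ g ∈ Ax a := by
  by_contra hno
  push Not at hno
  have hno' : ∀ (g : Coll P L) (c : P), g ∈ Cn c → g = 1 := fun g c hc => by
    by_contra g1
    obtain ⟨a, ha⟩ := Cn.exists_axis hc
    exact hno g a g1 ha
  have hno1 : ∀ (g : Coll P L) (a : L), g ∈ Ax a → g = 1 := fun g a ha =>
    by_contra fun g1 => hno g a g1 ha
  obtain ⟨p, b, hp, hb, hn⟩ := (isPrimePow_def _).mp hpp
  replace hp : p.Prime := hp.nat_prime
  haveI : Fact p.Prime := ⟨hp⟩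
  replace hn : ord(P, L) = p ^ b := hn.symm
  have hndvd : ∀ {x : P} {l : L}, x ∈ l →
      ¬ p ∣ (MulAction.stabilizer (Coll P L) x ⊓ MulAction.stabilizer (Coll P L) l).index := by
    intro x l hxl
    have hstab : MulAction.stabilizer (Coll P L) (x, l) =
        MulAction.stabilizer (Coll P L) x ⊓ MulAction.stabilizer (Coll P L) l := by
      ext g
      simp [MulAction.mem_stabilizer_iff, Prod.ext_iff]
    rw [← hstab, MulAction.index_stabilizer]
    have horb : MulAction.orbit (Coll P L) (x, l) = {f : P × L | f.1 ∈ f.2} := by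
      ext ⟨y, m⟩
      constructor
      · rintro ⟨g, e⟩
        obtain ⟨rfl, rfl⟩ := Prod.ext_iff.mp e
        exact (g.smul_mem x l).mpr hxl
      · intro hym
        obtain ⟨g, e⟩ := h.line l m
        obtain ⟨k, e1, e2⟩ := h.in_line (e ▸ (g.smul_mem x l).mpr hxl : g • x ∈ m) hym
        refine ⟨k * g, ?_⟩
        show ((k * g) • x, (k * g) • l) = (y, m)
        rw [mul_smul, mul_smul, e, e1, e2]
    have hcard : {f : P × L | f.1 ∈ f.2}.ncard =
        (p ^ b * p ^ b + p ^ b + 1) * (p ^ b + 1) := by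
      haveI := Fintype.ofFinite P
      rw [← Nat.card_coe_set_eq]
      refine (Nat.card_congr
        (Equiv.subtypeProdEquivSigmaSubtype fun (y : P) (m : L) => y ∈ m)).trans ?_
      rw [Nat.card_sigma]
      have : ∀ y : P, Nat.card {m : L // y ∈ m} = p ^ b + 1 := fun y =>
        (ProjectivePlane.lineCount_eq L y).trans (by rw [hn])
      rw [Finset.sum_congr rfl fun y _ => this y, Finset.sum_const, smul_eq_mul, Finset.card_univ,
        ← Nat.card_eq_fintype_card, card_pt (L := L), hn, pow_two]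
    rw [horb, hcard]
    have hd : p ∣ p ^ b := dvd_pow_self p hb.ne'
    exact hp.not_dvd_mul
      (fun hh => hp.not_dvd_one ((Nat.dvd_add_right (dvd_add (dvd_mul_of_dvd_left hd _) hd)).mp hh))
      (fun hh => hp.not_dvd_one ((Nat.dvd_add_right hd).mp hh))
  have key : ∀ (Q : Subgroup (Coll P L)) (x : P) (l : L), x ∈ l → ¬ p ∣ Q.index →
      Q ≤ MulAction.stabilizer (Coll P L) x ⊓ MulAction.stabilizer (Coll P L) l →
      ∀ z, z ≠ 1 → (∀ g ∈ Q, Commute z g) →
      (∀ y, y ∈ l → y ≠ x → z • y ≠ y) ∧ (∀ m : L, x ∈ m → m ≠ l → z • m ≠ m) := by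
    intro Q x l hxl hi hQ z z1 hz
    obtain ⟨hin, haff, -⟩ := flag_sylow_orbits h hp hn hi hxl hQ
    refine ⟨fun y hy hyx e => z1 ?_, fun m hm hml e => z1 ?_⟩
    · have hall : ∀ y', y' ∈ l → y' ≠ x → z • y' = y' := fun y' hy' hyx' => by
        obtain ⟨g, hg, rfl⟩ := hin y y' hy hyx hy' hyx'
        rw [← mul_smul, (hz g hg).eq, mul_smul, e]
      refine hno1 z l fun y' hy' => ?_
      by_cases hyx' : y' = x
      swap
      · exact hall y' hy' hyx'
      obtain ⟨y2, hy2, hy2x, hy2y⟩ := exists_mem_ne_ne l x y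
      have hzl : z • l = l := Coll.fixed_line_of_two hy2y (hall y2 hy2 hy2x) e hy2 hy
      subst hyx'
      by_contra hne
      exact hne (MulAction.injective z (hall _ (Coll.smul_mem_of_fixed hzl hxl) hne))
    · have hall : ∀ m', x ∈ m' → m' ≠ l → z • m' = m' := fun m' hm' hml' => by
        obtain ⟨q, hq, hqx, -⟩ := exists_mem_ne_ne m x x
        obtain ⟨q', hq', hqx', -⟩ := exists_mem_ne_ne m' x x
        obtain ⟨g, hg, e'⟩ := haff q q' (fun hh => hqx (point_unique hml hq hh hm hxl))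
          (fun hh => hqx' (point_unique hml' hq' hh hm' hxl))
        have hgm : g • m = m' := line_unique hqx' (e' ▸ (g.smul_mem q m).mpr hq)
          (by have := (g.smul_mem x m).mpr hm; rwa [show g • x = x from (hQ hg).1] at this) hq' hm'
        rw [← hgm, ← mul_smul, (hz g hg).eq, mul_smul, e]
      obtain ⟨m2, hm2, hm2l, hm2m⟩ := exists_line_ne_ne x l m
      have hzx : z • x = x := Coll.fixed_point_of_two hm2m (hall m2 hm2 hm2l) e hm2 hm
      refine hno' z x fun m' hm' => ?_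
      by_cases hml' : m' = l
      swap
      · exact hall m' hm' hml'
      subst hml'
      by_contra hne
      have : x ∈ z • m' := by rw [← hzx]; exact (z.smul_mem x m').mpr hxl
      exact hne (MulAction.injective z (hall _ this hne))
  obtain ⟨-, -, -, l, -⟩ := (ProjectivePlane.exists_config : ∃ (p₁ p₂ p₃ : P) (l₁ l₂ l₃ : L), _)
  obtain ⟨x₀, hx₀, -⟩ := exists_meet' (P := P) l l
  obtain ⟨x, hx, hxx, -⟩ := exists_mem_ne_ne l x₀ x₀
  obtain ⟨Q, -, hQ, hQp, hQi⟩ := exists_sylow_le (A := ⊥) hp (IsPGroup.of_bot) bot_le (hndvd hx₀)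
  obtain ⟨hin, haff, hoff⟩ := flag_sylow_orbits h hp hn hQi hx₀ hQ
  set A := Q ⊓ MulAction.stabilizer (Coll P L) x with hA
  have hord := ProjectivePlane.one_lt_order P L
  have hA1 : A ≠ ⊥ := fun hb' => by
    have e1 := card_inf_stab_mul Q x
    rw [← hA, hb', Subgroup.card_bot, one_mul] at e1
    have e2 : (MulAction.orbit Q x).ncard ≤ ord(P, L) := by
      rw [← ncard_line_diff hx₀]
      refine Set.ncard_le_ncard ?_
      rintro _ ⟨g, rfl⟩
      exact ⟨Coll.smul_mem_of_fixed (hQ g.2).2 hx, fun e => hxx (MulAction.injective g.1 (e.trans (hQ g.2).1.symm))⟩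
    obtain ⟨u, hu, -⟩ := exists_not_mem_two (P := P) l l
    have e3 : ord(P, L) ^ 2 ≤ Nat.card Q := by
      rw [← ncard_affine (P := P) l, ← Nat.card_coe_set_eq]
      refine Nat.card_le_card_of_surjective
        (fun g : Q => (⟨g.1 • u, fun hh => hu (by
          rwa [← show g.1 • l = l from (hQ g.2).2, Coll.smul_mem] at hh)⟩ : {y : P | y ∉ l})) ?_
      rintro ⟨y, hy⟩
      obtain ⟨g, hg, e⟩ := haff u y hu hy
      exact ⟨⟨g, hg⟩, Subtype.ext e⟩
    nlinarith
  have hAlines : ∀ m m' : L, x ∈ m → m ≠ l → x ∈ m' → m' ≠ l → ∃ g ∈ A, g • m = m' := by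
    intro m m' hm hml hm' hml'
    obtain ⟨g, hg, e⟩ := hoff m m' (fun hh => hml (line_unique hxx hm hh hx hx₀))
      (fun hh => hml' (line_unique hxx hm' hh hx hx₀))
    refine ⟨g, ⟨hg, ?_⟩, e⟩
    exact point_unique hml' (e ▸ (g.smul_mem x m).mpr hm) (Coll.smul_mem_of_fixed (hQ hg).2 hx) hm' hx
  have hAp : IsPGroup p A := hQp.to_le inf_le_left
  have hAflag : A ≤ MulAction.stabilizer (Coll P L) x ⊓ MulAction.stabilizer (Coll P L) l :=
    fun g hg => ⟨hg.2, (hQ hg.1).2⟩
  obtain ⟨Q', hAQ', hQ', hQp', hQi'⟩ := exists_sylow_le hp hAp hAflag (hndvd hx)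
  have hQ1 : Q ≠ ⊥ := fun e => hA1 (le_bot_iff.mp (inf_le_left.trans e.le))
  have hQ1' : Q' ≠ ⊥ := fun e => hA1 (le_bot_iff.mp (hAQ'.trans e.le))
  obtain ⟨z, hzQ, z1, -, hz⟩ := exists_central hp hQp hQ1
  obtain ⟨z', hzQ', z1', -, hz'⟩ := exists_central hp hQp' hQ1'
  obtain ⟨g, hgA, g1, -, hg⟩ := exists_central hp hAp hA1
  have hkey := key Q x₀ l hx₀ hQi hQ z z1 hz
  have hkey' := key Q' x l hx hQi' hQ' z' z1' hz'
  by_cases hfix : ∃ u, u ∉ l ∧ g • u = u
  · obtain ⟨u, hu, hgu⟩ := hfix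
    refine g1 (hno' g x fun m hm => ?_)
    by_cases hml : m = l
    · rw [hml]; exact (hQ hgA.1).2
    obtain ⟨m0, hm0, hum0⟩ := exists_join' (L := L) x u
    have h0 : g • m0 = m0 :=
      Coll.fixed_line_of_two (fun e : x = u => hu (e ▸ hx)) hgA.2 hgu hm0 hum0
    obtain ⟨k, hk, rfl⟩ := hAlines m0 m hm0 (fun e => hu (e ▸ hum0)) hm hml
    rw [← mul_smul, (hg k hk).eq, mul_smul, h0]
  push Not at hfix
  obtain ⟨m, hgm, hml⟩ : ∃ m : L, g • m = m ∧ m ≠ l := by
    have h2 : 1 < {y : P | g • y = y}.ncard :=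
      (Set.one_lt_ncard (Set.toFinite _)).mpr ⟨x, hgA.2, x₀, (hQ hgA.1).1, hxx⟩
    rw [ncard_fixed_points_eq] at h2
    obtain ⟨m, hm, hne⟩ := Set.exists_ne_of_one_lt_ncard h2 l
    exact ⟨m, hm, hne⟩
  obtain ⟨c, hcm, hcl⟩ := exists_meet (P := P) hml
  have hmove : ∀ k : Coll P L, Commute k g → k • l = l → k • c ≠ c → False := by
    intro k hkg hkl hkc
    have hgkm : g • (k • m) = k • m := by rw [← mul_smul, ← hkg.eq, mul_smul, hgm]
    have hkcl : k • c ∈ l := Coll.smul_mem_of_fixed hkl hcl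
    have hkcm : k • c ∈ k • m := (k.smul_mem c m).mpr hcm
    have hne : m ≠ k • m := fun e => hkc (point_unique hml (e.symm ▸ hkcm) hkcl hcm hcl)
    have hkml : k • m ≠ l := fun e => hml (MulAction.injective k (e.trans hkl.symm))
    obtain ⟨y, hy1, hy2⟩ := exists_meet (P := P) hne
    have hyl : y ∉ l := fun hh => hkc
      ((point_unique hkml hkcm hkcl hy2 hh).trans (point_unique hml hy1 hh hcm hcl))
    exact hfix y hyl (Coll.fixed_point_of_two hne hgm hgkm hy1 hy2)
  by_cases hzc : z • c = c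
  · refine hmove z' (hz' g (hAQ' hgA)) (hQ' hzQ').2 ?_
    have hc0 : c = x₀ := by_contra fun e => hkey.1 c hcl e hzc
    rw [hc0]
    exact hkey'.1 x₀ hx₀ hxx.symm
  · exact hmove z (hz g hgA.1) (hQ hzQ).2 hzc

end Cfsg.Agent.OstromWagner
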