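import Cfsg.Agent.Lib.OstromWagner.TwoTrans
import Cfsg.Agent.Lib.OstromWagner.Chain
import Cfsg.Agent.Lib.OstromWagner.Pairs
import Cfsg.Agent.Lib.OstromWagner.PlaneLemma

/-!
# No perspectivity: prime power order

All involutions are Baer, the order is odd, and the smallest fixed subplane of a `2`-group satisfies
the hypothesis of the plane lemma.
-/

set_option autoImplicit false
set_option linter.style.haveILetI false
set_option linter.unusedSectionVars false

namespace Cfsg.Agent.OstromWagner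

open Configuration

variable {P L : Type*} [Membership P L] [ProjectivePlane P L] [Finite P] [Finite L]

theorem dvd_ncard_of_orbits {G X : Type*} [Group G] [MulAction G X] [Finite X] (T : Subgroup G) (d : ℕ)
    (S : Set X) (hS : ∀ g ∈ T, ∀ x ∈ S, g • x ∈ S) (hd : ∀ x ∈ S, d ∣ (MulAction.orbit T x).ncard) :
    d ∣ S.ncard := by
  suffices key : ∀ (n : ℕ) (S : Set X), S.ncard = n → (∀ g ∈ T, ∀ x ∈ S, g • x ∈ S) →
      (∀ x ∈ S, d ∣ (MulAction.orbit T x).ncard) → d ∣ n from key _ S rfl hS hd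
  intro n
  induction n using Nat.strong_induction_on with | _ n ih =>
  intro S hn hS hd
  rcases S.eq_empty_or_nonempty with rfl | ⟨x, hx⟩
  · rw [← hn, Set.ncard_empty]; exact dvd_zero d
  have hsub : MulAction.orbit T x ⊆ S := by rintro _ ⟨g, rfl⟩; exact hS g g.2 x hx
  have e := Set.ncard_sdiff_add_ncard_of_subset hsub
  have hpos : 0 < (MulAction.orbit T x).ncard :=
    (Set.ncard_pos (Set.toFinite _)).mpr ⟨x, MulAction.mem_orbit_self x⟩
  rw [← hn, ← e]
  refine dvd_add (ih _ (by omega) _ rfl ?_ (fun y hy => hd y hy.1)) (hd x hx)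
  rintro g hg y ⟨hy, hyo⟩
  refine ⟨hS g hg y hy, fun ⟨k, hk⟩ => hyo ⟨⟨g, hg⟩⁻¹ * k, ?_⟩⟩
  show (g⁻¹ * (k : G)) • x = y
  rw [mul_smul, inv_smul_eq_iff]
  exact hk

theorem isPrimePow_of_no_perspectivity (h : TwoTrans P L)
    (hno : ∀ (g : Coll P L) (a : L), g ∈ Ax a → g = 1) : IsPrimePow ord(P, L) := by
  classical
  haveI : Fact (Nat.Prime 2) := ⟨Nat.prime_two⟩
  set n := ord(P, L) with hn
  have hn1 : 1 < n := ProjectivePlane.one_lt_order P L
  have hbaer : ∀ g : Coll P L, g * g = 1 → g ≠ 1 → HasQuad L (fixP (Subgroup.zpowers g)) := by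
    intro g hg g1
    rw [fixP_zpowers]
    by_contra hq
    obtain ⟨a, ha⟩ := exists_axis_of_no_quad hg hq
    exact g1 (hno g a ha)
  have hodd : Odd n := by
    by_contra he
    rw [Nat.not_odd_iff_even] at he
    obtain ⟨-, -, -, l, -⟩ := (ProjectivePlane.exists_config : ∃ (p₁ p₂ p₃ : P) (l₁ l₂ l₃ : L), _)
    obtain ⟨u, hu, -⟩ := exists_not_mem_two (P := P) l l
    set H := MulAction.stabilizer (Coll P L) l with hH
    have horb : ∀ w, w ∉ l → MulAction.orbit H w = {y : P | y ∉ l} := by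
      intro w hw
      ext y
      constructor
      · rintro ⟨⟨g, hg⟩, rfl⟩ hy
        refine hw ?_
        change g • w ∈ l at hy
        rwa [← show g • l = l from hg, Coll.smul_mem] at hy
      · intro hy
        obtain ⟨g, hgl, e⟩ := h.off_line hw hy
        exact ⟨⟨g, hgl⟩, e⟩
    obtain ⟨T₀⟩ := (inferInstance : Nonempty (Sylow 2 H))
    set T := (T₀ : Subgroup H).map H.subtype with hT
    have hTH : T ≤ H := Subgroup.map_subtype_le _
    have hTi : ¬ 2 ∣ T.relIndex H := by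
      rw [hT, Subgroup.relIndex, Subgroup.subgroupOf,
        Subgroup.comap_map_eq_self_of_injective Subtype.val_injective]
      exact T₀.not_dvd_index
    obtain ⟨e, r, hr, her⟩ := Nat.exists_eq_pow_mul_and_not_dvd
      (pow_ne_zero 2 (by omega : n ≠ 0)) 2 (by norm_num)
    have hdvd : ∀ w, w ∉ l → 2 ^ e ∣ (MulAction.orbit T w).ncard := fun w hw =>
      pow_dvd_orbit Nat.prime_two hTH hTi w (by rw [horb w hw, ncard_affine, ← hn, her]; exact dvd_mul_right _ _)
    have he0 : e ≠ 0 := fun h0 => by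
      rw [h0, pow_zero, one_mul] at her
      exact hr (her ▸ dvd_pow he.two_dvd two_ne_zero)
    have hTne : T ≠ ⊥ := fun hb => by
      have h1 := hdvd u hu
      rw [show MulAction.orbit T u = {u} from Set.ext fun y => ⟨by
        rintro ⟨⟨g, hg⟩, rfl⟩
        show g • u = u
        rw [hb, Subgroup.mem_bot] at hg
        rw [hg, one_smul], by rintro rfl; exact MulAction.mem_orbit_self _⟩, Set.ncard_singleton,
        Nat.dvd_one] at h1
      rcases Nat.pow_eq_one.mp h1 with h1 | h1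
      · omega
      · exact he0 h1
    obtain ⟨j, hjT, j1, hj2, hjc⟩ := exists_central Nat.prime_two (T₀.2.map _ : IsPGroup 2 T) hTne
    rw [pow_two] at hj2
    have hq := hbaer j hj2 j1
    have hsq := order_eq_sq hj2 j1 hq
    set m := ord((fixedSub _ hq).pts, (fixedSub _ hq).lns) with hm
    have hlfix : l ∈ (fixedSub _ hq).lns := by
      show l ∈ fixL (Subgroup.zpowers j)
      rw [fixL_zpowers]
      exact hTH hjT
    have hcard : {y : P | y ∈ (fixedSub _ hq).pts ∧ y ∉ l}.ncard = m ^ 2 := by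
      have h1 := Set.ncard_inter_add_ncard_sdiff_eq_ncard (fixedSub _ hq).pts {y : P | y ∈ l}
      rw [SubPlane.ncard_pts, show (fixedSub _ hq).pts ∩ {y : P | y ∈ l} =
        {y : P | y ∈ (fixedSub _ hq).pts ∧ y ∈ l} from rfl, SubPlane.ncard_on _ hlfix, ← hm] at h1
      change ((fixedSub _ hq).pts \ {y : P | y ∈ l}).ncard = _
      omega
    have hdiv : 2 ^ e ∣ m ^ 2 := by
      rw [← hcard]
      refine dvd_ncard_of_orbits T _ _ ?_ fun y hy => hdvd y hy.2
      rintro g hg y ⟨hy, hyl⟩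
      refine ⟨?_, fun hh => hyl ?_⟩
      · show g • y ∈ fixP (Subgroup.zpowers j)
        have hy' : y ∈ fixP (Subgroup.zpowers j) := hy
        rw [fixP_zpowers] at hy' ⊢
        show j • g • y = g • y
        rw [← mul_smul, (hjc g hg).eq, mul_smul, hy']
      · rwa [← show g • l = l from hTH hg, Coll.smul_mem] at hh
    have h4 : 2 ^ e * 2 ^ e ∣ 2 ^ e * r := by
      rw [← her, hn, hsq, ← pow_mul, show 2 * 2 = 2 + 2 from rfl, pow_add]
      exact Nat.mul_dvd_mul hdiv hdiv
    exact hr ((dvd_pow_self 2 he0).trans (Nat.dvd_of_mul_dvd_mul_left (by positivity) h4))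
  -- the smallest fixed subplane
  let C : Set (Subgroup (Coll P L)) := {R | IsPGroup 2 R ∧ HasQuad L (fixP R)}
  let μ : Subgroup (Coll P L) → ℕ := fun R =>
    (fixP R).ncard * (Nat.card (Coll P L) + 1) + (Nat.card (Coll P L) - Nat.card R)
  haveI : Finite (Subgroup (Coll P L)) := inferInstance
  obtain ⟨R, ⟨hR, hq⟩, hmin⟩ := Set.exists_min_image C μ (Set.toFinite _) ⟨⊥, IsPGroup.of_bot, by
    rw [show fixP (⊥ : Subgroup (Coll P L)) = Set.univ from Set.eq_univ_of_forall fun p g hg => by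
      rw [Subgroup.mem_bot] at hg; rw [hg, one_smul]]
    exact hasQuad_univ⟩
  have hbig : ∀ R' : Subgroup (Coll P L), IsPGroup 2 R' → R < R' → ¬ HasQuad L (fixP R') := by
    intro R' hp hlt hq'
    have h1 := hmin R' ⟨hp, hq'⟩
    have h2 : (fixP R').ncard ≤ (fixP R).ncard :=
      Set.ncard_le_ncard fun p hp' g hg => hp' g (hlt.le hg)
    have h3 : Nat.card R < Nat.card R' := by
      by_contra hh
      exact hlt.ne (Subgroup.eq_of_le_of_card_ge hlt.le (by omega))
    have h4 := Nat.le_of_dvd Nat.card_pos (Subgroup.card_subgroup_dvd_card R')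
    have h5 := Nat.mul_le_mul_right (Nat.card (Coll P L) + 1) h2
    simp only [μ] at h1
    omega
  set Q := fixedSub R hq with hQ
  obtain ⟨r, hr⟩ := order_chain _ P L R hR hq rfl
  rw [← hQ, ← hn] at hr
  have hk : Odd ord(Q.pts, Q.lns) := by
    rw [hr] at hodd
    exact (Nat.odd_pow_iff (pow_ne_zero r two_ne_zero)).mp hodd
  suffices hpp : IsPrimePow ord(Q.pts, Q.lns) by
    rw [hr]; exact hpp.pow (pow_ne_zero r two_ne_zero)
  set φ : Subgroup.normalizer (R : Set (Coll P L)) →* Coll Q.pts Q.lns :=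
    Q.res.comp (Subgroup.inclusion (normalizer_le_stab R hq)) with hφ
  have hφp : ∀ (g : Subgroup.normalizer (R : Set (Coll P L))) (p : Q.pts),
      ((φ g • p : Q.pts) : P) = (g : Coll P L) • (p : P) := fun _ _ => rfl
  have hφl : ∀ (g : Subgroup.normalizer (R : Set (Coll P L))) (l : Q.lns),
      ((φ g • l : Q.lns) : L) = (g : Coll P L) • (l : L) := fun _ _ => rfl
  have hsepP : ∀ g, φ g = 1 → ∀ y ∈ fixP R, (g : Coll P L) • y = y := fun g hg y hy => by
    rw [← hφp g ⟨y, hy⟩, hg, one_smul]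
  have hsepL : ∀ g, φ g = 1 → ∀ y ∈ fixL R, (g : Coll P L) • y = y := fun g hg y hy => by
    rw [← hφl g ⟨y, hy⟩, hg, one_smul]
  have hext : ∀ t : Subgroup.normalizer (R : Set (Coll P L)), (∃ j : ℕ, (t : Coll P L) ^ 2 ^ j = 1) →
      (t : Coll P L) ∉ R → ¬ HasQuad Q.lns {p : Q.pts | φ t • p = p} := by
    rintro t ⟨j, hj⟩ htR hquad
    have htp : IsPGroup 2 (Subgroup.zpowers (t : Coll P L)) := by
      rintro ⟨x, hx⟩
      obtain ⟨i, rfl⟩ := Subgroup.mem_zpowers_iff.mp hx
      refine ⟨j, Subtype.ext ?_⟩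
      show ((t : Coll P L) ^ i) ^ 2 ^ j = 1
      rw [← zpow_natCast, ← zpow_mul, mul_comm, zpow_mul, zpow_natCast, hj, one_zpow]
    refine hbig _ (hR.to_sup_of_normal_left' htp (Subgroup.zpowers_le.mpr t.2))
      (lt_of_le_of_ne le_sup_left fun e => htR ?_) (Q.hasQuad_up ?_ hquad)
    · exact e.ge (Subgroup.mem_sup_right (Subgroup.mem_zpowers _))
    · intro p hp g hg
      have h1 : R ⊔ Subgroup.zpowers (t : Coll P L) ≤ MulAction.stabilizer (Coll P L) (p : P) :=
        sup_le (fun g hg => p.2 g hg) (Subgroup.zpowers_le.mpr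
          ((hφp t p).symm.trans (congrArg Subtype.val hp)))
      exact h1 hg
  have htriv : ∀ t : Subgroup.normalizer (R : Set (Coll P L)), (∃ j : ℕ, (t : Coll P L) ^ 2 ^ j = 1) →
      φ t = 1 → (t : Coll P L) ∈ R := by
    intro t ht h1
    by_contra htR
    refine hext t ht htR ?_
    rw [show {p : Q.pts | φ t • p = p} = Set.univ from Set.eq_univ_of_forall fun p => by
      show φ t • p = p
      rw [h1, one_smul]]
    exact hasQuad_univ
  have hhom : ∀ t : Subgroup.normalizer (R : Set (Coll P L)), (∃ j : ℕ, (t : Coll P L) ^ 2 ^ j = 1) →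
      φ t ≠ 1 → φ t * φ t = 1 → ∃ c a, IsHom (φ t) c a := by
    intro t ht h1 h2
    have htR : (t : Coll P L) ∉ R := fun hh => h1 ((Q.res_eq_one_iff _).mpr fun p hp => hp _ hh)
    obtain ⟨a, ha⟩ := exists_axis_of_no_quad h2 (hext t ht htR)
    obtain ⟨c, hc⟩ := isHom_of_odd hk h2 h1 ha
    exact ⟨c, a, hc⟩
  refine isPrimePow_of_pairProp (Γ := φ.range) ⟨hk, fun p q hpq => ?_, fun l m hlm => ?_⟩
  · obtain ⟨t, ht, h1, h2, e1, e2⟩ := exists_fixing_pair (G := Coll P L) h hR
      (Y := fixP R) (fun g hg y hy => hy g hg)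
      (fun g hg y hy => ((normalizer_le_stab R hq hg).1 y).mpr hy) φ hsepP htriv
      (fun t ht h1 h2 => by
        obtain ⟨c, a, hh⟩ := hhom t ht h1 h2
        obtain ⟨x, hx, -⟩ := exists_meet' (P := Q.pts) a a
        exact ⟨c, c.2, x, x.2, fun e => hh.nmem ((Subtype.ext e : c = x) ▸ hx),
          (hφp t c).symm.trans (congrArg Subtype.val ((hh.fixed_iff c).mpr (Or.inr rfl))),
          (hφp t x).symm.trans (congrArg Subtype.val ((hh.fixed_iff x).mpr (Or.inl hx)))⟩)
      p.2 q.2 fun e => hpq (Subtype.ext e)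
    obtain ⟨c, a, hh⟩ := hhom t ht h1 h2
    exact ⟨φ t, ⟨t, rfl⟩, c, a, hh, Subtype.ext ((hφp t p).trans e1), Subtype.ext ((hφp t q).trans e2)⟩
  · obtain ⟨t, ht, h1, h2, e1, e2⟩ := exists_fixing_pair (G := Coll P L) h.lines hR
      (Y := fixL R) (fun g hg y hy => hy g hg)
      (fun g hg y hy => ((normalizer_le_stab R hq hg).2 y).mpr hy) φ hsepL htriv
      (fun t ht h1 h2 => by
        obtain ⟨c, a, hh⟩ := hhom t ht h1 h2
        obtain ⟨x, hx, -⟩ := exists_join' (L := Q.lns) c c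
        exact ⟨a, a.2, x, x.2, fun e => hh.nmem ((Subtype.ext e : a = x) ▸ hx),
          (hφl t a).symm.trans (congrArg Subtype.val ((hh.fixed_line_iff a).mpr (Or.inr rfl))),
          (hφl t x).symm.trans (congrArg Subtype.val ((hh.fixed_line_iff x).mpr (Or.inl hx)))⟩)
      l.2 m.2 fun e => hlm (Subtype.ext e)
    obtain ⟨c, a, hh⟩ := hhom t ht h1 h2
    exact ⟨φ t, ⟨t, rfl⟩, c, a, hh, Subtype.ext ((hφl t l).trans e1), Subtype.ext ((hφl t m).trans e2)⟩

end Cfsg.Agent.OstromWagner
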