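import Cfsg.Agent.Lib.OstromWagner.Directions
import Cfsg.Agent.Lib.RankOneFF.Coordinates

/-!
# The field of slopes

When every line is a translation line, the slopes of the directions on one line form a field and the
translation group has coordinates over it.
-/

set_option autoImplicit false
set_option linter.style.haveILetI false
set_option maxHeartbeats 1000000

namespace Cfsg.Agent.OstromWagner

open Configuration

variable {P L : Type*} [Membership P L] [ProjectivePlane P L] [Finite P] [Finite L]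

theorem exists_slopes (hfull : ∀ a : L, FullTrans (P := P) a) {l : L} {O X Y U : P} (hO : O ∉ l)
    (hX : X ∈ l) (hY : Y ∈ l) (hU : U ∈ l) (hXY : X ≠ Y) (hXU : X ≠ U) (hYU : Y ≠ U) :
    ∃ (F : Type) (_ : Field F) (_ : Fintype F), Nat.card F = ord(P, L) ∧
      ∃ (c1 c2 : Coll P L → F) (sl : P → F),
        (∀ s ∈ Trans l, ∀ t ∈ Trans l, c1 (s * t) = c1 s + c1 t ∧ c2 (s * t) = c2 s + c2 t) ∧
        (∀ t ∈ Trans l, c1 t = 0 → c2 t = 0 → t = 1) ∧
        (∀ t ∈ Trans l, t ∈ Cn Y ↔ c1 t = 0) ∧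
        (∀ c, c ∈ l → c ≠ Y → ∀ t ∈ Trans l, t ∈ Cn c ↔ c2 t = sl c * c1 t) ∧
        (∀ c d, c ∈ l → c ≠ Y → d ∈ l → d ≠ Y → sl c = sl d → c = d) := by
  classical
  have hl : FullTrans (P := P) l := hfull l
  set T : Subgroup (Coll P L) := Trans l with hT
  have hcomm : ∀ {s t : Coll P L}, s ∈ T → t ∈ T → s * t = t * s := fun hs ht =>
    Trans.commute_full hl hs ht
  let D : P → Subgroup (Coll P L) := fun c => T ⊓ Cn c
  have hcap : ∀ {c d : P}, c ≠ d → ∀ {t}, t ∈ D c → t ∈ D d → t = 1 := fun hcd t h h' =>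
    Trans.eq_one_of_two_centres h.2 h'.2 hcd
  set A := D X with hA
  have hgraph : ∀ c, c ∈ l → c ≠ Y → ∀ x ∈ T, ∃ y ∈ D Y, x * y ∈ D c := fun c hc hcY x hx => by
    obtain ⟨d, hd, b, hb, e⟩ := Trans.decomp hl hx hc hY hcY
    exact ⟨b⁻¹, inv_mem hb, by rw [e, mul_inv_cancel_right]; exact hd⟩
  have hgraph1 : ∀ c, c ≠ Y → ∀ x ∈ T, ∀ y ∈ D Y, ∀ y' ∈ D Y, x * y ∈ D c → x * y' ∈ D c →
      y = y' := fun c hcY x _ y hy y' hy' h h' => by
    have h2 : y⁻¹ * y' ∈ D c := by
      have := mul_mem (inv_mem h) h'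
      rwa [mul_inv_rev, mul_assoc, inv_mul_cancel_left] at this
    exact inv_mul_eq_one.mp (hcap hcY h2 (mul_mem (inv_mem hy) hy'))
  have hAT : ∀ x : A, (x : Coll P L) ∈ T := fun x => x.2.1
  choose u hu huU using fun x : A => hgraph U hU hYU.symm x (hAT x)
  have hu1 : ∀ (x : A) y, y ∈ D Y → (x : Coll P L) * y ∈ D U → u x = y := fun x y hy h =>
    hgraph1 U hYU.symm x (hAT x) _ (hu x) y hy (huU x) h
  have hmulU : ∀ x x' : A, u (x * x') = u x * u x' := fun x x' => by
    refine hu1 _ _ (mul_mem (hu x) (hu x')) ?_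
    have := mul_mem (huU x) (huU x')
    rwa [mul_assoc (x : Coll P L), ← mul_assoc (u x), hcomm (hu x).1 (hAT x'), mul_assoc (x' : Coll P L),
      ← mul_assoc (x : Coll P L)] at this
  have hu1' : u 1 = 1 := hu1 1 1 (one_mem _) (by simp [one_mem])
  have huinj : Function.Injective u := fun x x' e => by
    have h1 : ∀ z : A, u z = 1 → z = 1 := fun z hz => Subtype.ext
      (hcap hXU z.2 (by simpa [hz] using huU z))
    have h2 : u (x * x'⁻¹) = 1 := by
      have := hmulU (x * x'⁻¹) x'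
      rw [inv_mul_cancel_right, e] at this
      exact mul_eq_right.mp this.symm
    exact mul_inv_eq_one.mp (h1 _ h2)
  have husurj : ∀ y ∈ D Y, ∃ x : A, u x = y := fun y hy => by
    obtain ⟨d, hd, x, hx, e⟩ := Trans.decomp hl hy.1 hU hX hXU.symm
    refine ⟨⟨x⁻¹, inv_mem hx⟩, hu1 _ y hy ?_⟩
    show x⁻¹ * y ∈ D U
    rw [hcomm (inv_mem hx.1) hy.1, e, mul_inv_cancel_right]
    exact hd
  letI : CommGroup A := { (inferInstance : Group A) with
    mul_comm := fun x x' => Subtype.ext (hcomm (hAT x) (hAT x')) }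
  let V := Additive A
  -- slopes
  have hex : ∀ c, c ∈ l → c ≠ Y → ∀ x : A, ∃ x' : A, (x : Coll P L) * u x' ∈ D c :=
    fun c hc hcY x => by
      obtain ⟨y, hy, h⟩ := hgraph c hc hcY x (hAT x)
      obtain ⟨x', rfl⟩ := husurj y hy
      exact ⟨x', h⟩
  have huniq : ∀ c, c ≠ Y → ∀ x a b : A, (x : Coll P L) * u a ∈ D c → (x : Coll P L) * u b ∈ D c →
      a = b := fun c hcY x a b h h' =>
    huinj (hgraph1 c hcY x (hAT x) _ (hu a) _ (hu b) h h')
  let Mf : P → A → A := fun c x => if h : c ∈ l ∧ c ≠ Y then (hex c h.1 h.2 x).choose else 1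
  have hMf : ∀ c, c ∈ l → c ≠ Y → ∀ x x' : A, (x : Coll P L) * u x' ∈ D c ↔ Mf c x = x' :=
    fun c hc hcY x x' => by
      have := (hex c hc hcY x).choose_spec
      simp only [Mf, dif_pos (And.intro hc hcY)]
      exact ⟨fun h => huniq c hcY x _ _ this h, fun h => h ▸ this⟩
  have hMmul : ∀ c x y, Mf c (x * y) = Mf c x * Mf c y := fun c x y => by
    by_cases h : c ∈ l ∧ c ≠ Y
    · refine (hMf c h.1 h.2 _ _).mp ?_
      have := mul_mem ((hMf c h.1 h.2 x _).mpr rfl) ((hMf c h.1 h.2 y _).mpr rfl)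
      rw [hmulU]
      rwa [mul_assoc (x : Coll P L), ← mul_assoc (u (Mf c x)), hcomm (hu (Mf c x)).1 (hAT y),
        mul_assoc (y : Coll P L), ← mul_assoc (x : Coll P L)] at this
    · simp [Mf, dif_neg h]
  let M : P → AddMonoid.End V := fun c => (MonoidHom.mk' (Mf c) (hMmul c)).toAdditive
  have hM : ∀ c, c ∈ l → c ≠ Y → ∀ x x' : A,
      (x : Coll P L) * u x' ∈ D c ↔ M c (Additive.ofMul x) = Additive.ofMul x' := hMf
  have hMX : M X = 0 := AddMonoidHom.ext fun v => by
    refine (hM X hX hXY v.toMul 1).mp ?_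
    rw [hu1', mul_one]
    exact v.toMul.2
  have hMU : M U = 1 := AddMonoidHom.ext fun v => (hM U hU hYU.symm v.toMul v.toMul).mp (huU _)
  have hMinj : ∀ c d, c ∈ l → c ≠ Y → d ∈ l → d ≠ Y → M c = M d → c = d := by
    intro c d hc hcY hd hdY e
    by_contra hne
    have hcard : Nat.card A = ord(P, L) := card_direction hl hX
    have : A ≠ ⊥ := fun hb => by
      rw [hb, Subgroup.card_bot] at hcard
      have := ProjectivePlane.one_lt_order P L
      omega
    obtain ⟨x, hx, x1⟩ := A.bot_or_exists_ne_one.resolve_left this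
    obtain ⟨x', h⟩ := hex c hc hcY ⟨x, hx⟩
    have h' := (hM d hd hdY _ x').mpr (e ▸ (hM c hc hcY _ _).mp h)
    have h0 : x * u x' = 1 := hcap hne h h'
    refine x1 (hcap hXY hx ?_)
    rw [mul_eq_one_iff_eq_inv.mp h0]
    exact inv_mem (hu x')
  -- the shears with axis through `Y`
  have hshear : ∀ c d, c ∈ l → c ≠ Y → d ∈ l → d ≠ Y → ∃ f, f ∈ l ∧ f ≠ Y ∧ M f = M c + M d := by
    intro c d hc hcY hd hdY
    obtain ⟨m, hOm, hYm⟩ := exists_join' (L := L) O Y
    have hml : m ≠ l := fun e => hO (e ▸ hOm)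
    have hoff : ∀ z, z ∈ l → z ≠ Y → z ∉ m := fun z hz hzY h => hzY (point_unique hml h hz hYm hY)
    obtain ⟨e, he, eX⟩ := hfull m X c (hoff X hX hXY) (hoff c hc hcY)
    have heY : e ∈ Cn Y :=
      (Trans.mem_Cn_iff he (hoff X hX hXY) hX hY hYm).mpr (by rw [eX]; exact hc)
    have heO : e • O = O := he.1 O hOm
    have hel : e • l = l := heY l hY
    have hcj : ∀ z t, t ∈ D z → e * t * e⁻¹ ∈ D (e • z) := fun z t ht =>
      ⟨by simpa [hel] using conj_mem_Trans ht.1 e, conj_mem_Cn ht.2 e⟩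
    have heinv : e⁻¹ • O = O := inv_smul_eq_iff.mpr heO.symm
    have hB : ∀ y ∈ D Y, e * y * e⁻¹ = y := fun y hy => by
      have h1 : y • O ∈ m := (Trans.mem_Cn_iff hy.1 hO hOm hYm hY).mp hy.2
      refine Trans.ext_of_smul (by simpa [hel] using conj_mem_Trans hy.1 e) hy.1 hO ?_
      rw [mul_smul, mul_smul, heinv, he.1 _ h1]
    have hAe : ∀ x : A, e * (x : Coll P L) * e⁻¹ = x * u (Mf c x) := fun x => by
      have h1 := hcj X x x.2
      rw [eX] at h1
      have hxO : (x : Coll P L) • O ∉ l := Trans.smul_not_mem (hAT x) hO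
      have hy' : e * (x : Coll P L) * e⁻¹ * (x : Coll P L)⁻¹ ∈ T := mul_mem h1.1 (inv_mem (hAT x))
      obtain ⟨k, hk1, hk2⟩ := exists_join' (L := L) ((x : Coll P L) • O) Y
      have hyY : e * (x : Coll P L) * e⁻¹ * (x : Coll P L)⁻¹ ∈ D Y := by
        refine ⟨hy', (Trans.mem_Cn_iff hy' hxO hk1 hk2 hY).mpr ?_⟩
        rw [mul_smul, inv_smul_smul, mul_smul, mul_smul, heinv]
        exact Coll.smul_mem_of_fixed (heY k hk2) hk1
      have hgc : (x : Coll P L) * (e * (x : Coll P L) * e⁻¹ * (x : Coll P L)⁻¹) ∈ D c := by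
        rw [hcomm (hAT x) hy', inv_mul_cancel_right]
        exact h1
      rw [← hgraph1 c hcY x (hAT x) _ hyY _ (hu _) hgc ((hMf c hc hcY x _).mpr rfl),
        hcomm (hAT x) hy', inv_mul_cancel_right]
    refine ⟨e • d, Coll.smul_mem_of_fixed hel hd, fun h => hdY
      (MulAction.injective e (h.trans (Cn.smul_centre heY).symm)), AddMonoidHom.ext fun v => ?_⟩
    have h := hcj d _ ((hMf d hd hdY v.toMul _).mpr rfl)
    rw [show e * ((v.toMul : Coll P L) * u (Mf d v.toMul)) * e⁻¹ =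
        (e * (v.toMul : Coll P L) * e⁻¹) * (e * u (Mf d v.toMul) * e⁻¹) by group,
      hAe, hB _ (hu _), mul_assoc, ← hmulU] at h
    exact (hM (e • d) (Coll.smul_mem_of_fixed hel hd) (fun h => hdY
      (MulAction.injective e (h.trans (Cn.smul_centre heY).symm))) v.toMul _).mp h
  -- inversion
  have hinvert : ∀ d, d ∈ l → d ≠ Y → d ≠ X →
      ∃ f, f ∈ l ∧ f ≠ Y ∧ M f * M d = M d + M d - 1 := by
    intro d hd hdY hdX
    obtain ⟨m, hOm, hUm⟩ := exists_join' (L := L) O U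
    have hml : m ≠ l := fun e => hO (e ▸ hOm)
    have hoff : ∀ z, z ∈ l → z ≠ U → z ∉ m := fun z hz hzY h => hzY (point_unique hml h hz hUm hU)
    obtain ⟨e, he, eX⟩ := hfull m X Y (hoff X hX hXU) (hoff Y hY hYU)
    have heU : e ∈ Cn U :=
      (Trans.mem_Cn_iff he (hoff X hX hXU) hX hU hUm).mpr (by rw [eX]; exact hY)
    have heO : e • O = O := he.1 O hOm
    have hel : e • l = l := heU l hU
    have hcj : ∀ z t, t ∈ D z → e * t * e⁻¹ ∈ D (e • z) := fun z t ht =>
      ⟨by simpa [hel] using conj_mem_Trans ht.1 e, conj_mem_Cn ht.2 e⟩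
    have heinv : e⁻¹ • O = O := inv_smul_eq_iff.mpr heO.symm
    have hDU : ∀ y ∈ D U, e * y * e⁻¹ = y := fun y hy => by
      have h1 : y • O ∈ m := (Trans.mem_Cn_iff hy.1 hO hOm hUm hU).mp hy.2
      refine Trans.ext_of_smul (by simpa [hel] using conj_mem_Trans hy.1 e) hy.1 hO ?_
      rw [mul_smul, mul_smul, heinv, he.1 _ h1]
    have hAe : ∀ x : A, e * (x : Coll P L) * e⁻¹ = u x⁻¹ := fun x => by
      have h1 := hcj X x x.2
      rw [eX] at h1
      have hxO : (x : Coll P L) • O ∉ l := Trans.smul_not_mem (hAT x) hO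
      obtain ⟨k, hk1, hk2⟩ := exists_join' (L := L) ((x : Coll P L) • O) U
      have hy : e * (x : Coll P L) * e⁻¹ * (x : Coll P L)⁻¹ ∈ T := mul_mem h1.1 (inv_mem (hAT x))
      have hyU : e * (x : Coll P L) * e⁻¹ * (x : Coll P L)⁻¹ ∈ D U := by
        refine ⟨hy, (Trans.mem_Cn_iff hy hxO hk1 hk2 hU).mpr ?_⟩
        rw [mul_smul, inv_smul_smul, mul_smul, mul_smul, heinv]
        exact Coll.smul_mem_of_fixed (heU k hk2) hk1
      refine (hu1 x⁻¹ _ h1 ?_).symm
      rw [Subgroup.coe_inv, hcomm (inv_mem (hAT x)) h1.1]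
      exact hyU
    have hBe : ∀ x : A, e * u x * e⁻¹ = x * u (x * x) := fun x => by
      have h := hDU _ (huU x)
      rw [show e * ((x : Coll P L) * u x) * e⁻¹ = (e * x * e⁻¹) * (e * u x * e⁻¹) by group, hAe] at h
      have h2 : u x⁻¹ * u x = 1 := by rw [← hmulU, inv_mul_cancel, hu1']
      rw [eq_inv_mul_of_mul_eq h, inv_eq_of_mul_eq_one_right h2, hmulU, ← mul_assoc (u x),
        hcomm (hu x).1 (hAT x), mul_assoc]
    have hfY : e • d ≠ Y := fun h => hdX (MulAction.injective e (h.trans eX.symm))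
    refine ⟨e • d, Coll.smul_mem_of_fixed hel hd, hfY, AddMonoidHom.ext fun v => ?_⟩
    have h := hcj d _ ((hMf d hd hdY v.toMul _).mpr rfl)
    rw [show e * ((v.toMul : Coll P L) * u (Mf d v.toMul)) * e⁻¹ =
        (e * (v.toMul : Coll P L) * e⁻¹) * (e * u (Mf d v.toMul) * e⁻¹) by group,
      hAe, hBe, ← mul_assoc, hcomm (hu _).1 (hAT _), mul_assoc, ← hmulU] at h
    refine ((hM (e • d) (Coll.smul_mem_of_fixed hel hd) hfY _ _).mp h).trans ?_
    show Additive.ofMul (v.toMul⁻¹ * (Mf d v.toMul * Mf d v.toMul)) = (M d + M d - 1) v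
    rw [ofMul_mul, ofMul_mul, ofMul_inv, neg_add_eq_sub]
    rfl
  -- the field
  have hcardA : Nat.card A = ord(P, L) := card_direction hl hX
  obtain ⟨p, hp, hexp⟩ := TwoDir.exists_prime le_rfl hl.twoDir
  have hpV : ∀ v : V, p • v = 0 := fun v => by
    show Additive.ofMul (v.toMul ^ p) = 0
    rw [show v.toMul ^ p = 1 from Subtype.ext (by simpa using hexp _ (hAT v.toMul)), ofMul_one]
  haveI : Nontrivial V := by
    have : Nontrivial A := Finite.one_lt_card_iff_nontrivial.mp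
      (hcardA ▸ ProjectivePlane.one_lt_order P L)
    exact inferInstanceAs (Nontrivial (Additive A))
  let Sm : AddSubmonoid (AddMonoid.End V) :=
    { carrier := {a | ∃ c, c ∈ l ∧ c ≠ Y ∧ M c = a}
      zero_mem' := ⟨X, hX, hXY, hMX⟩
      add_mem' := by
        rintro a b ⟨c, hc, hcY, rfl⟩ ⟨d, hd, hdY, rfl⟩
        exact hshear c d hc hcY hd hdY }
  let S : AddSubgroup (AddMonoid.End V) :=
    { Sm with
      neg_mem' := fun {a} ha => by
        have : -a = (p - 1) • a := by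
          refine neg_eq_of_add_eq_zero_right ?_
          refine (succ_nsmul' a (p - 1)).symm.trans ?_
          rw [Nat.sub_add_cancel hp.one_le]
          exact AddMonoidHom.ext fun v => hpV (a v)
        rw [this]
        exact Sm.nsmul_mem ha _ }
  have hS : ∀ a, a ∈ S ↔ ∃ c, c ∈ l ∧ c ≠ Y ∧ M c = a := fun a => Iff.rfl
  have h1S : (1 : AddMonoid.End V) ∈ S := (hS 1).mpr ⟨U, hU, hYU.symm, hMU⟩
  haveI : Finite V := inferInstanceAs (Finite (Additive A))
  obtain ⟨R, hR, hRf⟩ := Lib.RankOneFF.exists_subring hp hpV S h1S (fun a ha a0 => by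
    obtain ⟨d, hd, hdY, rfl⟩ := (hS a).mp ha
    have hdX : d ≠ X := fun h => a0 (h ▸ hMX)
    obtain ⟨f, hf, hfY, e⟩ := hinvert d hd hdY hdX
    have hb : (1 + 1 - M f) * M d = 1 := by rw [sub_mul, add_mul, one_mul, e]; abel
    refine ⟨1 + 1 - M f, S.sub_mem (S.add_mem h1S h1S) ((hS _).mpr ⟨f, hf, hfY, rfl⟩), ?_, hb⟩
    have hinj : Function.Injective (M d) := fun v w e' => by
      have := congrArg (fun z => (1 + 1 - M f : AddMonoid.End V) z) e'
      have h' : ((1 + 1 - M f) * M d) v = ((1 + 1 - M f) * M d) w := this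
      rwa [hb] at h'
    refine AddMonoidHom.ext fun v => ?_
    obtain ⟨w, rfl⟩ := Finite.injective_iff_surjective.mp hinj v
    show M d (((1 + 1 - M f) * M d) w) = M d w
    rw [hb]
    rfl)
  letI := hRf.toField
  haveI : Finite (AddMonoid.End V) :=
    Finite.of_injective (fun f => (f : V → V)) DFunLike.coe_injective
  haveI : Small.{0} R := Countable.toSmall R
  let F := Shrink.{0} R
  haveI : Finite F := Finite.of_equiv R (equivShrink R)
  let ι : F ≃+* R := Shrink.ringEquiv R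
  have hmemR : ∀ {a}, a ∈ R ↔ ∃ c, c ∈ l ∧ c ≠ Y ∧ M c = a := fun {a} => by
    rw [← SetLike.mem_coe, hR]; exact hS a
  have hcardR : Nat.card R = ord(P, L) := by
    rw [← ncard_line_diff (P := P) hY, ← Nat.card_coe_set_eq]
    refine (Nat.card_eq_of_bijective (fun c : {q : P | q ∈ l ∧ q ≠ Y} =>
      (⟨M c.1, hmemR.mpr ⟨c.1, c.2.1, c.2.2, rfl⟩⟩ : R)) ⟨fun c d e => Subtype.ext
        (hMinj _ _ c.2.1 c.2.2 d.2.1 d.2.2 (congrArg Subtype.val e)), ?_⟩).symm
    rintro ⟨a, ha⟩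
    obtain ⟨c, hc, hcY, rfl⟩ := hmemR.mp ha
    exact ⟨⟨c, hc, hcY⟩, rfl⟩
  obtain ⟨v0, hv0⟩ := exists_ne (0 : V)
  let ev : F →+ V :=
    { toFun := fun a => (ι a : AddMonoid.End V) v0
      map_zero' := by simp
      map_add' := fun a b => by rw [map_add, Subring.coe_add]; rfl }
  have hev : Function.Bijective ev := by
    refine (Nat.bijective_iff_injective_and_card _).mpr ⟨(injective_iff_map_eq_zero _).mpr
      fun a ha => ?_, ?_⟩
    · by_contra h0
      refine hv0 ?_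
      have : (ι a⁻¹ : AddMonoid.End V) * (ι a : AddMonoid.End V) = 1 := by
        rw [← Subring.coe_mul, ← map_mul, inv_mul_cancel₀ h0, map_one, Subring.coe_one]
      calc v0 = ((ι a⁻¹ : AddMonoid.End V) * (ι a : AddMonoid.End V)) v0 := by rw [this]; rfl
        _ = (ι a⁻¹ : AddMonoid.End V) (ev a) := rfl
        _ = 0 := by rw [ha, map_zero]
    · rw [Nat.card_congr ι.toEquiv, hcardR, ← hcardA]
      exact Nat.card_congr Additive.ofMul
  let e' : F ≃+ V := AddEquiv.ofBijective ev hev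
  let slf : P → F := fun c => if h : c ∈ l ∧ c ≠ Y
    then ι.symm ⟨M c, hmemR.mpr ⟨c, h.1, h.2, rfl⟩⟩ else 0
  -- coordinates of a translation
  have hdec : ∀ t ∈ T, ∃ x : A, ∃ x' : A, t = (x : Coll P L) * u x' := fun t ht => by
    obtain ⟨x, hx, y, hy, e⟩ := Trans.decomp hl ht hX hY hXY
    obtain ⟨x', rfl⟩ := husurj y hy
    exact ⟨⟨x, hx⟩, x', e⟩
  have hdec1 : ∀ a a' b b' : A, (a : Coll P L) * u a' = b * u b' → a = b ∧ a' = b' := by
    intro a a' b b' e
    have h : ((b⁻¹ * a : A) : Coll P L) = u b' * (u a')⁻¹ := by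
      rw [eq_mul_inv_iff_mul_eq, Subgroup.coe_mul, Subgroup.coe_inv, mul_assoc, e,
        inv_mul_cancel_left]
    have hab : b⁻¹ * a = 1 := Subtype.ext
      (hcap hXY (b⁻¹ * a).2 (h ▸ mul_mem (hu b') (inv_mem (hu a'))))
    have hab' : a = b := (inv_mul_eq_one.mp hab).symm
    subst hab'
    exact ⟨rfl, huinj (mul_left_cancel e)⟩
  let p1 : Coll P L → A := fun t => if h : t ∈ T then (hdec t h).choose else 1
  let p2 : Coll P L → A := fun t => if h : t ∈ T then (hdec t h).choose_spec.choose else 1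
  have hp12 : ∀ t ∈ T, t = (p1 t : Coll P L) * u (p2 t) := fun t ht => by
    simp only [p1, p2, dif_pos ht]
    exact (hdec t ht).choose_spec.choose_spec
  haveI : Fintype F := Fintype.ofFinite F
  refine ⟨F, inferInstance, inferInstance, (Nat.card_congr ι.toEquiv).trans hcardR,
    fun t => e'.symm (Additive.ofMul (p1 t)), fun t => e'.symm (Additive.ofMul (p2 t)), slf,
    ?_, ?_, ?_, ?_, ?_⟩
  · intro s hs t ht
    have h : ((p1 s * p1 t : A) : Coll P L) * u (p2 s * p2 t) =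
        (p1 (s * t) : Coll P L) * u (p2 (s * t)) := by
      rw [← hp12 _ (mul_mem hs ht), hmulU, Subgroup.coe_mul, mul_assoc, ← mul_assoc (p1 t : Coll P L),
        hcomm (hAT (p1 t)) (hu (p2 s)).1, mul_assoc (u (p2 s)), ← mul_assoc (p1 s : Coll P L),
        ← hp12 s hs, ← hp12 t ht]
    obtain ⟨e1, e2⟩ := hdec1 _ _ _ _ h
    simp only [← e1, ← e2, ofMul_mul, map_add, and_self]
  · intro t ht h1 h2
    rw [EmbeddingLike.map_eq_zero_iff, ofMul_eq_zero] at h1 h2
    rw [hp12 t ht, h1, h2, hu1', Subgroup.coe_one, one_mul]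
  · intro t ht
    rw [EmbeddingLike.map_eq_zero_iff, ofMul_eq_zero]
    constructor
    · intro h
      refine Subtype.ext (hcap hXY (p1 t).2 ⟨hAT _, ?_⟩)
      rw [eq_mul_inv_of_mul_eq (hp12 t ht).symm]
      exact (Cn Y).mul_mem h ((Cn Y).inv_mem (hu _).2)
    · intro h
      rw [hp12 t ht, h, Subgroup.coe_one, one_mul]
      exact (hu _).2
  · intro c hc hcY t ht
    have hkey : (M c) (Additive.ofMul (p1 t)) = Additive.ofMul (p2 t) ↔
        e'.symm (Additive.ofMul (p2 t)) = slf c * e'.symm (Additive.ofMul (p1 t)) := by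
      obtain ⟨a, ha⟩ := e'.surjective (Additive.ofMul (p1 t))
      rw [AddEquiv.symm_apply_eq, ← ha, AddEquiv.symm_apply_apply, eq_comm]
      have : e' (slf c * a) = M c (e' a) := by
        show (ι (slf c * a) : AddMonoid.End V) v0 = M c ((ι a : AddMonoid.End V) v0)
        simp only [slf, dif_pos (And.intro hc hcY), map_mul, RingEquiv.apply_symm_apply]
        rfl
      rw [this]
    refine Iff.trans ?_ hkey
    rw [← hM c hc hcY, ← hp12 t ht]
    exact ⟨fun h => ⟨ht, h⟩, fun h => h.2⟩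
  · intro c d hc hcY hd hdY e
    simp only [slf, dif_pos (And.intro hc hcY), dif_pos (And.intro hd hdY), EmbeddingLike.apply_eq_iff_eq,
      Subtype.mk.injEq] at e
    exact hMinj c d hc hcY hd hdY e

end Cfsg.Agent.OstromWagner
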