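import Cfsg.Agent.Lib.OstromWagner.Involution

/-!
# Subplanes

Closed sets with a quadrangle are projective planes; the fixed elements of a group form one; the
fixed subplane of a Baer involution has order `√n`.
-/

set_option autoImplicit false
set_option linter.style.haveILetI false
set_option linter.unusedSectionVars false
set_option linter.unusedVariables false

namespace Cfsg.Agent.OstromWagner

open Configuration

variable {P L : Type*} [Membership P L]

/-- A subplane. -/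
structure SubPlane (P L : Type*) [Membership P L] where
  /-- the points -/
  pts : Set P
  /-- the lines -/
  lns : Set L
  join : ∀ p ∈ pts, ∀ q ∈ pts, p ≠ q → ∀ l : L, p ∈ l → q ∈ l → l ∈ lns
  meet : ∀ l ∈ lns, ∀ m ∈ lns, l ≠ m → ∀ p : P, p ∈ l → p ∈ m → p ∈ pts
  quad : HasQuad L pts

namespace SubPlane

instance (Q : SubPlane P L) : Membership Q.pts Q.lns :=
  ⟨fun l p => (p : P) ∈ (l : L)⟩

theorem mem_iff {Q : SubPlane P L} {p : Q.pts} {l : Q.lns} : p ∈ l ↔ (p : P) ∈ (l : L) := Iff.rfl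

variable [ProjectivePlane P L] [Finite P] [Finite L] (Q : SubPlane P L)

noncomputable instance : ProjectivePlane Q.pts Q.lns where
  exists_point l := by
    obtain ⟨a, ha, b, hb, c, hc, d, -, habc, -⟩ := Q.quad
    by_contra hn
    push Not at hn
    exact habc l.1 (hn ⟨a, ha⟩) (hn ⟨b, hb⟩) (hn ⟨c, hc⟩)
  exists_line p := by
    obtain ⟨a, ha, b, hb, c, hc, d, hd, habc, -, hacd, -⟩ := Q.quad
    obtain ⟨hab, hac, -⟩ := habc.ne
    obtain ⟨-, -, hcd⟩ := hacd.ne
    obtain ⟨l1, h1a, h1b⟩ := exists_join (L := L) hab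
    obtain ⟨l2, h2c, h2d⟩ := exists_join (L := L) hcd
    obtain ⟨l3, h3a, h3c⟩ := exists_join (L := L) hac
    by_contra hn
    push Not at hn
    have e1 := hn ⟨l1, Q.join a ha b hb hab l1 h1a h1b⟩
    have e2 := hn ⟨l2, Q.join c hc d hd hcd l2 h2c h2d⟩
    have e3 := hn ⟨l3, Q.join a ha c hc hac l3 h3a h3c⟩
    have h13 : l1 ≠ l3 := fun e => habc l1 h1a h1b (e ▸ h3c)
    have hpa : (p : P) = a := point_unique h13 e1 e3 h1a h3a
    have e2' : (p : P) ∈ l2 := e2
    exact hacd l2 (hpa ▸ e2') h2c h2d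
  eq_or_eq h1 h2 h3 h4 := (Nondegenerate.eq_or_eq (P := P) (L := L) h1 h2 h3 h4).imp Subtype.ext Subtype.ext
  mkPoint {l m} h :=
    ⟨HasPoints.mkPoint (fun e => h (Subtype.ext e)),
      Q.meet l.1 l.2 m.1 m.2 (fun e => h (Subtype.ext e)) _ (HasPoints.mkPoint_ax _).1
        (HasPoints.mkPoint_ax _).2⟩
  mkPoint_ax h := HasPoints.mkPoint_ax (P := P) fun e => h (Subtype.ext e)
  mkLine {p q} h :=
    ⟨HasLines.mkLine (fun e => h (Subtype.ext e)),
      Q.join p.1 p.2 q.1 q.2 (fun e => h (Subtype.ext e)) _ (HasLines.mkLine_ax _).1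
        (HasLines.mkLine_ax _).2⟩
  mkLine_ax h := HasLines.mkLine_ax (L := L) fun e => h (Subtype.ext e)
  exists_config := by
    obtain ⟨a, ha, b, hb, c, hc, d, hd, habc, habd, hacd, hbcd⟩ := Q.quad
    obtain ⟨hab, hac, -⟩ := habc.ne
    obtain ⟨-, -, hcd⟩ := hacd.ne
    obtain ⟨l1, h1c, h1d⟩ := exists_join (L := L) hcd
    obtain ⟨l2, h2a, h2b⟩ := exists_join (L := L) hab
    obtain ⟨l3, h3a, h3c⟩ := exists_join (L := L) hac
    exact ⟨⟨d, hd⟩, ⟨a, ha⟩, ⟨b, hb⟩, ⟨l1, Q.join c hc d hd hcd l1 h1c h1d⟩,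
      ⟨l2, Q.join a ha b hb hab l2 h2a h2b⟩, ⟨l3, Q.join a ha c hc hac l3 h3a h3c⟩,
      habd l2 h2a h2b, hacd l3 h3a h3c, fun h => hacd l1 h h1c h1d, h2a, h3a,
      fun h => hbcd l1 h h1c h1d, h2b, fun h => habc l3 h3a h h3c⟩

theorem ncard_pts :
    Q.pts.ncard = ord(Q.pts, Q.lns) ^ 2 + ord(Q.pts, Q.lns) + 1 :=
  (Nat.card_coe_set_eq _).symm.trans (card_pt (L := Q.lns))

theorem ncard_on {l : L} (hl : l ∈ Q.lns) :
    {p : P | p ∈ Q.pts ∧ p ∈ l}.ncard = ord(Q.pts, Q.lns) + 1 := by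
  rw [← ncard_line (P := Q.pts) (⟨l, hl⟩ : Q.lns),
    ← Set.ncard_image_of_injective _ Subtype.val_injective]
  congr 1
  ext p
  exact ⟨fun h => ⟨⟨p, h.1⟩, h.2, rfl⟩, by rintro ⟨q, hq, rfl⟩; exact ⟨q.2, hq⟩⟩

/-- The collineations stabilising a subplane. -/
def stab : Subgroup (Coll P L) where
  carrier := {g | (∀ p, g • p ∈ Q.pts ↔ p ∈ Q.pts) ∧ ∀ l, g • l ∈ Q.lns ↔ l ∈ Q.lns}
  one_mem' := ⟨fun p => by rw [one_smul], fun l => by rw [one_smul]⟩
  mul_mem' hg hh := ⟨fun p => by rw [mul_smul, hg.1, hh.1], fun l => by rw [mul_smul, hg.2, hh.2]⟩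
  inv_mem' hg := ⟨fun p => by rw [← hg.1, smul_inv_smul], fun l => by rw [← hg.2, smul_inv_smul]⟩

/-- Restriction to a subplane. -/
def res : Q.stab →* Coll Q.pts Q.lns where
  toFun g :=
    ⟨⟨fun p => ⟨(g : Coll P L) • (p : P), (g.2.1 p).mpr p.2⟩,
      fun p => ⟨(g : Coll P L)⁻¹ • (p : P), (((Q.stab).inv_mem g.2).1 p).mpr p.2⟩,
      fun p => Subtype.ext (inv_smul_smul _ _), fun p => Subtype.ext (smul_inv_smul _ _)⟩,
    ⟨fun l => ⟨(g : Coll P L) • (l : L), (g.2.2 l).mpr l.2⟩,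
      fun l => ⟨(g : Coll P L)⁻¹ • (l : L), (((Q.stab).inv_mem g.2).2 l).mpr l.2⟩,
      fun l => Subtype.ext (inv_smul_smul _ _), fun l => Subtype.ext (smul_inv_smul _ _)⟩,
    fun p l => Coll.smul_mem _ (p : P) (l : L)⟩
  map_one' := Coll.ext (Equiv.ext fun p => Subtype.ext (one_smul _ (p : P)))
    (Equiv.ext fun l => Subtype.ext (one_smul _ (l : L)))
  map_mul' g h := Coll.ext (Equiv.ext fun p => Subtype.ext (mul_smul _ _ (p : P)))
    (Equiv.ext fun l => Subtype.ext (mul_smul _ _ (l : L)))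

theorem res_smul (g : Q.stab) (p : Q.pts) : (Q.res g • p : Q.pts).1 = (g : Coll P L) • (p : P) :=
  rfl

theorem res_eq_one_iff (g : Q.stab) :
    Q.res g = 1 ↔ ∀ p ∈ Q.pts, (g : Coll P L) • p = p := by
  refine ⟨fun h p hp => ?_, fun h => Coll.eq_one_of_forall fun p => Subtype.ext (h p p.2)⟩
  have := congrArg (fun k : Coll Q.pts Q.lns => (k • (⟨p, hp⟩ : Q.pts)).1) h
  simpa [res_smul] using this

end SubPlane

/-- The points fixed by a group. -/
def fixP (R : Subgroup (Coll P L)) : Set P := {p | ∀ g ∈ R, g • p = p}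

/-- The lines fixed by a group. -/
def fixL (R : Subgroup (Coll P L)) : Set L := {l | ∀ g ∈ R, g • l = l}

variable [ProjectivePlane P L] [Finite P] [Finite L]

/-- The fixed subplane of a group. -/
def fixedSub (R : Subgroup (Coll P L)) (h : HasQuad L (fixP R)) : SubPlane P L where
  pts := fixP R
  lns := fixL R
  join _ hp _ hq hne _ h1 h2 g hg := Coll.fixed_line_of_two hne (hp g hg) (hq g hg) h1 h2
  meet _ hl _ hm hne _ h1 h2 g hg := Coll.fixed_point_of_two hne (hl g hg) (hm g hg) h1 h2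
  quad := h

theorem normalizer_le_stab (R : Subgroup (Coll P L)) (h : HasQuad L (fixP R)) :
    Subgroup.normalizer (R : Set (Coll P L)) ≤ (fixedSub R h).stab := by
  intro n hn
  have key : ∀ g, g ∈ R → n⁻¹ * g * n ∈ R := fun g hg =>
    (Subgroup.mem_normalizer_iff''.mp hn g).mp hg
  have key' : ∀ g, g ∈ R → n * g * n⁻¹ ∈ R := fun g hg =>
    (Subgroup.mem_normalizer_iff.mp hn g).mp hg
  refine ⟨fun p => ⟨fun hp g hg => ?_, fun hp g hg => ?_⟩,
    fun l => ⟨fun hp g hg => ?_, fun hp g hg => ?_⟩⟩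
  · have := hp _ (key' g hg)
    rwa [mul_smul, mul_smul, inv_smul_smul, smul_left_cancel_iff] at this
  · have := hp _ (key g hg)
    rwa [mul_smul, mul_smul, inv_smul_eq_iff] at this
  · have := hp _ (key' g hg)
    rwa [mul_smul, mul_smul, inv_smul_smul, smul_left_cancel_iff] at this
  · have := hp _ (key g hg)
    rwa [mul_smul, mul_smul, inv_smul_eq_iff] at this

theorem fixP_zpowers (g : Coll P L) : fixP (Subgroup.zpowers g) = {p : P | g • p = p} := by
  ext p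
  refine ⟨fun h => h g (Subgroup.mem_zpowers g), fun h k hk => ?_⟩
  exact (Subgroup.zpowers_le.mpr (show g ∈ MulAction.stabilizer (Coll P L) p from h)) hk

theorem fixL_zpowers (g : Coll P L) : fixL (Subgroup.zpowers g) = {l : L | g • l = l} := by
  ext l
  refine ⟨fun h => h g (Subgroup.mem_zpowers g), fun h k hk => ?_⟩
  exact (Subgroup.zpowers_le.mpr (show g ∈ MulAction.stabilizer (Coll P L) l from h)) hk

/-- A Baer involution: the order is the square of that of the fixed subplane. -/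
theorem order_eq_sq {g : Coll P L} (hg : g * g = 1) (g1 : g ≠ 1)
    (hq : HasQuad L (fixP (Subgroup.zpowers g))) :
    ord(P, L) = ord((fixedSub _ hq).pts, (fixedSub _ hq).lns) ^ 2 := by
  set Q := fixedSub _ hq with hQ
  have hpts : ∀ x, x ∈ Q.pts ↔ g • x = x := fun x => by
    show x ∈ fixP (Subgroup.zpowers g) ↔ _
    rw [fixP_zpowers]
    rfl
  have hlns : ∀ m, m ∈ Q.lns ↔ g • m = m := fun m => by
    show m ∈ fixL (Subgroup.zpowers g) ↔ _
    rw [fixL_zpowers]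
    rfl
  obtain ⟨x, hx⟩ : ∃ x : P, g • x ≠ x := by
    by_contra h
    push Not at h
    exact g1 (Coll.eq_one_of_forall h)
  obtain ⟨t, hxt, ht⟩ := exists_fixed_line_through hg hx
  have hnf : ∀ m : L, x ∈ m → m ≠ t → g • m ≠ m := fun m hm hmt he =>
    hx (Coll.fixed_point_of_two hmt he ht hm hxt)
  have key : {m : L | x ∈ m ∧ m ≠ t}.ncard = {q : P | q ∈ Q.pts ∧ q ∉ t}.ncard := by
    refine Set.ncard_congr (fun m hm => (exists_fixed_on_line hg (hnf m hm.1 hm.2)).choose) ?_ ?_ ?_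
    · intro m hm
      obtain ⟨h1, h2⟩ := (exists_fixed_on_line hg (hnf m hm.1 hm.2)).choose_spec
      refine ⟨(hpts _).mpr h2, fun h => hx ?_⟩
      rwa [point_unique hm.2 hm.1 hxt h1 h]
    · intro m m' hm hm' e
      obtain ⟨h1, h2⟩ := (exists_fixed_on_line hg (hnf m hm.1 hm.2)).choose_spec
      obtain ⟨h1', h2'⟩ := (exists_fixed_on_line hg (hnf m' hm'.1 hm'.2)).choose_spec
      exact line_unique (fun h : x = (exists_fixed_on_line hg (hnf m hm.1 hm.2)).choose =>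
        hx (by rw [h]; exact h2)) hm.1 h1 hm'.1 (e ▸ h1')
    · rintro q ⟨hq1, hq2⟩
      have hxq : x ≠ q := fun e => hx (by rw [e]; exact (hpts q).mp hq1)
      obtain ⟨m, h1, h2⟩ := exists_join (L := L) hxq
      have hmt : m ≠ t := fun e => hq2 (e ▸ h2)
      refine ⟨m, ⟨h1, hmt⟩, ?_⟩
      obtain ⟨k1, k2⟩ := (exists_fixed_on_line hg (hnf m h1 hmt)).choose_spec
      by_contra hne
      exact hnf m h1 hmt (Coll.fixed_line_of_two hne k2 ((hpts q).mp hq1) k1 h2)
  rw [ncard_lines_diff hxt] at key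
  have h2 := Set.ncard_inter_add_ncard_sdiff_eq_ncard Q.pts {q : P | q ∈ t}
  rw [Q.ncard_pts, show Q.pts ∩ {q : P | q ∈ t} = {q : P | q ∈ Q.pts ∧ q ∈ t} from rfl,
    Q.ncard_on ((hlns t).mpr ht),
    show Q.pts \ {q : P | q ∈ t} = {q : P | q ∈ Q.pts ∧ q ∉ t} from rfl, ← key] at h2
  omega

end Cfsg.Agent.OstromWagner
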