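import Cfsg.Agent.Lib.OstromWagner.Persp

/-!
# Translations

The group of translations with a given axis; translation lines give a prime power order.
-/

set_option autoImplicit false
set_option linter.style.haveILetI false

namespace Cfsg.Agent.OstromWagner

open Configuration

variable {P L : Type*} [Membership P L]

theorem card_dvd_of_free {G X : Type*} [Group G] [Finite X] [MulAction G X] (H : Subgroup G)
    [Finite H] (S : Set X) (hinv : ∀ g ∈ H, ∀ x ∈ S, g • x ∈ S)
    (hfree : ∀ g ∈ H, ∀ x ∈ S, g • x = x → g = 1) : Nat.card H ∣ S.ncard := by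
  classical
  letI : MulAction H S :=
    { smul := fun g x => ⟨(g : G) • (x : X), hinv g g.2 x x.2⟩
      one_smul := fun x => Subtype.ext (one_smul G (x : X))
      mul_smul := fun g h x => Subtype.ext (mul_smul (g : G) (h : G) (x : X)) }
  have hst : ∀ x : S, MulAction.stabilizer H x = ⊥ := fun x =>
    (Subgroup.eq_bot_iff_forall _).mpr fun g hg =>
      Subtype.ext (hfree g g.2 x x.2 (congrArg Subtype.val hg))
  haveI := Fintype.ofFinite (Quotient (MulAction.orbitRel H S))
  rw [← Nat.card_coe_set_eq, Nat.card_congr (MulAction.selfEquivSigmaOrbits H S), Nat.card_sigma]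
  refine Finset.dvd_sum fun ω _ => ?_
  have h := MulAction.index_stabilizer H ω.out
  rw [hst, Subgroup.index_bot, ← Nat.card_coe_set_eq] at h
  rw [h]

variable [ProjectivePlane P L] [Finite P] [Finite L]

/-- The centre lies on the line joining a point to its image. -/
theorem centre_mem {c p : P} {g : Coll P L} {m : L} (hg : g ∈ Cn c) (hp : g • p ≠ p) (hpm : p ∈ m)
    (hgm : g • p ∈ m) : c ∈ m := by
  obtain ⟨l, hl1, hl2⟩ := exists_join' (L := L) c p
  exact line_unique hp (Coll.smul_mem_of_fixed (hg l hl1) hl2) hl2 hgm hpm ▸ hl1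

/-- The translations with axis `a`. -/
def Trans (a : L) : Subgroup (Coll P L) where
  carrier := {g | g ∈ Ax a ∧ ∀ p, p ∉ a → g • p = p → g = 1}
  one_mem' := ⟨one_mem _, fun _ _ _ => rfl⟩
  inv_mem' := fun ⟨h1, h2⟩ => ⟨inv_mem h1, fun p hp e =>
    inv_eq_one.mpr (h2 p hp (inv_smul_eq_iff.mp e).symm)⟩
  mul_mem' := by
    intro g h hg hh
    refine ⟨mul_mem hg.1 hh.1, fun p hp e => ?_⟩
    by_contra hne
    rw [mul_smul] at e
    by_cases hx : h • p = p
    · rw [hx] at e
      exact hne (by rw [hh.2 p hp hx, hg.2 p hp e, mul_one])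
    have hg1 : g⁻¹ • p = h • p := inv_smul_eq_iff.mpr e.symm
    obtain ⟨m, hm1, hm2⟩ := exists_join (L := L) (Ne.symm hx)
    obtain ⟨c, hc⟩ := Ax.exists_centre hh.1
    obtain ⟨d, hd⟩ := Ax.exists_centre (inv_mem hg.1)
    have hca : c ∈ a := by
      by_contra hca
      exact hx (by rw [hh.2 c hca (Cn.smul_centre hc), one_smul])
    have hda : d ∈ a := by
      by_contra hda
      have := hg.2 d hda (inv_smul_eq_iff.mp (Cn.smul_centre hd)).symm
      rw [this, one_smul] at e
      exact hx e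
    have hma : m ≠ a := fun em => hp (em ▸ hm1)
    have hcd : d = c := point_unique hma (centre_mem hd (hg1 ▸ hx) hm1 (hg1 ▸ hm2)) hda
      (centre_mem hc hx hm1 hm2) hca
    subst hcd
    have hgh : g * h ∈ Cn d := mul_mem (inv_mem_iff.mp hd) hc
    rcases (fixed_iff (mul_mem hg.1 hh.1) hgh hne p).mp (by rw [mul_smul, e]) with h' | h'
    · exact hp h'
    · exact hp (h' ▸ hda)

theorem Trans.ax {a : L} {g : Coll P L} (hg : g ∈ Trans a) : g ∈ Ax a := hg.1

theorem Trans.eq_one {a : L} {g : Coll P L} (hg : g ∈ Trans a) {p : P} (hp : p ∉ a)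
    (e : g • p = p) : g = 1 := hg.2 p hp e

theorem Trans.centre_mem_axis {a : L} {c : P} {g : Coll P L} (hg : g ∈ Trans a) (hc : g ∈ Cn c)
    (h1 : g ≠ 1) : c ∈ a := by
  by_contra hca
  exact h1 (Trans.eq_one hg hca (Cn.smul_centre hc))

theorem mem_Trans {a : L} {c : P} {g : Coll P L} (ha : g ∈ Ax a) (hc : g ∈ Cn c) (hca : c ∈ a) :
    g ∈ Trans a := by
  refine ⟨ha, fun p hp e => ?_⟩
  by_contra h1
  rcases (fixed_iff ha hc h1 p).mp e with h | h
  · exact hp h
  · exact hp (h ▸ hca)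

theorem Trans.smul_not_mem {a : L} {g : Coll P L} (hg : g ∈ Trans a) {p : P} (hp : p ∉ a) :
    g • p ∉ a := fun h => hp (by
  rw [← Ax.smul_line hg.1, g.smul_mem] at h
  exact h)

theorem conj_mem_Trans {a : L} {g : Coll P L} (hg : g ∈ Trans a) (h : Coll P L) :
    h * g * h⁻¹ ∈ Trans (h • a) := by
  refine ⟨conj_mem_Ax hg.1 h, fun p hp e => ?_⟩
  rw [Coll.mem_smul_iff] at hp
  rw [mul_smul, mul_smul, eq_comm, ← inv_smul_eq_iff, eq_comm] at e
  rw [Trans.eq_one hg hp e, mul_one, mul_inv_cancel]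

/-- Translations with distinct centres commute. -/
theorem commute_of_centre_ne {a : L} {c d : P} {g h : Coll P L} (hg : g ∈ Ax a) (hgc : g ∈ Cn c)
    (hh : h ∈ Ax a) (hhd : h ∈ Cn d) (hc : c ∈ a) (hd : d ∈ a) (hcd : c ≠ d) : Commute g h := by
  set k := g * h * g⁻¹ * h⁻¹ with hk
  have hkd : k ∈ Cn d := by
    have := conj_mem_Cn hhd g
    rw [hg d hd] at this
    exact mul_mem this (inv_mem hhd)
  have hkc : k ∈ Cn c := by
    have := conj_mem_Cn (inv_mem hgc) h
    rw [hh c hc] at this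
    have h2 := mul_mem hgc this
    rwa [show g * (h * g⁻¹ * h⁻¹) = k by simp only [hk, mul_assoc]] at h2
  have hk1 : k = 1 := by_contra fun h1 => hcd (centre_unique hkc hkd h1)
  exact commutatorElement_eq_one_iff_commute.mp hk1

variable {a : L}

/-- A group of translations with two directions. -/
def TwoDir (H : Subgroup (Coll P L)) : Prop :=
  ∃ g ∈ H, ∃ h ∈ H, ∃ c d : P, g ≠ 1 ∧ h ≠ 1 ∧ g ∈ Cn c ∧ h ∈ Cn d ∧ c ≠ d

omit [ProjectivePlane P L] [Finite P] [Finite L] in
theorem TwoDir.other {H : Subgroup (Coll P L)} (h2 : TwoDir H) (c : P) :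
    ∃ k ∈ H, ∃ d : P, k ≠ 1 ∧ k ∈ Cn d ∧ d ≠ c := by
  obtain ⟨g, hg, h, hh, c0, d0, g1, h1, gc, hd, hne⟩ := h2
  by_cases e : c0 = c
  · exact ⟨h, hh, d0, h1, hd, fun e' => hne (e.trans e'.symm)⟩
  · exact ⟨g, hg, c0, g1, gc, e⟩

theorem TwoDir.commute {H : Subgroup (Coll P L)} (hH : H ≤ Trans a) (h2 : TwoDir H)
    {g h : Coll P L} (hg : g ∈ H) (hh : h ∈ H) : Commute g h := by
  rcases eq_or_ne g 1 with rfl | g1
  · exact Commute.one_left _
  rcases eq_or_ne h 1 with rfl | h1
  · exact Commute.one_right _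
  obtain ⟨c, hc⟩ := Ax.exists_centre (hH hg).1
  obtain ⟨d, hd⟩ := Ax.exists_centre (hH hh).1
  have hca := Trans.centre_mem_axis (hH hg) hc g1
  have hda := Trans.centre_mem_axis (hH hh) hd h1
  by_cases hcd : c = d
  · obtain ⟨k, hk, e, k1, ke, hec⟩ := h2.other c
    have hea := Trans.centre_mem_axis (hH hk) ke k1
    obtain ⟨f, hf⟩ := Ax.exists_centre (hH (mul_mem hk hh)).1
    have hkh : k * h ≠ 1 := fun he => by
      rw [mul_eq_one_iff_eq_inv] at he
      exact hec (centre_unique ke (he ▸ inv_mem (hcd ▸ hd)) k1)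
    have hfc : f ≠ c := fun he => by
      subst he
      have h3 := mul_mem hf (inv_mem (hcd ▸ hd : h ∈ Cn f))
      rw [mul_inv_cancel_right] at h3
      exact hec (centre_unique ke h3 k1)
    have e1 : Commute g (k * h) := commute_of_centre_ne (hH hg).1 hc (hH (mul_mem hk hh)).1 hf hca
      (Trans.centre_mem_axis (hH (mul_mem hk hh)) hf hkh) (Ne.symm hfc)
    have e2 : Commute g k := commute_of_centre_ne (hH hg).1 hc (hH hk).1 ke hca hea (Ne.symm hec)
    simpa using e2.inv_right.mul_right e1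
  · exact commute_of_centre_ne (hH hg).1 hc (hH hh).1 hd hca hda hcd

theorem TwoDir.exists_prime {H : Subgroup (Coll P L)} (hH : H ≤ Trans a) (h2 : TwoDir H) :
    ∃ p : ℕ, p.Prime ∧ ∀ g ∈ H, g ^ p = 1 := by
  obtain ⟨g, hg, -, -, c, -, g1, -, gc, -, -⟩ := id h2
  obtain ⟨p, hp, hpo⟩ := Nat.exists_prime_and_dvd (orderOf_eq_one_iff.not.mpr g1)
  set g0 := g ^ (orderOf g / p) with hg0
  have hg0H : g0 ∈ H := pow_mem hg _
  have hg0c : g0 ∈ Cn c := pow_mem gc _
  have hg0o : orderOf g0 = p := orderOf_pow_orderOf_div (orderOf_pos g).ne' hpo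
  have hg0ne : g0 ≠ 1 := fun e => hp.ne_one (by rw [← hg0o, e, orderOf_one])
  have hg0p : g0 ^ p = 1 := hg0o ▸ pow_orderOf_eq_one g0
  have key : ∀ h ∈ H, ∀ d, h ∈ Cn d → d ≠ c → h ^ p = 1 := by
    intro h hh d hd hdc
    obtain ⟨f, hf⟩ := Ax.exists_centre (hH (mul_mem hg0H hh)).1
    have hfd : f ≠ d := fun e => by
      subst e
      have h3 := mul_mem hf (inv_mem hd)
      rw [mul_inv_cancel_right] at h3
      exact hdc (centre_unique h3 hg0c hg0ne)
    have hp' : (g0 * h) ^ p = h ^ p := by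
      rw [(TwoDir.commute hH h2 hg0H hh).mul_pow, hg0p, one_mul]
    by_contra hne
    exact hfd (centre_unique (hp' ▸ pow_mem hf p) (pow_mem hd p) hne)
  refine ⟨p, hp, fun h hh => ?_⟩
  obtain ⟨d, hd⟩ := Ax.exists_centre (hH hh).1
  by_cases hdc : d = c
  · obtain ⟨k, hk, e, k1, ke, hec⟩ := h2.other c
    obtain ⟨f, hf⟩ := Ax.exists_centre (hH (mul_mem hk hh)).1
    have hfc : f ≠ c := fun he => by
      subst he
      have h3 := mul_mem hf (inv_mem (hdc ▸ hd : h ∈ Cn f))
      rw [mul_inv_cancel_right] at h3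
      exact hec (centre_unique ke h3 k1)
    have e1 := key _ (mul_mem hk hh) f hf hfc
    rw [(TwoDir.commute hH h2 hk hh).mul_pow, key k hk e ke hec, one_mul] at e1
    exact e1
  · exact key h hh d hd hdc

theorem card_dvd_sq {H : Subgroup (Coll P L)} (hH : H ≤ Trans a) :
    Nat.card H ∣ ord(P, L) ^ 2 := by
  rw [← ncard_affine (P := P) a]
  exact card_dvd_of_free H _ (fun g hg p hp => Trans.smul_not_mem (hH hg) hp)
    (fun g hg p hp e => Trans.eq_one (hH hg) hp e)

theorem card_dvd_order {H : Subgroup (Coll P L)} (hH : H ≤ Trans a) {c : P} (hc : c ∈ a)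
    (hHc : H ≤ Cn c) : Nat.card H ∣ ord(P, L) := by
  obtain ⟨m, hcm, hma, -⟩ := exists_line_ne_ne c a a
  rw [← ncard_line_diff (P := P) hcm]
  refine card_dvd_of_free H _ (fun g hg p hp => ?_) (fun g hg p hp e =>
    Trans.eq_one (hH hg) (fun h => hp.2 (point_unique hma hp.1 h hcm hc)) e)
  refine ⟨Coll.smul_mem_of_fixed (hHc hg m hcm) hp.1, fun e => hp.2 ?_⟩
  exact MulAction.injective g (e.trans (Cn.smul_centre (hHc hg)).symm)

theorem card_of_uniform {H : Subgroup (Coll P L)} (hH : H ≤ Trans a) (C : Set P) (h : ℕ)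
    (hcov : ∀ g ∈ H, g ≠ 1 → ∀ c, g ∈ Cn c → c ∈ C)
    (hh : ∀ c ∈ C, Nat.card (H ⊓ Cn c : Subgroup _) = h) :
    Nat.card H = 1 + C.ncard * (h - 1) := by
  classical
  haveI := Fintype.ofFinite (Coll P L)
  haveI := Fintype.ofFinite P
  let T : P → Finset (Coll P L) := fun c =>
    ((H ⊓ Cn c : Subgroup _) : Set (Coll P L)).toFinset.erase 1
  have hT : ∀ c ∈ C.toFinset, (T c).card = h - 1 := fun c hc => by
    rw [Finset.card_erase_of_mem (by simp [one_mem]), ← Set.ncard_eq_toFinset_card',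
      ← Nat.card_coe_set_eq]
    exact congrArg (· - 1) (hh c (Set.mem_toFinset.mp hc))
  have heq : (H : Set (Coll P L)).toFinset.erase 1 = C.toFinset.biUnion T := by
    ext g
    simp only [Finset.mem_erase, Set.mem_toFinset, SetLike.mem_coe, Finset.mem_biUnion, T,
      Subgroup.mem_inf]
    constructor
    · rintro ⟨g1, hg⟩
      obtain ⟨c, hc⟩ := Ax.exists_centre (hH hg).1
      exact ⟨c, hcov g hg g1 c hc, g1, hg, hc⟩
    · rintro ⟨c, -, g1, hg, -⟩
      exact ⟨g1, hg⟩
  have hdis : (C.toFinset : Set P).PairwiseDisjoint T := by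
    intro c _ d _ hcd
    refine Finset.disjoint_left.mpr fun g hg hg' => hcd ?_
    simp only [T, Finset.mem_erase, Set.mem_toFinset, SetLike.mem_coe, Subgroup.mem_inf] at hg hg'
    exact centre_unique hg.2.2 hg'.2.2 hg.1
  have hcard : ((H : Set (Coll P L)).toFinset.erase 1).card = C.ncard * (h - 1) := by
    rw [heq, Finset.card_biUnion hdis, Finset.sum_congr rfl hT, Finset.sum_const, smul_eq_mul,
      ← Set.ncard_eq_toFinset_card']
  rw [Finset.card_erase_of_mem (by simp [one_mem]), ← Set.ncard_eq_toFinset_card',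
    ← Nat.card_coe_set_eq] at hcard
  have := Nat.card_pos (α := H)
  simp only [SetLike.coe_sort_coe] at hcard
  omega

/-- `a` is a translation line. -/
def FullTrans (a : L) : Prop :=
  ∀ p q : P, p ∉ a → q ∉ a → ∃ g ∈ Trans a, g • p = q

theorem fullTrans_of_card {H : Subgroup (Coll P L)} (hH : H ≤ Trans a)
    (hc : ord(P, L) ^ 2 ≤ Nat.card H) : FullTrans a := by
  intro p q hp hq
  let f : H → {x : P // x ∉ a} := fun g => ⟨g.1 • p, Trans.smul_not_mem (hH g.2) hp⟩
  have hf : Function.Injective f := fun g h e => by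
    have e1 : g.1 • p = h.1 • p := congrArg Subtype.val e
    have : h.1⁻¹ * g.1 = 1 := Trans.eq_one (hH (mul_mem (inv_mem h.2) g.2)) hp
      (by rw [mul_smul, e1, inv_smul_smul])
    exact Subtype.ext (inv_mul_eq_one.mp this).symm
  have hn : Nat.card {x : P // x ∉ a} = ord(P, L) ^ 2 :=
    (Nat.card_coe_set_eq {x : P | x ∉ a}).trans (ncard_affine a)
  obtain ⟨g, hg⟩ := (hf.bijective_of_nat_card_le (hn.symm ▸ hc)).2 ⟨q, hq⟩
  exact ⟨g.1, hH g.2, congrArg Subtype.val hg⟩

theorem FullTrans.card_eq (hf : FullTrans a) : Nat.card (Trans a) = ord(P, L) ^ 2 := by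
  obtain ⟨p, hp, -⟩ := exists_not_mem_two (P := P) a a
  refine Nat.le_antisymm (Nat.le_of_dvd (pow_pos order_pos 2) (card_dvd_sq le_rfl)) ?_
  rw [← ncard_affine (P := P) a, ← Nat.card_coe_set_eq]
  refine Nat.card_le_card_of_surjective
    (fun g : Trans a => (⟨g.1 • p, Trans.smul_not_mem g.2 hp⟩ : {x : P | x ∉ a})) ?_
  rintro ⟨q, hq⟩
  obtain ⟨g, hg, e⟩ := hf p q hp hq
  exact ⟨⟨g, hg⟩, Subtype.ext e⟩

theorem FullTrans.twoDir (hf : FullTrans a) : TwoDir (Trans a) := by
  obtain ⟨p, hp, -⟩ := exists_not_mem_two (P := P) a a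
  have key : ∀ c, c ∈ a → ∃ g ∈ Trans a, g ≠ 1 ∧ g ∈ Cn c := by
    intro c hc
    obtain ⟨m, hcm, hpm⟩ := exists_join' (L := L) c p
    have hma : m ≠ a := fun e => hp (e ▸ hpm)
    obtain ⟨q, hqm, hqp, hqc⟩ := exists_mem_ne_ne m p c
    have hq : q ∉ a := fun h => hqc (point_unique hma hqm h hcm hc)
    obtain ⟨g, hg, e⟩ := hf p q hp hq
    obtain ⟨d, hd⟩ := Ax.exists_centre hg.1
    have hne : g • p ≠ p := by rw [e]; exact hqp
    have g1 : g ≠ 1 := fun h => hne (by rw [h, one_smul])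
    have hdm := centre_mem hd hne hpm (show g • p ∈ m by rw [e]; exact hqm)
    rw [point_unique hma hdm (Trans.centre_mem_axis hg hd g1) hcm hc] at hd
    exact ⟨g, hg, g1, hd⟩
  obtain ⟨c, hc, -⟩ := exists_meet' (P := P) a a
  obtain ⟨d, hd, hdc, -⟩ := exists_mem_ne_ne a c c
  obtain ⟨g, hg, g1, gc⟩ := key c hc
  obtain ⟨h, hh, h1, hh'⟩ := key d hd
  exact ⟨g, hg, h, hh, c, d, g1, h1, gc, hh', Ne.symm hdc⟩

theorem FullTrans.isPrimePow (hf : FullTrans a) : IsPrimePow ord(P, L) := by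
  obtain ⟨p, hp, hexp⟩ := TwoDir.exists_prime le_rfl hf.twoDir
  haveI : Fact p.Prime := ⟨hp⟩
  have hpg : IsPGroup p (Trans (P := P) a) := fun g => ⟨1, Subtype.ext (by simpa using hexp g g.2)⟩
  obtain ⟨m, hm⟩ := IsPGroup.iff_card.mp hpg
  rw [hf.card_eq] at hm
  exact (isPrimePow_pow_iff two_ne_zero).mp (hm ▸ (hp.isPrimePow.pow (fun h0 => by
    rw [h0, pow_zero] at hm
    have := ProjectivePlane.one_lt_order P L
    nlinarith)))

theorem arith_full {n h : ℕ} (hh : 1 < h) (hdvd : h ∣ n) (hn : 0 < n)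
    (hD : 1 + (n + 1) * (h - 1) ∣ n ^ 2) : h = n := by
  obtain ⟨r, rfl⟩ := hdvd
  have e : 1 + (h * r + 1) * (h - 1) = h * (1 + r * (h - 1)) := by
    obtain ⟨j, rfl⟩ : ∃ j, h = j + 1 := ⟨h - 1, by omega⟩
    simp only [Nat.add_sub_cancel]
    ring
  rw [e, show (h * r) ^ 2 = h * (h * r ^ 2) by ring] at hD
  have h1 : 1 + r * (h - 1) ∣ h * r ^ 2 := Nat.dvd_of_mul_dvd_mul_left (by omega) hD
  have hco : Nat.Coprime (1 + r * (h - 1)) (r ^ 2) :=
    Nat.Coprime.pow_right 2 (by rw [Nat.coprime_comm, Nat.coprime_add_mul_left_right]; exact Nat.coprime_one_right r)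
  have h2 := Nat.le_of_dvd (by omega) (hco.dvd_of_dvd_mul_right h1)
  have hr : 0 < r := Nat.pos_of_mul_pos_left hn
  have : r = 1 := by
    by_contra hr1
    nlinarith [Nat.mul_le_mul_right (h - 1) (show 2 ≤ r by omega)]
  rw [this, mul_one]

/-- Equally many translations in every direction, more than one, give a translation line. -/
theorem fullTrans_of_uniform {H : Subgroup (Coll P L)} (hH : H ≤ Trans a) {h : ℕ} (h1 : 1 < h)
    (hh : ∀ c, c ∈ a → Nat.card (H ⊓ Cn c : Subgroup _) = h) : FullTrans a := by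
  have hcard := card_of_uniform hH {x : P | x ∈ a} h
    (fun g hg g1 c hc => (Trans.centre_mem_axis (hH hg) hc g1 : c ∈ a)) hh
  rw [ncard_line] at hcard
  obtain ⟨c, hc, -⟩ := exists_meet' (P := P) a a
  have hd : h ∣ ord(P, L) := hh c hc ▸ card_dvd_order (inf_le_left.trans hH) hc inf_le_right
  have := arith_full h1 hd order_pos (hcard ▸ card_dvd_sq hH)
  refine fullTrans_of_card hH (le_of_eq ?_)
  rw [hcard, this]
  obtain ⟨j, hj⟩ : ∃ j, ord(P, L) = j + 1 := ⟨ord(P, L) - 1, by have := order_pos (P := P) (L := L); omega⟩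
  rw [hj, Nat.add_sub_cancel]
  ring

theorem card_elation_smul (g : Coll P L) (c : P) (a : L) :
    Nat.card (Trans (g • a) ⊓ Cn (g • c) : Subgroup _) = Nat.card (Trans a ⊓ Cn c : Subgroup _) := by
  have hback : ∀ y, y ∈ (Trans (g • a) ⊓ Cn (g • c) : Subgroup _) →
      g⁻¹ * y * g ∈ (Trans a ⊓ Cn c : Subgroup _) := fun y hy =>
    ⟨by simpa using conj_mem_Trans hy.1 g⁻¹, by simpa using conj_mem_Cn hy.2 g⁻¹⟩
  exact (Nat.card_congr
    { toFun := fun x => (⟨g * x.1 * g⁻¹, conj_mem_Trans x.2.1 g, conj_mem_Cn x.2.2 g⟩ :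
        (Trans (g • a) ⊓ Cn (g • c) : Subgroup _))
      invFun := fun x => (⟨g⁻¹ * x.1 * g, hback x.1 x.2⟩ : (Trans a ⊓ Cn c : Subgroup _))
      left_inv := fun x => Subtype.ext (by group)
      right_inv := fun x => Subtype.ext (by group) }).symm

/-- A flag transitive group and one elation: every line is a translation line. -/
theorem fullTrans_of_flag (Γ : Subgroup (Coll P L)) (hl : ∀ l m : L, ∃ g ∈ Γ, g • l = m)
    (hin : ∀ (l : L) (p q : P), p ∈ l → q ∈ l → ∃ g ∈ Γ, g • l = l ∧ g • p = q)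
    {e : Coll P L} {c : P} {b : L} (he : e ≠ 1) (hea : e ∈ Ax b) (hec : e ∈ Cn c) (hcb : c ∈ b) :
    ∀ a : L, FullTrans (P := P) a := by
  intro a
  refine fullTrans_of_uniform le_rfl (h := Nat.card (Trans b ⊓ Cn c : Subgroup _)) ?_ fun d hd => ?_
  · have hne : (Trans b ⊓ Cn c : Subgroup _) ≠ ⊥ := fun hb => he (by
      have : e ∈ (Trans b ⊓ Cn c : Subgroup _) := ⟨mem_Trans hea hec hcb, hec⟩
      rwa [hb, Subgroup.mem_bot] at this)
    exact (Subgroup.one_lt_card_iff_ne_bot _).mpr hne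
  · obtain ⟨g, -, hg⟩ := hl b a
    have hgc : g • c ∈ a := hg ▸ (g.smul_mem c b).mpr hcb
    obtain ⟨g', -, hg'a, hg'c⟩ := hin a (g • c) d hgc hd
    rw [← card_elation_smul (g' * g) c b, mul_smul, mul_smul, hg, hg'a, hg'c]

/-- Two perspectivities with one axis and distinct centres off it give an elation with that axis. -/
theorem exists_trans_of_two (Γ : Subgroup (Coll P L)) {g g' : Coll P L} {c c' : P} (hg : g ∈ Γ)
    (hg' : g' ∈ Γ) (ga : g ∈ Ax a) (ga' : g' ∈ Ax a) (gc : g ∈ Cn c) (gc' : g' ∈ Cn c')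
    (g1 : g ≠ 1) (g1' : g' ≠ 1) (hc : c ∉ a) (hc' : c' ∉ a) (hne : c ≠ c') :
    ∃ e ∈ Γ, e ∈ Trans a ∧ e ≠ 1 := by
  classical
  by_contra hno
  push Not at hno
  set K : Subgroup (Coll P L) := Γ ⊓ Ax a with hK
  haveI := Fintype.ofFinite K
  haveI := Fintype.ofFinite P
  have hfix : ∀ k ∈ K, k ≠ 1 → ∃ p, p ∉ a ∧ k • p = p := fun k hk k1 => by
    by_contra hc
    push Not at hc
    exact k1 (hno k hk.1 ⟨hk.2, fun p hp e => absurd e (hc p hp)⟩)
  let T : P → Finset K := fun q => Finset.univ.filter fun k => k ≠ 1 ∧ k • q = q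
  have hTcard : ∀ q, (T q).card = Nat.card (MulAction.stabilizer K q) - 1 := fun q => by
    have hmem : (1 : K) ∈ Finset.univ.filter fun k : K => k • q = q := by simp
    rw [Nat.card_eq_fintype_card, Fintype.card_subtype, show T q =
      (Finset.univ.filter fun k : K => k • q = q).erase 1 by ext k; simp [T],
      Finset.card_erase_of_mem hmem]
    rfl
  have hdis : ∀ p q, p ∉ a → q ∉ a → p ≠ q → Disjoint (T p) (T q) := fun p q hp hq hpq => by
    refine Finset.disjoint_left.mpr fun k hk hk' => ?_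
    simp only [T, Finset.mem_filter, Finset.mem_univ, true_and] at hk hk'
    exact hk.1 (Subtype.ext (Ax.eq_one_of_two k.2.2 hp hq hpq hk.2 hk'.2))
  have hoa : ∀ p, p ∉ a → ∀ q ∈ MulAction.orbit K p, q ∉ a := by
    rintro p hp _ ⟨k, rfl⟩ h
    refine hp ?_
    change (k.1 • p) ∈ a at h
    rwa [← Ax.smul_line k.2.2, Coll.smul_mem] at h
  let U : P → Finset K := fun p => (MulAction.orbit K p).toFinset.biUnion T
  have hUcard : ∀ p, p ∉ a →
      (U p).card + (MulAction.orbit K p).ncard = Nat.card K := fun p hp => by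
    rw [Finset.card_biUnion fun x hx y hy hxy =>
      hdis x y (hoa p hp x (by simpa using hx)) (hoa p hp y (by simpa using hy)) hxy]
    rw [Finset.sum_congr rfl fun q hq => hTcard q, Set.ncard_eq_toFinset_card', Finset.card_eq_sum_ones,
      ← Finset.sum_add_distrib]
    have horb : ∀ q ∈ (MulAction.orbit K p).toFinset,
        Nat.card (MulAction.stabilizer K q) - 1 + 1 =
          Nat.card (MulAction.stabilizer K p) := fun q hq => by
      rw [Nat.sub_add_cancel Nat.card_pos]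
      have e : MulAction.orbit K q = MulAction.orbit K p :=
        MulAction.orbit_eq_iff.mpr (by simpa using hq)
      have h1 := MulAction.index_stabilizer K q
      rw [e, ← MulAction.index_stabilizer K p] at h1
      have h2 := Subgroup.card_mul_index (MulAction.stabilizer K q)
      rw [h1, ← Subgroup.card_mul_index (MulAction.stabilizer K p)] at h2
      exact Nat.eq_of_mul_eq_mul_right (Nat.pos_of_ne_zero Subgroup.index_ne_zero_of_finite) h2
    rw [Finset.sum_congr rfl horb, Finset.sum_const, smul_eq_mul, ← Set.ncard_eq_toFinset_card',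
      ← MulAction.index_stabilizer, mul_comm]
    exact Subgroup.card_mul_index _
  have hhalf : ∀ p : P, (∃ k ∈ K, k ≠ 1 ∧ k • p = p) →
      2 * (MulAction.orbit K p).ncard ≤ Nat.card K := fun p ⟨k, hk, k1, e⟩ => by
    have h2 : 1 < Nat.card (MulAction.stabilizer K p) := by
      refine (Subgroup.one_lt_card_iff_ne_bot _).mpr fun hb => k1 ?_
      have : (⟨k, hk⟩ : K) ∈ MulAction.stabilizer K p := e
      rw [hb, Subgroup.mem_bot] at this
      exact congrArg Subtype.val this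
    rw [← Subgroup.card_mul_index (MulAction.stabilizer K p), MulAction.index_stabilizer]
    exact Nat.mul_le_mul_right _ h2
  have hUsub : ∀ p, U p ⊆ Finset.univ.erase 1 := fun p k hk => by
    simp only [U, T, Finset.mem_biUnion, Finset.mem_filter] at hk
    obtain ⟨q, -, -, k1, -⟩ := hk
    simpa using k1
  have htot : (Finset.univ.erase (1 : K)).card + 1 = Nat.card K := by
    rw [Finset.card_erase_of_mem (Finset.mem_univ _), Finset.card_univ, Nat.card_eq_fintype_card,
      Nat.sub_add_cancel Fintype.card_pos]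
  have hdisU : ∀ p q, p ∉ a → q ∉ a → q ∉ MulAction.orbit K p → Disjoint (U p) (U q) := by
    intro p q hp hq hpq
    simp only [U, Finset.disjoint_biUnion_left, Finset.disjoint_biUnion_right]
    intro x hx y hy
    refine hdis y x (hoa p hp y (by simpa using hy)) (hoa q hq x (by simpa using hx)) fun e => hpq ?_
    rw [Set.mem_toFinset] at hx hy
    rw [← MulAction.orbit_eq_iff.mpr hy, e, MulAction.orbit_eq_iff.mpr hx]
    exact MulAction.mem_orbit_self q
  have two : ∀ p q, p ∉ a → q ∉ a → (∃ k ∈ K, k ≠ 1 ∧ k • p = p) → (∃ k ∈ K, k ≠ 1 ∧ k • q = q) →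
      q ∉ MulAction.orbit K p → False := by
    intro p q hp hq hkp hkq hpq
    have h := Finset.card_le_card (Finset.union_subset (hUsub p) (hUsub q))
    rw [Finset.card_union_of_disjoint (hdisU p q hp hq hpq)] at h
    have := hUcard p hp
    have := hUcard q hq
    have := hhalf p hkp
    have := hhalf q hkq
    omega
  have hgK : g ∈ K := ⟨hg, ga⟩
  have hgK' : g' ∈ K := ⟨hg', ga'⟩
  have ex : ∃ k ∈ K, k ≠ 1 ∧ k • c = c := ⟨g, hgK, g1, Cn.smul_centre gc⟩
  by_cases horb : c' ∈ MulAction.orbit K c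
  · have h2 : 1 < (MulAction.orbit K c).ncard :=
      (Set.one_lt_ncard (Set.toFinite _)).mpr ⟨c, MulAction.mem_orbit_self c, c', horb, hne⟩
    have hss : U c ⊂ Finset.univ.erase 1 := by
      refine Finset.ssubset_iff_subset_ne.mpr ⟨hUsub c, fun e => ?_⟩
      have := hUcard c hc
      rw [e] at this
      omega
    obtain ⟨k, hk, hk'⟩ := Finset.exists_of_ssubset hss
    have k1 : k ≠ 1 := Finset.ne_of_mem_erase hk
    obtain ⟨d, hd, hkd⟩ := hfix k.1 k.2 fun e => k1 (Subtype.ext e)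
    refine two c d hc hd ex ⟨k.1, k.2, fun e => k1 (Subtype.ext e), hkd⟩ fun hdo => hk' ?_
    simp only [U, T, Finset.mem_biUnion, Set.mem_toFinset, Finset.mem_filter, Finset.mem_univ,
      true_and]
    exact ⟨d, hdo, k1, hkd⟩
  · exact two c c' hc hc' ex ⟨g', hgK', g1', Cn.smul_centre gc'⟩ horb

end Cfsg.Agent.OstromWagner
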