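import Cfsg.Agent.Lib.OstromWagner.Trans

/-!
# Two-transitive collineation groups

The transitivity properties, and: a perspectivity gives elations and translation lines everywhere.
-/

set_option autoImplicit false
set_option linter.style.haveILetI false
set_option linter.unusedSectionVars false

namespace Cfsg.Agent.OstromWagner

open Configuration

variable {P L : Type*} [Membership P L] [ProjectivePlane P L] [Finite P] [Finite L]

/-- The collineations are two-transitive on points. -/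
def TwoTrans (P L : Type*) [Membership P L] : Prop :=
  ∀ p₁ p₂ q₁ q₂ : P, p₁ ≠ p₂ → q₁ ≠ q₂ → ∃ g : Coll P L, g • p₁ = q₁ ∧ g • p₂ = q₂

theorem TwoTrans.pt (h : TwoTrans P L) (p q : P) : ∃ g : Coll P L, g • p = q := by
  obtain ⟨l, hl, -⟩ := exists_join' (L := L) p q
  obtain ⟨p', -, hp', -⟩ := exists_mem_ne_ne l p p
  obtain ⟨q', -, hq', -⟩ := exists_mem_ne_ne l q q
  obtain ⟨g, e, -⟩ := h p p' q q' hp'.symm hq'.symm
  exact ⟨g, e⟩

theorem TwoTrans.line (h : TwoTrans P L) (l m : L) : ∃ g : Coll P L, g • l = m := by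
  obtain ⟨g, -, e⟩ := line_transitive (⊤ : Subgroup (Coll P L))
    (fun p q => (h.pt p q).imp fun _ e => ⟨trivial, e⟩) l m
  exact ⟨g, e⟩

/-- The stabiliser of two points of a line fixes it. -/
theorem TwoTrans.in_line (h : TwoTrans P L) {l : L} {p q : P} (hp : p ∈ l) (hq : q ∈ l) :
    ∃ g : Coll P L, g • l = l ∧ g • p = q := by
  obtain ⟨p', hp', hpp, -⟩ := exists_mem_ne_ne l p p
  obtain ⟨q', hq', hqq, -⟩ := exists_mem_ne_ne l q q
  obtain ⟨g, e, e'⟩ := h p p' q q' hpp.symm hqq.symm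
  refine ⟨g, line_unique hqq.symm ?_ ?_ hq hq', e⟩
  · exact e ▸ (g.smul_mem p l).mpr hp
  · exact e' ▸ (g.smul_mem p' l).mpr hp'

theorem TwoTrans.line_off_point (h : TwoTrans P L) {p : P} {m m' : L} (hm : p ∉ m) (hm' : p ∉ m') :
    ∃ g : Coll P L, g • p = p ∧ g • m = m' := by
  classical
  set H := MulAction.stabilizer (Coll P L) p with hH
  by_contra hc
  push Not at hc
  let ΩP := Quotient (MulAction.orbitRel H P)
  let ΩL := Quotient (MulAction.orbitRel H L)
  obtain ⟨l₀, hl₀, -⟩ := exists_join' (L := L) p p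
  obtain ⟨p₀, -, hp₀, -⟩ := exists_mem_ne_ne l₀ p p
  have h2 : Nat.card ΩP ≤ 2 := by
    have hs : Function.Surjective fun b : Bool => (if b then ⟦p⟧ else ⟦p₀⟧ : ΩP) := by
      intro a
      induction a using Quotient.inductionOn with | h x =>
      by_cases hx : x = p
      · exact ⟨true, by simp [hx]⟩
      · obtain ⟨g, e1, e2⟩ := h p x p p₀ (Ne.symm hx) hp₀.symm
        exact ⟨false, Quotient.sound ⟨⟨g, e1⟩, e2⟩⟩
    simpa using Nat.card_le_card_of_surjective _ hs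
  have key : ∀ a b : L, (∀ g : Coll P L, g • p = p → g • b ≠ a) → (⟦a⟧ : ΩL) ≠ ⟦b⟧ :=
    fun a b hn e => by
      obtain ⟨g, hg⟩ := Quotient.exact e
      exact hn g g.2 hg
  have e1 : ∀ k : L, p ∉ k → (⟦l₀⟧ : ΩL) ≠ ⟦k⟧ := fun k hk => key _ _ fun g hg e => hk (by
    have hh : g • p ∈ g • k := by rw [hg, e]; exact hl₀
    exact (g.smul_mem p k).mp hh)
  have e3 : (⟦m'⟧ : ΩL) ≠ ⟦m⟧ := key _ _ fun g hg e => hc g hg e
  have hi : Function.Injective ![(⟦l₀⟧ : ΩL), ⟦m⟧, ⟦m'⟧] := by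
    have a := e1 m hm
    have b := e1 m' hm'
    intro i j hij
    fin_cases i <;> fin_cases j <;>
      first
      | rfl
      | exact absurd hij a
      | exact absurd hij.symm a
      | exact absurd hij b
      | exact absurd hij.symm b
      | exact absurd hij e3
      | exact absurd hij.symm e3
  have h3 : 3 ≤ Nat.card ΩL := by simpa using Nat.card_le_card_of_injective _ hi
  have h4 : Nat.card ΩP = Nat.card ΩL := card_orbits_eq H
  omega

/-- The stabiliser of a line is transitive off it. -/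
theorem TwoTrans.off_line (h : TwoTrans P L) {l : L} {p q : P} (hp : p ∉ l) (hq : q ∉ l) :
    ∃ g : Coll P L, g • l = l ∧ g • p = q := by
  obtain ⟨g, e⟩ := h.pt p q
  have hq' : q ∉ g • l := fun hh => hp (by rwa [← e, g.smul_mem] at hh)
  obtain ⟨k, hk, e'⟩ := h.line_off_point hq' hq
  exact ⟨k * g, by rw [mul_smul, e'], by rw [mul_smul, e, hk]⟩

theorem TwoTrans.lines (h : TwoTrans P L) (l₁ l₂ m₁ m₂ : L) (hl : l₁ ≠ l₂) (hm : m₁ ≠ m₂) :
    ∃ g : Coll P L, g • l₁ = m₁ ∧ g • l₂ = m₂ := by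
  obtain ⟨g, hg⟩ := h.line l₁ m₁
  have hne : g • l₂ ≠ m₁ := fun e => hl (MulAction.injective g (hg.trans e.symm))
  obtain ⟨k, hk, e⟩ := line_transitive_off (MulAction.stabilizer (Coll P L) m₁) m₁
    (fun g hg => hg)
    (fun p q hp hq => (h.in_line hp hq).imp fun _ e => ⟨e.1, e.2⟩)
    (fun p q hp hq => (h.off_line hp hq).imp fun _ e => ⟨e.1, e.2⟩) hne (Ne.symm hm)
  refine ⟨k * g, ?_, ?_⟩
  · rw [mul_smul, hg]
    exact hk
  · rw [mul_smul]
    exact e

theorem TwoTrans.dual (h : TwoTrans P L) : TwoTrans (Dual L) (Dual P) := by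
  intro l₁ l₂ m₁ m₂ hl hm
  obtain ⟨g, e1, e2⟩ := h.lines l₁ l₂ m₁ m₂ hl hm
  exact ⟨Coll.toDual g, e1, e2⟩

/-- A nontrivial perspectivity makes every line a translation line. -/
theorem TwoTrans.fullTrans (h : TwoTrans P L) {g : Coll P L} {a : L} (g1 : g ≠ 1) (ga : g ∈ Ax a) :
    ∀ l : L, FullTrans (P := P) l := by
  obtain ⟨c, gc⟩ := Ax.exists_centre ga
  obtain ⟨e, b, d, e1, eb, ed, hdb⟩ : ∃ (e : Coll P L) (b : L) (d : P),
      e ≠ 1 ∧ e ∈ Ax b ∧ e ∈ Cn d ∧ d ∈ b := by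
    by_cases hca : c ∈ a
    · exact ⟨g, a, c, g1, ga, gc, hca⟩
    obtain ⟨m, hcm, -⟩ := exists_join' (L := L) c c
    obtain ⟨x, hxm, hxa⟩ := exists_meet' (P := P) m a
    obtain ⟨c', hc'm, hc'c, hc'x⟩ := exists_mem_ne_ne m c x
    have hc'a : c' ∉ a := fun hh => hc'x (point_unique (fun e : m = a => hca (e ▸ hcm)) hc'm hh hxm hxa)
    obtain ⟨k, hka, hkc⟩ := h.off_line hca hc'a
    have ga' := conj_mem_Ax ga k
    have gc' := conj_mem_Cn gc k
    rw [hka] at ga'
    rw [hkc] at gc'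
    obtain ⟨e, -, he, e1⟩ := exists_trans_of_two (a := a) ⊤ (Subgroup.mem_top g)
      (Subgroup.mem_top (k * g * k⁻¹)) ga ga' gc gc' g1
      (fun hh => g1 (by rwa [mul_inv_eq_one, mul_eq_left] at hh)) hca hc'a hc'c.symm
    obtain ⟨d, hd⟩ := Ax.exists_centre he.1
    exact ⟨e, a, d, e1, he.1, hd, Trans.centre_mem_axis he hd e1⟩
  exact fullTrans_of_flag ⊤ (fun l m => (h.line l m).imp fun _ e => ⟨trivial, e⟩)
    (fun l p q hp hq => (h.in_line hp hq).imp fun _ e => ⟨trivial, e.1, e.2⟩) e1 eb ed hdb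

end Cfsg.Agent.OstromWagner
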